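import Mathlib

/-!
Elementary facts on the alternating group of degree five and its double covers with a unique involution.
-/

set_option linter.style.haveILetI false

namespace CfsgLib.Recognition.Zassenhaus

/-- An alternating group element with a frame of three cubic neighbours. -/
theorem perm_five_frame : ∀ a : Equiv.Perm (Fin 5), a * (a * a) = 1 → a ≠ 1 →
    ∃ b c : Equiv.Perm (Fin 5), b * (b * b) = 1 ∧ c * (c * c) = 1 ∧ (a * b) * (a * b) = 1 ∧ (a * c) * (a * c) = 1 ∧
      a * b ≠ b * a ∧ a * c ≠ c * a ∧ ∃ p, a p = p ∧ b p = p ∧ c p ≠ p := by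
  decide +kernel

/-- A partner generating with an element is a conjugate of a neighbour by a neighbour. -/
theorem perm_five_conj : ∀ a : Equiv.Perm (Fin 5), a * (a * a) = 1 → ∀ c : Equiv.Perm (Fin 5), c * (c * c) = 1 →
    a * c ≠ c * a → (a * c) * (a * c) ≠ 1 → (a * (c * c)) * (a * (c * c)) ≠ 1 →
    ∃ b : Equiv.Perm (Fin 5), b * (b * b) = 1 ∧ a * b ≠ b * a ∧
      ((a * b) * (a * b) = 1 ∨ (a * (b * b)) * (a * (b * b)) = 1) ∧
      ((a * (b * b * c * b)) * (a * (b * b * c * b)) = 1 ∨
        (a * ((b * b * c * b) * (b * b * c * b))) * (a * ((b * b * c * b) * (b * b * c * b))) = 1) := by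
  decide +kernel

theorem perm_five_center : ∀ g : Equiv.Perm (Fin 5),
    (∀ h : Equiv.Perm (Fin 5), h * (h * h) = 1 → g * h = h * g) → g = 1 := by
  decide +kernel

theorem perm_five_two : ∀ g : Equiv.Perm (Fin 5), Equiv.Perm.sign g = 1 → g ^ 4 = 1 → g * g = 1 := by
  decide +kernel

theorem alt_five_frame (a : alternatingGroup (Fin 5)) (ha : a * (a * a) = 1) (ha1 : a ≠ 1) :
    ∃ b c : alternatingGroup (Fin 5), b * (b * b) = 1 ∧ c * (c * c) = 1 ∧ (a * b) * (a * b) = 1 ∧
      (a * c) * (a * c) = 1 ∧ a * b ≠ b * a ∧ a * c ≠ c * a ∧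
      ∃ p, a.1 p = p ∧ b.1 p = p ∧ c.1 p ≠ p := by
  obtain ⟨b, c, hb, hc, hab, hac, hb', hc', hp⟩ := perm_five_frame a.1 (congrArg Subtype.val ha) (fun h => ha1 (Subtype.ext h))
  have hs : ∀ g : Equiv.Perm (Fin 5), g * (g * g) = 1 → g ∈ alternatingGroup (Fin 5) := fun g hg => by
    have h1 := congrArg Equiv.Perm.sign hg
    rwa [map_mul, map_mul, map_one, Int.units_mul_self, mul_one] at h1
  exact ⟨⟨b, hs b hb⟩, ⟨c, hs c hc⟩, Subtype.ext hb, Subtype.ext hc, Subtype.ext hab, Subtype.ext hac,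
    fun h => hb' (congrArg Subtype.val h), fun h => hc' (congrArg Subtype.val h), hp⟩

theorem alt_five_conj (a c : alternatingGroup (Fin 5)) (ha : a * (a * a) = 1) (hc : c * (c * c) = 1)
    (h0 : a * c ≠ c * a) (h1 : (a * c) * (a * c) ≠ 1) (h2 : (a * (c * c)) * (a * (c * c)) ≠ 1) :
    ∃ b : alternatingGroup (Fin 5), b * (b * b) = 1 ∧ a * b ≠ b * a ∧
      ((a * b) * (a * b) = 1 ∨ (a * (b * b)) * (a * (b * b)) = 1) ∧
      ((a * (b * b * c * b)) * (a * (b * b * c * b)) = 1 ∨
        (a * ((b * b * c * b) * (b * b * c * b))) * (a * ((b * b * c * b) * (b * b * c * b))) = 1) := by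
  obtain ⟨b, hb, hb', hab, hd⟩ := perm_five_conj a.1 (congrArg Subtype.val ha) c.1 (congrArg Subtype.val hc)
    (fun h => h0 (Subtype.ext h)) (fun h => h1 (Subtype.ext h)) (fun h => h2 (Subtype.ext h))
  have hs : b ∈ alternatingGroup (Fin 5) := by
    have h := congrArg Equiv.Perm.sign hb
    rwa [map_mul, map_mul, map_one, Int.units_mul_self, mul_one] at h
  exact ⟨⟨b, hs⟩, Subtype.ext hb, fun h => hb' (congrArg Subtype.val h),
    hab.imp (fun h => Subtype.ext h) (fun h => Subtype.ext h), hd.imp (fun h => Subtype.ext h) (fun h => Subtype.ext h)⟩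

theorem alt_five_center (g : alternatingGroup (Fin 5))
    (h : ∀ k : alternatingGroup (Fin 5), k * (k * k) = 1 → g * k = k * g) : g = 1 := by
  refine Subtype.ext (perm_five_center g.1 fun k hk => ?_)
  have hs : k ∈ alternatingGroup (Fin 5) := by
    have h1 := congrArg Equiv.Perm.sign hk
    rwa [map_mul, map_mul, map_one, Int.units_mul_self, mul_one] at h1
  exact congrArg Subtype.val (h ⟨k, hs⟩ (Subtype.ext hk))

theorem alt_five_two (g : alternatingGroup (Fin 5)) (h : g ^ 4 = 1) : g * g = 1 :=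
  Subtype.ext (perm_five_two g.1 g.2 (congrArg Subtype.val h))

/-- The covers in question. -/
structure Cover (K : Type*) [Group K] where
  f : K →* alternatingGroup (Fin 5)
  surj : Function.Surjective f
  z : K
  z_ne : z ≠ 1
  z_sq : z * z = 1
  central : ∀ g, z * g = g * z
  ker : ∀ g, f g = 1 → g = 1 ∨ g = z
  invol : ∀ g, g * g = 1 → g = 1 ∨ g = z
  gen : Subgroup.closure {g : K | g * (g * g) = 1} = ⊤

theorem normal_of_central {G : Type*} [Group G] {H : Subgroup G} (h : H ≤ Subgroup.center G) : H.Normal :=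
  ⟨fun n hn g => by rw [Subgroup.mem_center_iff.mp (h hn) g, mul_inv_cancel_right]; exact hn⟩

namespace Cover

variable {K : Type*} [Group K] (c : Cover K)
include c

theorem map_z : c.f c.z = 1 := by
  refine alt_five_center _ fun k _ => ?_
  obtain ⟨g, rfl⟩ := c.surj k
  rw [← map_mul, ← map_mul, c.central]

theorem card [Finite K] : Nat.card K = 120 := by
  have hk : c.f.ker = Subgroup.zpowers c.z := by
    ext g
    rw [MonoidHom.mem_ker]
    refine ⟨fun h => ?_, fun h => ?_⟩
    · rcases c.ker g h with rfl | rfl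
      · exact Subgroup.one_mem _
      · exact Subgroup.mem_zpowers _
    · obtain ⟨n, rfl⟩ := Subgroup.mem_zpowers_iff.mp h
      rw [map_zpow, c.map_z, one_zpow]
  haveI : Fact (Nat.Prime 2) := ⟨Nat.prime_two⟩
  rw [← c.f.ker.card_mul_index, Subgroup.index_ker, MonoidHom.range_eq_top.mpr c.surj, Subgroup.card_top, hk,
    Nat.card_zpowers, orderOf_eq_prime (p := 2) (by rw [pow_two]; exact c.z_sq) c.z_ne, nat_card_alternatingGroup]
  simp [Nat.factorial]

/-- The lift of an element of order three. -/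
theorem lift_three (a : alternatingGroup (Fin 5)) (ha : a * (a * a) = 1) : ∃ g, g * (g * g) = 1 ∧ c.f g = a := by
  obtain ⟨g, rfl⟩ := c.surj a
  rcases c.ker (g * (g * g)) (by rw [map_mul, map_mul, ha]) with h | h
  · exact ⟨g, h, rfl⟩
  · refine ⟨g * c.z, ?_, by rw [map_mul, c.map_z, mul_one]⟩
    have hl : ∀ a w : K, a * (c.z * w) = c.z * (a * w) := fun a w => by rw [← mul_assoc, ← c.central, mul_assoc]
    calc g * c.z * (g * c.z * (g * c.z)) = c.z * (c.z * (c.z * (g * (g * g)))) := by
          simp only [mul_assoc, ← c.central g, hl g]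
      _ = 1 := by rw [h, c.z_sq, mul_one, c.z_sq]

set_option maxHeartbeats 800000 in
/-- Two covers are isomorphic. -/
theorem nonempty_equiv [Finite K] {L : Type*} [Group L] [Finite L] (d : Cover L) : Nonempty (K ≃* L) := by
  classical
  haveI : Fact (Nat.Prime 2) := ⟨Nat.prime_two⟩
  let S : Set (K × L) := {p | p.1 * (p.1 * p.1) = 1 ∧ p.2 * (p.2 * p.2) = 1 ∧ c.f p.1 = d.f p.2}
  let E := Subgroup.closure S
  let π₁ : E →* K := (MonoidHom.fst K L).comp E.subtype
  let π₂ : E →* L := (MonoidHom.snd K L).comp E.subtype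
  have hfib : ∀ p : E, c.f (π₁ p) = d.f (π₂ p) := by
    rintro ⟨p, hp⟩
    show c.f p.1 = d.f p.2
    induction hp using Subgroup.closure_induction with
    | mem q hq => exact hq.2.2
    | one => rw [Prod.fst_one, Prod.snd_one, map_one, map_one]
    | mul q r _ _ hq hr => rw [Prod.fst_mul, Prod.snd_mul, map_mul, map_mul, hq, hr]
    | inv q _ hq => rw [Prod.fst_inv, Prod.snd_inv, map_inv, map_inv, hq]
  have h1 : Function.Surjective π₁ := by
    rw [← MonoidHom.range_eq_top, eq_top_iff, ← c.gen, Subgroup.closure_le]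
    intro g hg
    obtain ⟨l, hl, hl'⟩ := d.lift_three (c.f g) (by rw [← map_mul, ← map_mul, show g * (g * g) = 1 from hg, map_one])
    exact ⟨⟨(g, l), Subgroup.subset_closure ⟨hg, hl, hl'.symm⟩⟩, rfl⟩
  have h2 : Function.Surjective π₂ := by
    rw [← MonoidHom.range_eq_top, eq_top_iff, ← d.gen, Subgroup.closure_le]
    intro g hg
    obtain ⟨l, hl, hl'⟩ := c.lift_three (d.f g) (by rw [← map_mul, ← map_mul, show g * (g * g) = 1 from hg, map_one])
    exact ⟨⟨(l, g), Subgroup.subset_closure ⟨hl, hg, hl'⟩⟩, rfl⟩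
  suffices hcard : Nat.card E ≤ 120 by
    exact ⟨(MulEquiv.ofBijective π₁ ((Nat.bijective_iff_surjective_and_card π₁).mpr
      ⟨h1, le_antisymm (c.card.symm ▸ hcard) (Nat.card_le_card_of_surjective _ h1)⟩)).symm.trans
      (MulEquiv.ofBijective π₂ ((Nat.bijective_iff_surjective_and_card π₂).mpr
      ⟨h2, le_antisymm (d.card.symm ▸ hcard) (Nat.card_le_card_of_surjective _ h2)⟩))⟩
  have hk : ∀ p : E, π₁ p = 1 → (p : K × L) = 1 ∨ (p : K × L) = (1, d.z) := by
    intro p hp
    rcases d.ker (π₂ p) (by rw [← hfib, hp, map_one]) with e | e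
    · exact Or.inl (Prod.ext hp e)
    · exact Or.inr (Prod.ext hp e)
  by_contra hbig
  obtain ⟨w, hw⟩ : ∃ w : E, (w : K × L) = (1, d.z) := by
    by_contra hnone
    push Not at hnone
    apply hbig
    rw [← c.card]
    refine Nat.card_le_card_of_injective π₁ ((injective_iff_map_eq_one π₁).mpr fun p hp => ?_)
    exact Subtype.ext ((hk p hp).resolve_right (hnone p))
  -- transfer to the Sylow subgroup modulo the diagonal involution
  obtain ⟨v, hv⟩ : ∃ v : E, (v : K × L) = (c.z, d.z) := by
    obtain ⟨p, hp⟩ := h1 c.z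
    rcases d.ker (π₂ p) (by rw [← hfib, hp, c.map_z]) with e | e
    · exact ⟨p * w, Prod.ext (by rw [Subgroup.coe_mul, Prod.fst_mul, hw]; exact (mul_one _).trans hp)
        (by rw [Subgroup.coe_mul, Prod.snd_mul, hw, show (p : K × L).2 = 1 from e, one_mul])⟩
    · exact ⟨p, Prod.ext hp e⟩
  have hwz : ∀ g : E, g * w = w * g := fun g => Subtype.ext (Prod.ext
    (by show (g : K × L).1 * (w : K × L).1 = _ * _; rw [hw]; exact (mul_one _).trans (one_mul _).symm)
    (by show (g : K × L).2 * (w : K × L).2 = _ * _; rw [hw]; exact (d.central _).symm))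
  have hvz : ∀ g : E, g * v = v * g := fun g => Subtype.ext (Prod.ext
    (by show (g : K × L).1 * (v : K × L).1 = _ * _; rw [hv]; exact (c.central _).symm)
    (by show (g : K × L).2 * (v : K × L).2 = _ * _; rw [hv]; exact (d.central _).symm))
  have hv2 : v * v = 1 := Subtype.ext (by rw [Subgroup.coe_mul, hv, Subgroup.coe_one]; exact Prod.ext c.z_sq d.z_sq)
  have hw2 : w * w = 1 := Subtype.ext (by rw [Subgroup.coe_mul, hw, Subgroup.coe_one]; exact Prod.ext (one_mul 1) d.z_sq)
  have hw2p : IsPGroup 2 (Subgroup.zpowers w) :=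
    IsPGroup.of_card (n := 1) (by rw [Nat.card_zpowers, orderOf_eq_prime (p := 2) (by rw [pow_two]; exact hw2) (fun e => d.z_ne (by
      have := congrArg (fun q : E => (q : K × L).2) e
      simpa [hw] using this)), pow_one])
  have hv2p : IsPGroup 2 (Subgroup.zpowers v) :=
    IsPGroup.of_card (n := 1) (by rw [Nat.card_zpowers, orderOf_eq_prime (p := 2) (by rw [pow_two]; exact hv2) (fun e => d.z_ne (by
      have := congrArg (fun q : E => (q : K × L).2) e
      simpa [hv] using this)), pow_one])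
  haveI hwn : (Subgroup.zpowers w).Normal := normal_of_central (Subgroup.zpowers_le.mpr
    (Subgroup.mem_center_iff.mpr hwz))
  haveI hvn : (Subgroup.zpowers v).Normal := normal_of_central (Subgroup.zpowers_le.mpr
    (Subgroup.mem_center_iff.mpr hvz))
  obtain ⟨P⟩ : Nonempty (Sylow 2 E) := inferInstance
  have hwP : w ∈ (P : Subgroup E) := hw2p.le_sylow_of_normal P (Subgroup.mem_zpowers w)
  have hvP : v ∈ (P : Subgroup E) := hv2p.le_sylow_of_normal P (Subgroup.mem_zpowers v)
  let D : Subgroup (P : Subgroup E) := Subgroup.zpowers ⟨v, hvP⟩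
  haveI : D.Normal := normal_of_central (Subgroup.zpowers_le.mpr
    (Subgroup.mem_center_iff.mpr fun g => Subtype.ext (hvz g)))
  have hsq : ∀ a : (P : Subgroup E) ⧸ D, a * a = 1 := by
    intro a
    obtain ⟨⟨g, hg⟩, rfl⟩ := QuotientGroup.mk_surjective a
    rw [← QuotientGroup.mk_mul, QuotientGroup.eq_one_iff]
    obtain ⟨k, hk'⟩ := (IsPGroup.iff_orderOf.mp P.isPGroup') ⟨g, hg⟩
    have hfg : (c.f (π₁ g)) ^ 4 = 1 := by
      have h0 : orderOf (c.f (π₁ g)) ∣ 2 ^ k := by
        rw [← hk']
        exact (orderOf_map_dvd (c.f.comp π₁) g).trans (dvd_of_eq (Subgroup.orderOf_coe (⟨g, hg⟩ : (P : Subgroup E))))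
      obtain ⟨i, -, hi⟩ := (Nat.dvd_prime_pow Nat.prime_two).mp h0
      rw [← orderOf_dvd_iff_pow_eq_one, hi]
      have h60 : 2 ^ i ∣ 60 := by
        rw [← hi]
        refine (orderOf_dvd_natCard _).trans ?_
        rw [nat_card_alternatingGroup]
        simp [Nat.factorial]
      have hi5 : i ≤ 5 := by
        by_contra hc5
        have := (Nat.pow_le_pow_right two_pos (show 6 ≤ i by omega)).trans (Nat.le_of_dvd (by norm_num) h60)
        norm_num at this
      interval_cases i <;> revert h60 <;> norm_num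
    have h2g := alt_five_two _ hfg
    have e1 : c.f (π₁ (g * g)) = 1 := by rw [map_mul, map_mul, h2g]
    have key : g * g = 1 ∨ g * g = v := by
      by_cases hfg1 : c.f (π₁ g) = 1
      · left
        have a1 : π₁ g * π₁ g = 1 := by
          rcases c.ker _ hfg1 with e | e <;> rw [e]
          · exact one_mul 1
          · exact c.z_sq
        have a2 : π₂ g * π₂ g = 1 := by
          rcases d.ker _ (by rw [← hfib]; exact hfg1) with e | e <;> rw [e]
          · exact one_mul 1
          · exact d.z_sq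
        exact Subtype.ext (Prod.ext a1 a2)
      · right
        have a1 : π₁ g * π₁ g = c.z := by
          rcases c.ker _ e1 with e | e
          · exfalso
            rcases c.invol _ ((map_mul π₁ g g).symm.trans e) with e' | e' <;> rw [e'] at hfg1
            · exact hfg1 (map_one _)
            · exact hfg1 c.map_z
          · exact (map_mul π₁ g g).symm.trans e
        have a2 : π₂ g * π₂ g = d.z := by
          rcases d.ker _ (by rw [← hfib]; exact e1) with e | e
          · exfalso
            rw [hfib] at hfg1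
            rcases d.invol _ ((map_mul π₂ g g).symm.trans e) with e' | e' <;> rw [e'] at hfg1
            · exact hfg1 (map_one _)
            · exact hfg1 d.map_z
          · exact (map_mul π₂ g g).symm.trans e
        exact Subtype.ext (by rw [hv]; exact Prod.ext a1 a2)
    rcases key with e | e
    · rw [show (⟨g, hg⟩ * ⟨g, hg⟩ : (P : Subgroup E)) = 1 from Subtype.ext e]; exact D.one_mem
    · rw [show (⟨g, hg⟩ * ⟨g, hg⟩ : (P : Subgroup E)) = ⟨v, hvP⟩ from Subtype.ext e]; exact Subgroup.mem_zpowers _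
  letI : CommGroup ((P : Subgroup E) ⧸ D) :=
    { (inferInstance : Group ((P : Subgroup E) ⧸ D)) with
      mul_comm := fun a b => by
        calc a * b = (a * b)⁻¹ := eq_inv_of_mul_eq_one_left (hsq _)
          _ = b⁻¹ * a⁻¹ := mul_inv_rev a b
          _ = b * a := by rw [inv_eq_of_mul_eq_one_left (hsq a), inv_eq_of_mul_eq_one_left (hsq b)] }
  let ϕ : (P : Subgroup E) →* (P : Subgroup E) ⧸ D := QuotientGroup.mk' D
  have hodd : ¬ 2 ∣ (P : Subgroup E).index := P.not_dvd_index
  have h0 : MonoidHom.transfer ϕ w = ϕ (⟨w ^ (P : Subgroup E).index, pow_mem hwP _⟩) :=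
    MonoidHom.transfer_eq_pow ϕ w (fun k g _ => by
      rw [mul_assoc, ← ((show Commute g w from hwz g).pow_right k).eq, inv_mul_cancel_left])
  have h3 : ∀ p : E, MonoidHom.transfer ϕ p = 1 := by
    rintro ⟨p, hp⟩
    induction hp using Subgroup.closure_induction with
    | mem q hq =>
      set u := MonoidHom.transfer ϕ (⟨q, Subgroup.subset_closure hq⟩ : E)
      have e : u * (u * u) = 1 := by
        rw [← map_mul, ← map_mul, show (⟨q, Subgroup.subset_closure hq⟩ : E) * (⟨q, _⟩ * ⟨q, _⟩) = 1 from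
          Subtype.ext (Prod.ext hq.1 hq.2.1), map_one]
      rwa [hsq u, mul_one] at e
    | one => exact map_one _
    | mul q r hq' hr' hq hr =>
      rw [show (⟨q * r, _⟩ : E) = ⟨q, hq'⟩ * ⟨r, hr'⟩ from rfl, map_mul, hq, hr, one_mul]
    | inv q hq' hq =>
      rw [show (⟨q⁻¹, _⟩ : E) = (⟨q, hq'⟩ : E)⁻¹ from rfl, map_inv, hq, inv_one]
  rw [h3] at h0
  obtain ⟨m, hm⟩ := Nat.not_even_iff_odd.mp (fun he => hodd (even_iff_two_dvd.mp he))
  have hpw : w ^ (P : Subgroup E).index = w := by
    rw [hm, pow_succ, pow_mul, pow_two, hw2, one_pow, one_mul]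
  have hwD : (⟨w, hwP⟩ : (P : Subgroup E)) ∈ D := by
    rw [← QuotientGroup.eq_one_iff]
    exact ((congrArg ϕ (Subtype.ext hpw.symm)).trans h0.symm)
  obtain ⟨n, hn⟩ := Subgroup.mem_zpowers_iff.mp hwD
  have hn' : v ^ n = w := congrArg Subtype.val hn
  rcases Int.even_or_odd' n with ⟨k, rfl | rfl⟩
  · rw [zpow_mul, zpow_two, hv2, one_zpow] at hn'
    apply d.z_ne
    have := congrArg (fun q : E => (q : K × L).2) hn'
    simpa [hw] using this.symm
  · rw [zpow_add, zpow_mul, zpow_two, hv2, one_zpow, one_mul, zpow_one] at hn'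
    apply c.z_ne
    have := congrArg (fun q : E => (q : K × L).1) hn'
    simpa [hw, hv] using this

end Cover

end CfsgLib.Recognition.Zassenhaus
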