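import Mathlib

/-!
Square roots of `-3` in a ring containing a quaternion pair: the possible anticommutators determine the element.
-/

set_option linter.unusedSimpArgs false

namespace CfsgLib.Recognition.Zassenhaus

variable {R : Type*} [Ring R]

/-- The anticommutator. -/
def ac (x y : R) : R := x * y + y * x

/-- No additive torsion at two and three. -/
def NoTorsion (R : Type*) [Ring R] : Prop := ∀ x : R, (6 : ℤ) • x = 0 → x = 0

theorem NoTorsion.cancel (h : NoTorsion R) (n : ℤ) (m : ℕ) (hn : n ∣ 6 ^ m) {x : R} (hx : n • x = 0) : x = 0 := by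
  obtain ⟨c, hc⟩ := hn
  have h1 : ((6 : ℤ) ^ m) • x = 0 := by rw [hc, mul_comm, mul_smul, hx, smul_zero]
  clear hc hx
  induction m with
  | zero => rwa [pow_zero, one_smul] at h1
  | succ m ih => exact ih (h _ (by rw [← mul_smul, ← pow_succ']; exact h1))

theorem NoTorsion.absurd [Nontrivial R] (h : NoTorsion R) (n : ℤ) (m : ℕ) (hn : n ∣ 6 ^ m) (hx : (n : R) = 0) : False :=
  one_ne_zero (α := R) (h.cancel n m hn (by rw [zsmul_one]; exact hx))

theorem ac_comm (x y : R) : ac x y = ac y x := add_comm _ _

/-- A quaternion pair. -/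
structure Quat (i j : R) : Prop where
  ii : i * i = -1
  jj : j * j = -1
  ji : j * i = -(i * j)

namespace Quat

variable {i j : R}

theorem ii' (h : Quat i j) (x : R) : i * (i * x) = -x := by rw [← mul_assoc, h.ii, neg_one_mul]

theorem jj' (h : Quat i j) (x : R) : j * (j * x) = -x := by rw [← mul_assoc, h.jj, neg_one_mul]

theorem ji' (h : Quat i j) (x : R) : j * (i * x) = -(i * (j * x)) := by rw [← mul_assoc, h.ji, neg_mul, mul_assoc]

/-- The cyclic shift. -/
theorem shift (h : Quat i j) : Quat j (i * j) where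
  ii := h.jj
  jj := by simp only [mul_assoc, h.ji', h.jj, mul_neg, mul_one, neg_neg, h.ii]
  ji := by simp only [mul_assoc, h.jj, h.ji', mul_neg, mul_one, neg_neg]

theorem mul_shift (h : Quat i j) : j * (i * j) = i := by
  simp only [h.ji', h.jj, mul_neg, mul_one, neg_neg]

/-- An element anticommuting with a quaternion pair and their product is zero. -/
theorem eq_zero (h : Quat i j) (hR : NoTorsion R) {W : R} (hi : i * W + W * i = 0) (hj : j * W + W * j = 0)
    (hk : i * j * W + W * (i * j) = 0) : W = 0 := by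
  have hi' : W * i = -(i * W) := eq_neg_of_add_eq_zero_right hi
  have hj' : W * j = -(j * W) := eq_neg_of_add_eq_zero_right hj
  have h1 : W * (i * j) = i * j * W := by
    rw [← mul_assoc, hi', neg_mul, mul_assoc, hj', mul_neg, neg_neg, mul_assoc]
  rw [h1, ← two_zsmul] at hk
  have h2 := hR.cancel 2 1 (by norm_num) hk
  have h3 : -W = i * (j * (i * j * W)) := by
    simp only [mul_assoc, h.ji', h.jj', h.ii', mul_neg, neg_neg]
  rw [h2, mul_zero, mul_zero, neg_eq_zero] at h3
  exact h3

/-- An element whose anticommutators with the quaternion units are scalars. -/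
theorem scalar_sum (h : Quat i j) (hR : NoTorsion R) {w : R} (hw : w * w = (-3 : ℤ) • (1 : R)) (m p q s : ℤ)
    (hi : m • ac i w = p • (1 : R)) (hj : m • ac j w = q • (1 : R)) (hk : m • ac (i * j) w = s • (1 : R)) :
    ((12 * m ^ 2 - (p ^ 2 + q ^ 2 + s ^ 2) : ℤ) : R) = 0 := by
  set W := (2 * m) • w + (p • i + q • j + s • (i * j)) with hW
  have hWi : i * W + W * i = 0 := by
    have : i * W + W * i = (2 : ℤ) • (m • ac i w) - (2 * p) • (1 : R) := by
      rw [hW, ac]
      simp only [mul_add, add_mul, mul_smul_comm, smul_mul_assoc, mul_assoc, h.ii', h.ji', h.ii, h.ji, mul_neg, mul_one,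
        smul_neg]
      module
    rw [this, hi]; module
  have hWj : j * W + W * j = 0 := by
    have : j * W + W * j = (2 : ℤ) • (m • ac j w) - (2 * q) • (1 : R) := by
      rw [hW, ac]
      simp only [mul_add, add_mul, mul_smul_comm, smul_mul_assoc, mul_assoc, h.jj', h.ji', h.jj, h.ji, mul_neg, mul_one,
        smul_neg]
      module
    rw [this, hj]; module
  have hWk : i * j * W + W * (i * j) = 0 := by
    have : i * j * W + W * (i * j) = (2 : ℤ) • (m • ac (i * j) w) - (2 * s) • (1 : R) := by
      rw [hW, ac]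
      simp only [mul_add, add_mul, mul_smul_comm, smul_mul_assoc, mul_assoc, h.ii', h.jj', h.ji', h.ii, h.jj, h.ji,
        mul_neg, neg_neg, mul_one, smul_neg]
      module
    rw [this, hk]; module
  have h0 := h.eq_zero hR hWi hWj hWk
  have h0' : (2 * m) • w + (p • i + q • j + s • (i * j)) = 0 := h0
  have h1 : ((2 * m) • w) * ((2 * m) • w) = (p • i + q • j + s • (i * j)) * (p • i + q • j + s • (i * j)) := by
    rw [eq_neg_of_add_eq_zero_left h0', neg_mul_neg]
  simp only [mul_add, add_mul, mul_smul_comm, smul_mul_assoc, mul_assoc, h.ii', h.jj', h.ji', h.ii, h.jj, h.ji, hw,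
    mul_neg, neg_neg, mul_one, smul_neg, smul_smul] at h1
  rw [← zsmul_one, ← neg_eq_zero]
  linear_combination (norm := module) h1

end Quat

variable [Nontrivial R] {i j w : R}

/-- An anticommutator of an outside element with a vertex. -/
def Outside (T : R) : Prop := T = (2 : ℤ) • (1 : R) ∨ T = (-2 : ℤ) • (1 : R) ∨ T * T = (20 : ℤ) • (1 : R)

/-- If the anticommutator with one vertex is two, some unit anticommutes with the element. -/
theorem pattern (h : Quat i j) (hR : NoTorsion R) (hw : w * w = (-3 : ℤ) • (1 : R))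
    (h0 : ac (i + j + i * j) w = (2 : ℤ) • (1 : R)) (h1 : Outside (ac (i - j - i * j) w))
    (h2 : Outside (ac (-i + j - i * j) w)) (h3 : Outside (ac (-i - j + i * j) w)) :
    ac i w = 0 ∨ ac j w = 0 ∨ ac (i * j) w = 0 := by
  set T1 := ac (i - j - i * j) w with hT1
  set T2 := ac (-i + j - i * j) w with hT2
  set T3 := ac (-i - j + i * j) w with hT3
  have h0' : ac i w + ac j w + ac (i * j) w = (2 : ℤ) • (1 : R) := by
    rw [← h0]; simp only [ac, add_mul, mul_add]; abel
  have hi : (2 : ℤ) • ac i w = (2 : ℤ) • (1 : R) + T1 := by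
    rw [← h0', hT1]; simp only [ac, add_mul, mul_add, sub_mul, mul_sub]; module
  have hj : (2 : ℤ) • ac j w = (2 : ℤ) • (1 : R) + T2 := by
    rw [← h0', hT2]; simp only [ac, add_mul, mul_add, sub_mul, mul_sub, neg_mul, mul_neg]; module
  have hk : (2 : ℤ) • ac (i * j) w = (2 : ℤ) • (1 : R) + T3 := by
    rw [← h0', hT3]; simp only [ac, add_mul, mul_add, sub_mul, mul_sub, neg_mul, mul_neg]; module
  have hsum : T1 + T2 + T3 = (-2 : ℤ) • (1 : R) := by
    have : (2 : ℤ) • (ac i w + ac j w + ac (i * j) w) = (6 : ℤ) • (1 : R) + (T1 + T2 + T3) := by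
      rw [smul_add, smul_add, hi, hj, hk]; module
    rw [h0'] at this
    linear_combination (norm := module) -this
  have hzero : ∀ {P T : R}, (2 : ℤ) • P = (2 : ℤ) • (1 : R) + T → T = (-2 : ℤ) • (1 : R) → P = 0 := by
    intro P T hP hT
    refine hR.cancel 2 1 (by norm_num) ?_
    rw [hP, hT]; module
  by_cases e1 : T1 = (-2 : ℤ) • (1 : R)
  · exact Or.inl (hzero hi e1)
  by_cases e2 : T2 = (-2 : ℤ) • (1 : R)
  · exact Or.inr (Or.inl (hzero hj e2))
  by_cases e3 : T3 = (-2 : ℤ) • (1 : R)
  · exact Or.inr (Or.inr (hzero hk e3))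
  exfalso
  -- a multiple of one which squares to twenty
  have hsq : ∀ {T : R} (n : ℤ), T = n • (1 : R) → T * T = (20 : ℤ) • (1 : R) → ((n * n - 20 : ℤ) : R) = 0 := by
    intro T n hT h20
    rw [hT, smul_mul_smul_comm, one_mul] at h20
    rw [← zsmul_one, sub_smul, h20, sub_self]
  have h2case : ∀ {A B : R}, A + B = (-4 : ℤ) • (1 : R) → B * B = (20 : ℤ) • (1 : R) →
      (A = (2 : ℤ) • (1 : R) ∨ A * A = (20 : ℤ) • (1 : R)) → False := by
    intro A B hAB hB hA
    have hB' : B = (-4 : ℤ) • (1 : R) - A := by rw [← hAB]; abel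
    rcases hA with hA | hA
    · exact hR.absurd 16 4 (by norm_num) (by simpa using hsq (-6) (by rw [hB', hA]; module) hB)
    · rw [hB'] at hB
      simp only [sub_mul, mul_sub, smul_mul_assoc, mul_smul_comm, one_mul, mul_one, hA] at hB
      have h8 : (8 : ℤ) • (A + (2 : ℤ) • (1 : R)) = 0 := by linear_combination (norm := module) hB
      exact hR.absurd 16 4 (by norm_num)
        (by simpa using hsq (-2) (by linear_combination (norm := module) hR.cancel 8 3 (by norm_num) h8) hA)
  rcases h1.imp_right (Or.resolve_left · e1) with a1 | a1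
  · refine h2case (A := T2) (B := T3) (by linear_combination (norm := module) hsum - a1) ?_ (h2.imp_right (Or.resolve_left · e2))
    rcases h3.imp_right (Or.resolve_left · e3) with a3 | a3
    · exfalso
      rcases h2.imp_right (Or.resolve_left · e2) with a2 | a2
      · exact hR.absurd 8 3 (by norm_num) (by
          rw [← zsmul_one]; linear_combination (norm := module) hsum - a1 - a2 - a3)
      · exact hR.absurd 16 4 (by norm_num)
          (by simpa using hsq (-6) (by linear_combination (norm := module) hsum - a1 - a3) a2)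
    · exact a3
  rcases h2.imp_right (Or.resolve_left · e2) with a2 | a2
  · refine h2case (A := T3) (B := T1) (by linear_combination (norm := module) hsum - a2) a1 (h3.imp_right (Or.resolve_left · e3))
  rcases h3.imp_right (Or.resolve_left · e3) with a3 | a3
  · exact h2case (A := T2) (B := T1) (by linear_combination (norm := module) hsum - a3) a1 (Or.inr a2)
  -- all three square to twenty
  have hT3' : T3 = (-2 : ℤ) • (1 : R) - T1 - T2 := by rw [← hsum]; abel
  have a3' := a3
  rw [hT3'] at a3'
  simp only [sub_mul, mul_sub, smul_mul_assoc, mul_smul_comm, one_mul, mul_one, a1, a2] at a3'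
  have hanti : T1 * T2 + T2 * T1 = (-4 : ℤ) • (T1 + T2) - (24 : ℤ) • (1 : R) := by
    linear_combination (norm := module) a3'
  have hcomm : T1 * T2 = T2 * T1 := by
    have e : T1 * (T1 * T2 + T2 * T1) = (T1 * T2 + T2 * T1) * T1 := by
      rw [mul_add, add_mul, ← mul_assoc, a1, mul_assoc T2, a1, smul_mul_assoc, one_mul, mul_smul_comm, mul_one,
        mul_assoc]
      abel
    rw [hanti] at e
    simp only [mul_sub, sub_mul, mul_add, add_mul, mul_smul_comm, smul_mul_assoc, mul_one, one_mul] at e
    have h4 : (4 : ℤ) • (T2 * T1 - T1 * T2) = 0 := by linear_combination (norm := module) e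
    exact (sub_eq_zero.mp (hR.cancel 4 2 (by norm_num) h4)).symm
  have hprod : T1 * T2 = (-2 : ℤ) • (T1 + T2) - (12 : ℤ) • (1 : R) := by
    refine sub_eq_zero.mp (hR.cancel 2 1 (by norm_num) ?_)
    rw [← hcomm] at hanti
    linear_combination (norm := module) hanti
  have key : ∀ {A B : R}, A * A = (20 : ℤ) • (1 : R) → A * B = (-2 : ℤ) • (A + B) - (12 : ℤ) • (1 : R) →
      (2 : ℤ) • B = -A - (2 : ℤ) • (1 : R) := by
    intro A B hA hAB
    have e : A * (A * B) = (20 : ℤ) • B := by rw [← mul_assoc, hA, smul_mul_assoc, one_mul]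
    rw [hAB] at e
    simp only [mul_sub, mul_add, mul_smul_comm, mul_one, hA, hAB] at e
    refine sub_eq_zero.mp (hR.cancel 8 3 (by norm_num) ?_)
    linear_combination (norm := module) -e
  have k1 := key a1 hprod
  have k2 := key a2 (by rw [← hcomm, add_comm T2 T1]; exact hprod)
  have t1 : (3 : ℤ) • T1 = (-2 : ℤ) • (1 : R) := by linear_combination (norm := module) (2 : ℤ) • k2 - k1
  have t2 : (3 : ℤ) • T2 = (-2 : ℤ) • (1 : R) := by linear_combination (norm := module) (2 : ℤ) • k1 - k2
  have t3 : (3 : ℤ) • T3 = (-2 : ℤ) • (1 : R) := by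
    linear_combination (norm := module) (3 : ℤ) • hsum - t1 - t2
  have hp : ∀ {P T : R}, (2 : ℤ) • P = (2 : ℤ) • (1 : R) + T → (3 : ℤ) • T = (-2 : ℤ) • (1 : R) →
      (6 : ℤ) • P = (4 : ℤ) • (1 : R) := fun hP hT => by
    linear_combination (norm := module) (3 : ℤ) • hP + hT
  refine hR.absurd 384 7 (by norm_num) ?_
  simpa using h.scalar_sum hR hw 6 4 4 4 (hp hi t1) (hp hj t2) (hp hk t3)

/-- The normal form: the element is determined by a central square root of twenty. -/
theorem canonical (h : Quat i j) (hR : NoTorsion R) (hw : w * w = (-3 : ℤ) • (1 : R)) (hi : ac i w = 0)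
    (h0 : ac (i + j + i * j) w = (2 : ℤ) • (1 : R)) (h2 : Outside (ac (-i + j - i * j) w)) :
    ∃ T, T = ac (-i + j - i * j) w ∧ T * i = i * T ∧ T * j = j * T ∧ T * T = (20 : ℤ) • (1 : R) ∧
      (4 : ℤ) • w + ((2 : ℤ) • j + T * j + (2 : ℤ) • (i * j) - T * (i * j)) = 0 := by
  set T := ac (-i + j - i * j) w with hT
  have hjk : ac j w + ac (i * j) w = (2 : ℤ) • (1 : R) := by
    rw [← h0, ← zero_add (ac j w), ← hi]; simp only [ac, add_mul, mul_add]; abel
  have hjT : (2 : ℤ) • ac j w = (2 : ℤ) • (1 : R) + T := by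
    rw [← hjk, hT, ← sub_eq_zero]
    have e : (2 : ℤ) • ac j w - (ac j w + ac (i * j) w + ac (-i + j - i * j) w) = ac i w := by
      simp only [ac, add_mul, mul_add, sub_mul, mul_sub, neg_mul, mul_neg]; module
    rw [e, hi]
  have hkT : (2 : ℤ) • ac (i * j) w = (2 : ℤ) • (1 : R) - T := by
    linear_combination (norm := module) (2 : ℤ) • hjk - hjT
  have commj : T * j = j * T := by
    have e : T = (2 : ℤ) • ac j w - (2 : ℤ) • (1 : R) := by rw [hjT]; abel
    rw [e]
    simp only [ac, sub_mul, mul_sub, smul_mul_assoc, mul_smul_comm, one_mul, mul_one, add_mul, mul_add, mul_assoc,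
      h.jj, h.jj', mul_neg]
    abel
  have commk : T * (i * j) = i * j * T := by
    have e : T = (2 : ℤ) • (1 : R) - (2 : ℤ) • ac (i * j) w := by rw [hkT]; abel
    rw [e]
    simp only [ac, sub_mul, mul_sub, smul_mul_assoc, mul_smul_comm, one_mul, mul_one, add_mul, mul_add, mul_assoc,
      h.ii, h.jj, h.ji, h.ii', h.jj', h.ji', mul_neg, neg_neg]
    abel
  have commi : T * i = i * T := by
    have e : i = j * (i * j) := h.mul_shift.symm
    calc T * i = T * (j * (i * j)) := by rw [← e]
      _ = j * (i * j) * T := by rw [← mul_assoc, commj, mul_assoc, commk, ← mul_assoc]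
      _ = _ := by rw [← e]
  refine ⟨T, hT, commi, commj, ?_, ?_⟩
  · have hne : ∀ n : ℤ, (n = 2 ∨ n = -2) → T ≠ n • (1 : R) := by
      intro n hn hTn
      have a : (1 : ℤ) • ac i w = (0 : ℤ) • (1 : R) := by rw [one_smul, zero_smul, hi]
      have b : (2 : ℤ) • ac j w = (2 + n) • (1 : R) := by rw [hjT, hTn]; module
      have c : (2 : ℤ) • ac (i * j) w = (2 - n) • (1 : R) := by rw [hkT, hTn]; module
      have := h.scalar_sum hR hw 2 0 (2 + n) (2 - n) (by rw [hi, smul_zero, zero_smul]) b c
      rcases hn with rfl | rfl <;> exact hR.absurd 32 5 (by norm_num) (by simpa using this)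
    exact (h2.resolve_left (hne 2 (Or.inl rfl))).resolve_left (hne (-2) (Or.inr rfl))
  · set W := (4 : ℤ) • w + ((2 : ℤ) • j + T * j + (2 : ℤ) • (i * j) - T * (i * j)) with hW
    have ti' : ∀ x, T * (i * x) = i * (T * x) := fun x => by rw [← mul_assoc, commi, mul_assoc]
    have tj' : ∀ x, T * (j * x) = j * (T * x) := fun x => by rw [← mul_assoc, commj, mul_assoc]
    have a : i * W + W * i = (4 : ℤ) • ac i w := by
      rw [hW, ac]
      simp only [mul_add, add_mul, mul_sub, sub_mul, mul_smul_comm, smul_mul_assoc, mul_assoc, ti', tj', commi, commj,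
        h.ii, h.jj, h.ji, h.ii', h.jj', h.ji', mul_neg, neg_mul, neg_neg, mul_one, smul_neg]
      module
    have b : j * W + W * j = (4 : ℤ) • ac j w - (4 : ℤ) • (1 : R) - (2 : ℤ) • T := by
      rw [hW, ac]
      simp only [mul_add, add_mul, mul_sub, sub_mul, mul_smul_comm, smul_mul_assoc, mul_assoc, ti', tj', commi, commj,
        h.ii, h.jj, h.ji, h.ii', h.jj', h.ji', mul_neg, neg_mul, neg_neg, mul_one, smul_neg]
      module
    have c : i * j * W + W * (i * j) = (4 : ℤ) • ac (i * j) w - (4 : ℤ) • (1 : R) + (2 : ℤ) • T := by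
      rw [hW, ac]
      simp only [mul_add, add_mul, mul_sub, sub_mul, mul_smul_comm, smul_mul_assoc, mul_assoc, ti', tj', commi, commj,
        h.ii, h.jj, h.ji, h.ii', h.jj', h.ji', mul_neg, neg_mul, neg_neg, mul_one, smul_neg]
      module
    refine h.eq_zero hR ?_ ?_ ?_
    · rw [a, hi, smul_zero]
    · rw [b]; linear_combination (norm := module) (2 : ℤ) • hjT
    · rw [c]; linear_combination (norm := module) (2 : ℤ) • hkT

/-- The allowed anticommutators of two elements. -/
def Allowed (T : R) : Prop :=
  (∃ n : ℤ, (n = 2 ∨ n = -2 ∨ n = 6 ∨ n = -6) ∧ T = n • (1 : R)) ∨ T * T = (20 : ℤ) • (1 : R)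

/-- Two elements in normal form have anticommutator `-6`. -/
theorem unique (h : Quat i j) (hR : NoTorsion R) {T T' w' w3 : R} (hTi : T * i = i * T) (hTj : T * j = j * T)
    (hTi' : T' * i = i * T') (hTj' : T' * j = j * T') (hT : T * T = (20 : ℤ) • (1 : R))
    (hT' : T' * T' = (20 : ℤ) • (1 : R))
    (hw : (4 : ℤ) • w + ((2 : ℤ) • j + T * j + (2 : ℤ) • (i * j) - T * (i * j)) = 0)
    (hw' : (4 : ℤ) • w' + ((2 : ℤ) • j + T' * j + (2 : ℤ) • (i * j) - T' * (i * j)) = 0)
    (hw3 : (4 : ℤ) • w3 + ((2 : ℤ) • i + T' * i + (2 : ℤ) • j - T' * j) = 0)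
    (a1 : Allowed (ac w w')) (a2 : Allowed (ac w (-(j * w' * j)))) (a3 : Allowed (ac w w3)) :
    ac w w' = (-6 : ℤ) • (1 : R) := by
  have ti : ∀ x, T * (i * x) = i * (T * x) := fun x => by rw [← mul_assoc, hTi, mul_assoc]
  have tj : ∀ x, T * (j * x) = j * (T * x) := fun x => by rw [← mul_assoc, hTj, mul_assoc]
  have ti' : ∀ x, T' * (i * x) = i * (T' * x) := fun x => by rw [← mul_assoc, hTi', mul_assoc]
  have tj' : ∀ x, T' * (j * x) = j * (T' * x) := fun x => by rw [← mul_assoc, hTj', mul_assoc]
  have tt : ∀ x, T * (T * x) = (20 : ℤ) • x := fun x => by rw [← mul_assoc, hT, smul_mul_assoc, one_mul]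
  have tt' : ∀ x, T' * (T' * x) = (20 : ℤ) • x := fun x => by rw [← mul_assoc, hT', smul_mul_assoc, one_mul]
  set E := T * T' + T' * T with hE
  set C := T * T' - T' * T with hC
  have W1 : (4 : ℤ) • w = -((2 : ℤ) • j + T * j + (2 : ℤ) • (i * j) - T * (i * j)) := eq_neg_of_add_eq_zero_left hw
  have W1' : (4 : ℤ) • w' = -((2 : ℤ) • j + T' * j + (2 : ℤ) • (i * j) - T' * (i * j)) := eq_neg_of_add_eq_zero_left hw'
  have W3 : (4 : ℤ) • w3 = -((2 : ℤ) • i + T' * i + (2 : ℤ) • j - T' * j) := eq_neg_of_add_eq_zero_left hw3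
  have hac : ∀ x y : R, (16 : ℤ) • ac x y = ac ((4 : ℤ) • x) ((4 : ℤ) • y) := fun x y => by
    simp only [ac, smul_mul_assoc, mul_smul_comm, smul_smul, smul_add]; norm_num
  have F1 : (16 : ℤ) • ac w w' = (-16 : ℤ) • (1 : R) - (2 : ℤ) • E := by
    rw [hac, W1, W1', ac, hE]
    simp only [neg_mul_neg, mul_add, add_mul, mul_sub, sub_mul, mul_smul_comm, smul_mul_assoc, mul_assoc, ti, tj, ti', tj',
      hTi, hTj, hTi', hTj', h.ii, h.jj, h.ji, h.ii', h.jj', h.ji', mul_neg, neg_mul, neg_neg, mul_one, smul_neg]
    module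
  have F2 : (8 : ℤ) • ac w (-(j * w' * j)) = (-4 : ℤ) • (T + T') + i * C := by
    refine sub_eq_zero.mp (hR.cancel 2 1 (by norm_num) ?_)
    have e : (4 : ℤ) • (-(j * w' * j)) = -(j * ((4 : ℤ) • w') * j) := by
      simp only [mul_smul_comm, smul_mul_assoc, smul_neg]
    have e2 : (2 : ℤ) • ((8 : ℤ) • ac w (-(j * w' * j))) = (16 : ℤ) • ac w (-(j * w' * j)) := by module
    rw [smul_sub, e2, hac, e, W1, W1', ac, hC]
    simp only [neg_mul, mul_neg, neg_neg, mul_add, add_mul, mul_sub, sub_mul, mul_smul_comm, smul_mul_assoc, mul_assoc, ti,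
      tj, ti', tj', hTi, hTj, hTi', hTj', h.ii, h.jj, h.ji, h.ii', h.jj', h.ji', mul_one, one_mul, smul_neg]
    module
  have F3 : (16 : ℤ) • ac w w3 = (-8 : ℤ) • (1 : R) - (4 : ℤ) • (T - T') + E - (i + j + i * j) * C := by
    rw [hac, W1, W3, ac, hE, hC]
    simp only [neg_mul_neg, mul_add, add_mul, mul_sub, sub_mul, mul_smul_comm, smul_mul_assoc, mul_assoc, ti, tj, ti', tj',
      hTi, hTj, hTi', hTj', h.ii, h.jj, h.ji, h.ii', h.jj', h.ji', mul_neg, neg_mul, neg_neg, mul_one, smul_neg]
    module
  have hCC : C * C = E * E - (1600 : ℤ) • (1 : R) := by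
    rw [hE, hC]
    simp only [mul_add, add_mul, mul_sub, sub_mul, mul_assoc, tt, tt', hT, hT', mul_smul_comm, smul_smul]
    module
  have hTC : T * C + C * T = 0 := by
    rw [hC]
    simp only [mul_sub, sub_mul, mul_assoc, tt, tt', hT, hT', mul_smul_comm, mul_one]
    abel
  have hTC' : T' * C + C * T' = 0 := by
    rw [hC]
    simp only [mul_sub, sub_mul, mul_assoc, tt, tt', hT, hT', mul_smul_comm, mul_one]
    abel
  have hCi : C * i = i * C := by rw [hC]; simp only [mul_sub, sub_mul, mul_assoc, hTi, hTi', ti, ti']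
  have hCj : C * j = j * C := by rw [hC]; simp only [mul_sub, sub_mul, mul_assoc, hTj, hTj', tj, tj']
  have ci : ∀ x, C * (i * x) = i * (C * x) := fun x => by rw [← mul_assoc, hCi, mul_assoc]
  have cj : ∀ x, C * (j * x) = j * (C * x) := fun x => by rw [← mul_assoc, hCj, mul_assoc]
  -- the second anticommutator
  have b2 : (C = 0) ∨ E * E = (16 : ℤ) • E + (960 : ℤ) • (1 : R) := by
    rcases a2 with ⟨n, -, hn⟩ | hn
    · left
      rw [hn] at F2
      have hsc : i * C = (8 * n) • (1 : R) + (4 : ℤ) • (T + T') := by linear_combination (norm := module) -F2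
      have e : j * (i * C) = i * C * j := by
        rw [hsc]
        simp only [mul_add, add_mul, mul_smul_comm, smul_mul_assoc, mul_one, one_mul, hTj, hTj']
      rw [h.ji', mul_assoc i C j, hCj] at e
      have e2 : (2 : ℤ) • (i * (j * C)) = 0 := by linear_combination (norm := module) -e
      have e3 := congrArg (fun x => j * (i * x)) (hR.cancel 2 1 (by norm_num) e2)
      simpa only [h.ii', h.jj', mul_neg, neg_neg, mul_zero] using e3
    · right
      have e : ((8 : ℤ) • ac w (-(j * w' * j))) * ((8 : ℤ) • ac w (-(j * w' * j))) = (1280 : ℤ) • (1 : R) := by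
        rw [smul_mul_smul_comm, hn, smul_smul]; norm_num
      rw [F2] at e
      have e2 : ((-4 : ℤ) • (T + T') + i * C) * ((-4 : ℤ) • (T + T') + i * C)
          = (640 : ℤ) • (1 : R) + (16 : ℤ) • E - C * C - (4 : ℤ) • (i * ((T * C + C * T) + (T' * C + C * T'))) := by
        rw [hE]
        simp only [mul_add, add_mul, mul_smul_comm, smul_mul_assoc, smul_add, smul_smul, mul_assoc, hT, hT', ti, ti', ci,
          h.ii']
        module
      rw [e2, hTC, hTC', add_zero, mul_zero, smul_zero, sub_zero, hCC] at e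
      linear_combination (norm := module) -e
  -- the first anticommutator
  rcases a1 with ⟨n, hn, hn'⟩ | hn'
  · by_cases hn6 : n = -6
    · rw [hn', hn6]
    exfalso
    rw [hn'] at F1
    obtain ⟨e, hE', he⟩ : ∃ e : ℤ, E = e • (1 : R) ∧ (e = -24 ∨ e = 8 ∨ e = -56) := by
      refine ⟨-8 - 8 * n, sub_eq_zero.mp (hR.cancel 2 1 (by norm_num) ?_), ?_⟩
      · linear_combination (norm := module) F1
      · rcases hn with rfl | rfl | rfl | rfl <;> first | exact absurd rfl hn6 | norm_num
    rcases b2 with hC0 | b2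
    · rw [hC0, mul_zero, hE', smul_mul_smul_comm, one_mul] at hCC
      have : ((e * e - 1600 : ℤ) : R) = 0 := by rw [← zsmul_one, sub_smul]; exact hCC.symm
      rcases he with rfl | rfl | rfl
      · exact hR.absurd 1024 10 (by norm_num) (by simpa using this)
      · exact hR.absurd 1536 9 (by norm_num) (by simpa using this)
      · exact hR.absurd 1536 9 (by norm_num) (by simpa using this)
    · rw [hE', smul_mul_smul_comm, one_mul] at b2
      have : ((e * e - 16 * e - 960 : ℤ) : R) = 0 := by
        rw [← zsmul_one]; linear_combination (norm := module) b2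
      rcases he with rfl | rfl | rfl
      · -- the third anticommutator
        have hCC' : C * C = (-1024 : ℤ) • (1 : R) := by rw [hCC, hE', smul_mul_smul_comm, one_mul]; module
        have hD : (T - T') * (T - T') = (64 : ℤ) • (1 : R) := by
          have e : (T - T') * (T - T') = (40 : ℤ) • (1 : R) - E := by
            rw [hE]; simp only [sub_mul, mul_sub, hT, hT']; module
          rw [e, hE']; module
        have hDC : (T - T') * C + C * (T - T') = 0 := by
          have e : (T - T') * C + C * (T - T') = (T * C + C * T) - (T' * C + C * T') := by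
            simp only [sub_mul, mul_sub]; abel
          rw [e, hTC, hTC', sub_zero]
        set D := T - T' with hDdef
        set Q := i + j + i * j with hQ
        have hDi : D * i = i * D := by rw [hDdef]; simp only [sub_mul, mul_sub, hTi, hTi']
        have hDj : D * j = j * D := by rw [hDdef]; simp only [sub_mul, mul_sub, hTj, hTj']
        have hkey : Q * C * i = i * (Q * C) := by
          rcases a3 with ⟨m, -, hm⟩ | hm
          · rw [hm] at F3
            have hq : Q * C = (-8 - 24 - 16 * m) • (1 : R) - (4 : ℤ) • D := by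
              rw [hE'] at F3; linear_combination (norm := module) F3
            rw [hq]
            simp only [sub_mul, mul_sub, smul_mul_assoc, mul_smul_comm, one_mul, mul_one, hDi]
          · have hx : (16 : ℤ) • ac w w3 = -((32 : ℤ) • (1 : R) + (4 : ℤ) • D + Q * C) := by
              rw [hE'] at F3; linear_combination (norm := module) F3
            have e : ((16 : ℤ) • ac w w3) * ((16 : ℤ) • ac w w3) = (5120 : ℤ) • (1 : R) := by
              rw [smul_mul_smul_comm, hm, smul_smul]; norm_num
            rw [hx, neg_mul_neg] at e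
            have hQD : D * Q = Q * D := by
              rw [hQ]; simp only [mul_add, add_mul, ← mul_assoc, hDi, hDj]
              simp only [mul_assoc, hDj]
            have hQC : C * Q = Q * C := by
              rw [hQ]; simp only [mul_add, add_mul, ← mul_assoc, hCi, hCj]
              simp only [mul_assoc, hCj]
            have hQQ : Q * Q = (-3 : ℤ) • (1 : R) := by
              rw [hQ]
              simp only [mul_add, add_mul, mul_assoc, h.ii, h.jj, h.ji, h.ii', h.jj', h.ji', mul_neg, mul_one, neg_neg]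
              module
            have e1 : D * (Q * C) + Q * C * D = 0 := by
              rw [← mul_assoc, hQD, mul_assoc, mul_assoc, ← mul_add, hDC, mul_zero]
            have e2 : Q * C * (Q * C) = (3072 : ℤ) • (1 : R) := by
              rw [mul_assoc, ← mul_assoc C, hQC, mul_assoc, hCC', ← mul_assoc, hQQ, smul_mul_smul_comm, one_mul]
              norm_num
            simp only [mul_add, add_mul, smul_mul_assoc, mul_smul_comm, one_mul, mul_one, hD, e2, smul_smul] at e
            have e3 : (64 : ℤ) • ((4 : ℤ) • D + Q * C) = 0 := by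
              linear_combination (norm := module) e - (4 : ℤ) • e1
            have hq : Q * C = -((4 : ℤ) • D) := eq_neg_of_add_eq_zero_right (hR.cancel 64 6 (by norm_num) e3)
            rw [hq]
            simp only [neg_mul, mul_neg, smul_mul_assoc, mul_smul_comm, hDi]
        have hzero : (j - i * j) * C = 0 := by
          refine hR.cancel 2 1 (by norm_num) ?_
          rw [hQ] at hkey
          simp only [mul_add, add_mul, sub_mul, mul_assoc, hCi, hCj, ci, cj, h.ii', h.jj', h.ji', h.ji, mul_neg, neg_mul,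
            neg_neg, smul_sub] at hkey ⊢
          linear_combination (norm := module) hkey
        have hC0 : C = 0 := by
          refine hR.cancel (-2) 1 (by norm_num) ?_
          have e : (j - i * j) * ((j - i * j) * C) = (-2 : ℤ) • C := by
            simp only [sub_mul, mul_sub, mul_assoc, h.ii', h.jj', h.ji', mul_neg, neg_neg]
            module
          rw [← e, hzero, mul_zero]
        rw [hC0, mul_zero] at hCC'
        exact hR.absurd 1024 10 (by norm_num) (by rw [← zsmul_one]; linear_combination (norm := module) hCC')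
      · exact hR.absurd 1024 10 (by norm_num) (by simpa using this)
      · exact hR.absurd 3072 10 (by norm_num) (by simpa using this)
  · exfalso
    have e : ((16 : ℤ) • ac w w') * ((16 : ℤ) • ac w w') = (5120 : ℤ) • (1 : R) := by
      rw [smul_mul_smul_comm, hn', smul_smul]; norm_num
    rw [F1] at e
    simp only [sub_mul, mul_sub, smul_mul_assoc, mul_smul_comm, one_mul, mul_one, smul_smul] at e
    have b1 : E * E = (-16 : ℤ) • E + (1216 : ℤ) • (1 : R) := by
      refine sub_eq_zero.mp (hR.cancel 4 2 (by norm_num) ?_)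
      linear_combination (norm := module) e
    rcases b2 with hC0 | b2
    · rw [hC0, mul_zero] at hCC
      have e2 : E = (-24 : ℤ) • (1 : R) := by
        refine sub_eq_zero.mp (hR.cancel 16 4 (by norm_num) ?_)
        linear_combination (norm := module) b1 + hCC
      rw [e2, smul_mul_smul_comm, one_mul] at hCC
      exact hR.absurd 1024 10 (by norm_num) (by rw [← zsmul_one]; linear_combination (norm := module) hCC)
    · have e2 : E = (8 : ℤ) • (1 : R) := by
        refine sub_eq_zero.mp (hR.cancel 32 5 (by norm_num) ?_)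
        linear_combination (norm := module) b1 - b2
      rw [e2, smul_mul_smul_comm, one_mul] at b1
      exact hR.absurd 1024 10 (by norm_num) (by rw [← zsmul_one]; linear_combination (norm := module) -b1)

end CfsgLib.Recognition.Zassenhaus
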