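import Mathlib
import Cfsg.Agent.Lib.Recognition.NearField.Basic

/-!
Two elements of order three in a fixed-point-free group act on a plane over a finite field.
-/

set_option linter.style.haveILetI false

namespace CfsgLib.Recognition.Zassenhaus

open NearField

/-- A homomorphism to the endomorphisms of a plane with unimodular generators. -/
theorem gl_of_plane {F : Type*} [CommRing F] {U : Type*} [AddCommGroup U] [Module F U] {H : Type*} [Group H]
    (bas : Module.Basis (Fin 2) F U) (σ : H →* Module.End F U) (hinj : Function.Injective σ) (S : Set H)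
    (hS : Subgroup.closure S = ⊤)
    (hdet : ∀ s ∈ S, ∃ c d e k : F, σ s (bas 0) = c • bas 0 + d • bas 1 ∧ σ s (bas 1) = e • bas 0 + k • bas 1 ∧
      c * k - e * d = 1) :
    ∃ φ : H →* GL (Fin 2) F, Function.Injective φ ∧ ∀ g, (φ g).1.det = 1 := by
  let μ : H →* Matrix (Fin 2) (Fin 2) F := (LinearMap.toMatrixAlgEquiv bas).toMulEquiv.toMonoidHom.comp σ
  refine ⟨μ.toHomUnits, fun g k hgk => hinj ((LinearMap.toMatrixAlgEquiv bas).injective (congrArg Units.val hgk :)), ?_⟩
  let N : Subgroup H :=
    { carrier := {g | (μ g).det = 1}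
      one_mem' := by show (μ 1).det = 1; rw [map_one, Matrix.det_one]
      mul_mem' := fun {g k} hg hk => by show (μ (g * k)).det = 1; rw [map_mul, Matrix.det_mul, hg, hk, mul_one]
      inv_mem' := fun {g} hg => by
        have h1 := congrArg Matrix.det (congrArg μ (inv_mul_cancel g))
        rw [map_mul, map_one, Matrix.det_mul, Matrix.det_one, show (μ g).det = 1 from hg, mul_one] at h1
        exact h1 }
  have hle : (⊤ : Subgroup H) ≤ N := by
    rw [← hS, Subgroup.closure_le]
    intro g hg
    obtain ⟨c, d, e, k, h0, h1, hd⟩ := hdet g hg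
    show (LinearMap.toMatrixAlgEquiv bas (σ g)).det = 1
    rw [Matrix.det_fin_two]
    simp only [LinearMap.toMatrixAlgEquiv_apply, h0, h1, map_add, map_smul, Module.Basis.repr_self, Finsupp.add_apply,
      Finsupp.smul_apply, Finsupp.single_apply, smul_eq_mul]
    simp
    linear_combination hd
  exact fun g => hle (Subgroup.mem_top g)

universe v

variable {r : ℕ} [Fact r.Prime] {V : Type v} [AddCommGroup V] [Module (ZMod r) V] [Finite V] [Nontrivial V]
  {G : Type*} [Group G] [Finite G] {ρ : G →* Module.End (ZMod r) V}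

omit [Finite V] in
theorem not_dvd_card [Finite V] (h : Fpf ρ) : ¬ r ∣ Nat.card G := by
  intro hd
  obtain ⟨g, hg⟩ := exists_prime_orderOf_dvd_card' r hd
  let H := Subgroup.zpowers g
  letI : MulAction H V := MulAction.compHom V (ρ.comp H.subtype)
  have hH : IsPGroup r H := IsPGroup.of_card (n := 1) (by rw [Nat.card_zpowers, hg, pow_one])
  have hmod := hH.card_modEq_card_fixedPoints V
  have hfix : MulAction.fixedPoints H V = {(0 : V)} := by
    refine Set.eq_singleton_iff_unique_mem.mpr ⟨fun k => map_zero (ρ (k : G)), fun v hv => ?_⟩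
    by_contra hv0
    have h1 := h g v hv0 (hv ⟨g, Subgroup.mem_zpowers g⟩)
    rw [h1, orderOf_one] at hg
    exact (Fact.out : r.Prime).one_lt.ne hg
  have hc : Nat.card ({(0 : V)} : Set V) = 1 := Nat.card_unique
  rw [hfix, hc, Module.natCard_eq_pow_finrank (K := ZMod r), Nat.card_zmod] at hmod
  have h0 : r ^ Module.finrank (ZMod r) V % r = 0 :=
    Nat.mod_eq_zero_of_dvd (dvd_pow_self r Module.finrank_pos.ne') |> fun h => h
  rw [Nat.ModEq, h0, Nat.one_mod_eq_one.mpr (Fact.out : r.Prime).one_lt.ne'] at hmod
  exact one_ne_zero hmod.symm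

omit [Finite V] [Finite G] [Nontrivial V] in
theorem eq_of_left_cancel (h : Fpf ρ) {g : G} (hg : g ≠ 1) {Y : Module.End (ZMod r) V} (hY : (ρ g - 1) * Y = 0) :
    Y = 0 := LinearMap.ext fun v => sub_one_injective h hg (DFunLike.congr_fun hY v)

omit [Finite V] [Finite G] [Nontrivial V] in
theorem cube_eq (h : Fpf ρ) {x : G} (hx : x * (x * x) = 1) (hx1 : x ≠ 1) : ρ x * ρ x + ρ x + 1 = 0 := by
  refine eq_of_left_cancel h hx1 ?_
  have h3 : ρ x * (ρ x * ρ x) = 1 := by rw [← map_mul, ← map_mul, hx, map_one]
  simp only [sub_mul, mul_add, one_mul, mul_one, h3]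
  abel

set_option maxHeartbeats 800000 in
omit [Finite G] in
/-- Two noncommuting elements of order three generate a group with a faithful plane representation. -/
theorem exists_plane (h : Fpf ρ) {x y : G} (hx : x * (x * x) = 1) (hy : y * (y * y) = 1) (hxy : x * y ≠ y * x) :
    ∃ (F : Type v) (_ : Field F) (_ : Fintype F), CharP F r ∧
      ∃ φ : Subgroup.closure ({x, y} : Set G) →* GL (Fin 2) F, Function.Injective φ ∧
        ∀ g, (φ g).1.det = 1 := by
  classical
  have hx1 : x ≠ 1 := fun e => hxy (by rw [e, one_mul, mul_one])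
  have hy1 : y ≠ 1 := fun e => hxy (by rw [e, one_mul, mul_one])
  -- adjoin a cube root of one
  let W := V × V
  let D : Module.End (ZMod r) V →ₐ[ZMod r] Module.End (ZMod r) W :=
    { toFun := fun f => f.prodMap f
      map_one' := LinearMap.ext fun _ => rfl
      map_mul' := fun _ _ => LinearMap.ext fun _ => rfl
      map_zero' := LinearMap.ext fun _ => rfl
      map_add' := fun _ _ => LinearMap.ext fun _ => rfl
      commutes' := fun _ => LinearMap.ext fun _ => rfl }
  let Ω : Module.End (ZMod r) W :=
    { toFun := fun w => (-w.2, w.1 - w.2)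
      map_add' := fun a b => Prod.ext (neg_add a.2 b.2) (add_sub_add_comm a.1 b.1 a.2 b.2)
      map_smul' := fun c a => Prod.ext (smul_neg c a.2).symm (smul_sub c a.1 a.2).symm }
  let A := D (ρ x)
  let B := D (ρ y)
  haveI : Finite (Submodule (ZMod r) W) := Finite.of_injective (fun p => (p : Set W)) SetLike.coe_injective
  let S : Set (Submodule (ZMod r) W) :=
    {p | p ≠ ⊥ ∧ (∀ w ∈ p, A w ∈ p) ∧ (∀ w ∈ p, B w ∈ p) ∧ ∀ w ∈ p, Ω w ∈ p}
  obtain ⟨U, ⟨hU0, hUA, hUB, hUO⟩, hmin⟩ := Set.Finite.exists_minimal (Set.toFinite S)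
    ⟨⊤, top_ne_bot, fun _ _ => trivial, fun _ _ => trivial, fun _ _ => trivial⟩
  haveI : Nontrivial U := Submodule.nontrivial_iff_ne_bot.mpr hU0
  -- an element of the group fixing a vector of the subspace is trivial
  have hfpf : ∀ (g : G) (u : U), u ≠ 0 → D (ρ g) u.1 = u.1 → g = 1 := by
    intro g u hu hg
    by_cases h1 : u.1.1 = 0
    · refine h g u.1.2 (fun h2 => hu (Subtype.ext (Prod.ext h1 h2))) (congrArg Prod.snd hg)
    · exact h g u.1.1 h1 (congrArg Prod.fst hg)
  let a : Module.End (ZMod r) U := A.restrict hUA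
  let b : Module.End (ZMod r) U := B.restrict hUB
  let o : Module.End (ZMod r) U := Ω.restrict hUO
  let s : Module.End (ZMod r) U := a * b + b * a + a + b
  have hcube : ∀ {g : G} (hg : g * (g * g) = 1) (hg1 : g ≠ 1) (hU : ∀ w ∈ U, D (ρ g) w ∈ U),
      (D (ρ g)).restrict hU * (D (ρ g)).restrict hU + (D (ρ g)).restrict hU + 1 = 0 := by
    intro g hg hg1 hU
    refine LinearMap.ext fun u => Subtype.ext ?_
    have := congrArg D (cube_eq h hg hg1)
    rw [map_add, map_add, map_mul, map_one, map_zero] at this
    exact DFunLike.congr_fun this u.1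
  have ha : a * a + a + 1 = 0 := hcube hx hx1 hUA
  have hb : b * b + b + 1 = 0 := hcube hy hy1 hUB
  have ho : o * o + o + 1 = 0 := LinearMap.ext fun u => Subtype.ext (by
    refine Prod.ext ?_ ?_
    · show -(u.1.1 - u.1.2) + -u.1.2 + u.1.1 = 0
      abel
    · show -u.1.2 - (u.1.1 - u.1.2) + (u.1.1 - u.1.2) + u.1.2 = 0
      abel)
  have hoA : o * a = a * o := LinearMap.ext fun u => Subtype.ext (by
    show ((-(ρ x u.1.2), ρ x u.1.1 - ρ x u.1.2) : W) = (ρ x (-u.1.2), ρ x (u.1.1 - u.1.2))
    rw [map_neg, map_sub])
  have hoB : o * b = b * o := LinearMap.ext fun u => Subtype.ext (by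
    show ((-(ρ y u.1.2), ρ y u.1.1 - ρ y u.1.2) : W) = (ρ y (-u.1.2), ρ y (u.1.1 - u.1.2))
    rw [map_neg, map_sub])
  have ha2 : a * a = -a - 1 := by rw [← sub_eq_zero, ← ha]; abel
  have hb2 : b * b = -b - 1 := by rw [← sub_eq_zero, ← hb]; abel
  have hsA : s * a = a * s := by
    have e : ∀ z, a * (a * z) = -(a * z) - z := fun z => by rw [← mul_assoc, ha2, sub_mul, neg_mul, one_mul]
    simp only [s, add_mul, mul_add, mul_assoc, e, ha2, mul_sub, mul_neg, mul_one]
    abel
  have hsB : s * b = b * s := by
    have e : ∀ z, b * (b * z) = -(b * z) - z := fun z => by rw [← mul_assoc, hb2, sub_mul, neg_mul, one_mul]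
    simp only [s, add_mul, mul_add, mul_assoc, e, hb2, mul_sub, mul_neg, mul_one]
    abel
  have hos : o * s = s * o := by
    simp only [s, add_mul, mul_add, mul_assoc]
    rw [hoA, hoB, ← mul_assoc o a, hoA, mul_assoc, hoB, ← mul_assoc o b, hoB, mul_assoc, hoA]
  -- the field
  let C : Subalgebra (ZMod r) (Module.End (ZMod r) U) := Algebra.adjoin (ZMod r) {o, s}
  haveI : IsMulCommutative C := Algebra.isMulCommutative_adjoin (ZMod r) (s := {o, s}) (by
    rintro p (rfl | rfl) q (rfl | rfl)
    · rfl
    · exact hos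
    · exact hos.symm
    · rfl)
  letI : CommRing C := { (inferInstance : Ring C) with mul_comm := mul_comm' }
  have hCc : ∀ c ∈ C, (∀ g, g = a ∨ g = b ∨ g = o → Commute c g) := by
    intro c hc
    induction hc using Algebra.adjoin_induction with
    | mem p hp =>
      rcases hp with rfl | rfl
      · rintro g (rfl | rfl | rfl)
        · exact hoA
        · exact hoB
        · exact Commute.refl _
      · rintro g (rfl | rfl | rfl)
        · exact hsA
        · exact hsB
        · exact hos.symm
    | algebraMap k => exact fun g _ => Algebra.commute_algebraMap_left k g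
    | add p q _ _ hp hq => exact fun g hg => (hp g hg).add_left (hq g hg)
    | mul p q _ _ hp hq => exact fun g hg => (hp g hg).mul_left (hq g hg)
  have hmax : ∀ (K : Submodule (ZMod r) U), K ≠ ⊥ → (∀ u ∈ K, a u ∈ K) → (∀ u ∈ K, b u ∈ K) → (∀ u ∈ K, o u ∈ K) →
      ∀ u, u ∈ K := by
    intro K hK0 hKa hKb hKo u
    have hS : K.map U.subtype ∈ S := by
      refine ⟨fun e => hK0 (Submodule.map_injective_of_injective U.subtype_injective (by rw [e, Submodule.map_bot])),
        ?_, ?_, ?_⟩
      · rintro _ ⟨w, hw, rfl⟩; exact ⟨a w, hKa w hw, rfl⟩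
      · rintro _ ⟨w, hw, rfl⟩; exact ⟨b w, hKb w hw, rfl⟩
      · rintro _ ⟨w, hw, rfl⟩; exact ⟨o w, hKo w hw, rfl⟩
    obtain ⟨w, hw, he⟩ := hmin hS (Submodule.map_subtype_le U K) u.2
    rwa [Subtype.ext he] at hw
  haveI : Finite C := Finite.of_injective (fun c => ⇑(c : Module.End (ZMod r) U))
    (fun c d hcd => Subtype.ext (DFunLike.coe_injective hcd))
  haveI : Nontrivial C := ⟨⟨0, 1, fun e => zero_ne_one (congrArg Subtype.val e)⟩⟩
  haveI : NoZeroDivisors C := by
    refine ⟨fun {c d} hcd => ?_⟩
    by_cases hc : c = 0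
    · exact Or.inl hc
    right
    by_contra hd
    apply hc
    refine Subtype.ext (LinearMap.ext fun u => ?_)
    refine hmax (LinearMap.ker (c : Module.End (ZMod r) U)) ?_ ?_ ?_ ?_ u
    · intro e
      apply hd
      refine Subtype.ext (LinearMap.ext fun w => ?_)
      exact LinearMap.ker_eq_bot'.mp e _ (DFunLike.congr_fun (congrArg Subtype.val hcd) w)
    all_goals
      intro w hw
      rw [LinearMap.mem_ker] at hw ⊢
    · rw [← Module.End.mul_apply, (hCc _ c.2 a (Or.inl rfl)).eq, Module.End.mul_apply, hw, map_zero]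
    · rw [← Module.End.mul_apply, (hCc _ c.2 b (Or.inr (Or.inl rfl))).eq, Module.End.mul_apply, hw, map_zero]
    · rw [← Module.End.mul_apply, (hCc _ c.2 o (Or.inr (Or.inr rfl))).eq, Module.End.mul_apply, hw, map_zero]
  haveI : IsDomain C := NoZeroDivisors.to_isDomain C
  letI : Fintype C := Fintype.ofFinite C
  haveI : CharP C r := charP_of_injective_algebraMap (algebraMap (ZMod r) C).injective r
  -- an eigenvector of the first generator
  let oC : C := ⟨o, Algebra.subset_adjoin (Or.inl rfl)⟩
  let sC : C := ⟨s, Algebra.subset_adjoin (Or.inr rfl)⟩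
  obtain ⟨ω, hω, w, hw0, haw⟩ : ∃ ω : C, ω * ω + ω + 1 = 0 ∧ ∃ w : U, w ≠ 0 ∧ a w = ω • w := by
    have hprod : (a - o) * (a + o + 1) = 0 := by
      simp only [sub_mul, mul_add, mul_one, hoA]
      linear_combination (norm := module) ha - ho
    by_cases he : a + o + 1 = 0
    · obtain ⟨w, hw⟩ := exists_ne (0 : U)
      refine ⟨-oC - 1, ?_, w, hw, ?_⟩
      · have hoC : oC * oC + oC + 1 = 0 := Subtype.ext ho
        linear_combination hoC
      · show a w = (-o - 1 : Module.End (ZMod r) U) w
        rw [show a = -o - 1 by rw [← sub_eq_zero, ← he]; abel]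
    · obtain ⟨v, hv⟩ : ∃ v, (a + o + 1) v ≠ 0 := by
        by_contra hall
        push Not at hall
        exact he (LinearMap.ext hall)
      exact ⟨oC, Subtype.ext ho, _, hv, sub_eq_zero.mp (DFunLike.congr_fun hprod v)⟩
  have hCa : ∀ (c : C) (u : U), a (c • u) = c • a u := fun c u =>
    (DFunLike.congr_fun (hCc _ c.2 a (Or.inl rfl)).eq u).symm
  have hCb : ∀ (c : C) (u : U), b (c • u) = c • b u := fun c u =>
    (DFunLike.congr_fun (hCc _ c.2 b (Or.inr (Or.inl rfl))).eq u).symm
  have hCo : ∀ (u : U), o u = oC • u := fun u => rfl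
  have hab : a (b w) = (sC - ω) • w + (-ω - 1) • b w := by
    have e : a (b w) = s w - b (a w) - a w - b w := by
      simp only [s, LinearMap.add_apply, Module.End.mul_apply]; abel
    rw [e, haw, hCb, show s w = sC • w from rfl]
    module
  have hbb : b (b w) = -w - b w := by
    have := DFunLike.congr_fun hb2 w
    simpa [LinearMap.sub_apply, sub_eq_add_neg, add_comm] using this
  let e2 : Fin 2 → U := ![w, b w]
  have hspan : ∀ u, u ∈ Submodule.span C (Set.range e2) := by
    intro u
    have h0 : w ∈ Submodule.span C (Set.range e2) := Submodule.subset_span ⟨0, rfl⟩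
    have h1 : b w ∈ Submodule.span C (Set.range e2) := Submodule.subset_span ⟨1, rfl⟩
    let K : Submodule (ZMod r) U :=
      { carrier := {u | u ∈ Submodule.span C (Set.range e2)}
        add_mem' := fun p q => (Submodule.span C (Set.range e2)).add_mem p q
        zero_mem' := (Submodule.span C (Set.range e2)).zero_mem
        smul_mem' := fun k u hu => by
          have : k • u = (algebraMap (ZMod r) C k) • u := rfl
          show k • u ∈ Submodule.span C (Set.range e2)
          rw [this]
          exact Submodule.smul_mem _ _ hu }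
    refine hmax K (fun e => hw0 ?_) ?_ ?_ (fun u hu => by
      show o u ∈ Submodule.span C (Set.range e2)
      rw [hCo]; exact Submodule.smul_mem _ _ hu) u
    · exact (Submodule.eq_bot_iff K).mp e w h0
    · intro u hu
      show a u ∈ Submodule.span C (Set.range e2)
      induction hu using Submodule.span_induction with
      | mem p hp =>
        obtain ⟨i, rfl⟩ := hp
        fin_cases i
        · show a w ∈ _
          rw [haw]; exact Submodule.smul_mem _ _ h0
        · show a (b w) ∈ _
          rw [hab]; exact Submodule.add_mem _ (Submodule.smul_mem _ _ h0) (Submodule.smul_mem _ _ h1)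
      | zero => rw [map_zero]; exact Submodule.zero_mem _
      | add p q _ _ hp hq => rw [map_add]; exact Submodule.add_mem _ hp hq
      | smul c p _ hp => rw [hCa]; exact Submodule.smul_mem _ _ hp
    · intro u hu
      show b u ∈ Submodule.span C (Set.range e2)
      induction hu using Submodule.span_induction with
      | mem p hp =>
        obtain ⟨i, rfl⟩ := hp
        fin_cases i
        · exact h1
        · show b (b w) ∈ _
          rw [hbb]; exact Submodule.sub_mem _ (Submodule.neg_mem _ h0) h1
      | zero => rw [map_zero]; exact Submodule.zero_mem _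
      | add p q _ _ hp hq => rw [map_add]; exact Submodule.add_mem _ hp hq
      | smul c p _ hp => rw [hCb]; exact Submodule.smul_mem _ _ hp
  have hli : LinearIndependent C e2 := by
    rw [LinearIndependent.pair_iff]
    intro k0 d hd
    by_contra hne
    have hd0 : d ≠ 0 := by
      rintro rfl
      rw [zero_smul, add_zero] at hd
      apply hne
      refine ⟨?_, rfl⟩
      by_contra hk
      obtain ⟨e, he⟩ := (Finite.isField_of_domain C).mul_inv_cancel hk
      apply hw0
      have := congrArg (fun p => e • p) hd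
      rwa [smul_smul, smul_zero, mul_comm, he, one_smul] at this
    obtain ⟨e, he⟩ := (Finite.isField_of_domain C).mul_inv_cancel hd0
    obtain ⟨c, hc⟩ : ∃ c : C, c • w = b w := by
      refine ⟨-(e * k0), ?_⟩
      have := congrArg (fun p => e • p) hd
      rw [smul_add, smul_smul, smul_smul, smul_zero, mul_comm e d, he, one_smul] at this
      exact (neg_smul (e * k0) w).trans (eq_neg_of_add_eq_zero_right this).symm
    -- otherwise the two generators are scalars
    have hline : ∀ u : U, ∃ k : C, k • w = u := by
      intro u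
      have hu := hspan u
      induction hu using Submodule.span_induction with
      | mem p hp =>
        obtain ⟨i, rfl⟩ := hp
        fin_cases i
        · exact ⟨1, one_smul _ _⟩
        · exact ⟨c, hc⟩
      | zero => exact ⟨0, zero_smul _ _⟩
      | add p q _ _ hp hq =>
        obtain ⟨k, rfl⟩ := hp
        obtain ⟨l, rfl⟩ := hq
        exact ⟨k + l, add_smul _ _ _⟩
      | smul k p _ hp =>
        obtain ⟨l, rfl⟩ := hp
        exact ⟨k * l, mul_smul _ _ _⟩
    apply hxy
    have hc1 : a (b w) = b (a w) := by rw [← hc, hCa, haw, hCb, ← hc, smul_smul, smul_smul, mul_comm]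
    have hg : D (ρ ((y * x)⁻¹ * (x * y))) w.1 = w.1 := by
      have e1 : D (ρ (x * y)) w.1 = D (ρ (y * x)) w.1 := by
        rw [map_mul, map_mul, map_mul, map_mul]
        exact congrArg Subtype.val hc1
      rw [map_mul, map_mul, Module.End.mul_apply, e1, ← Module.End.mul_apply, ← map_mul, ← map_mul, inv_mul_cancel,
        map_one, map_one, Module.End.one_apply]
    exact (inv_mul_eq_one.mp (hfpf _ w hw0 hg)).symm
  let bas : Module.Basis (Fin 2) C U := Module.Basis.mk hli (fun u _ => hspan u)
  have hbas : ∀ i, bas i = e2 i := fun i => by rw [Module.Basis.mk_apply]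
  -- elements of the group preserve the plane
  have hH : ∀ g ∈ Subgroup.closure ({x, y} : Set G), ∃ f : Module.End C U, ∀ u : U, (f u).1 = D (ρ g) u.1 := by
    intro g hg
    induction hg using Subgroup.closure_induction'' with
    | one => exact ⟨1, fun u => by rw [map_one, map_one]; rfl⟩
    | mem p hp =>
      rcases hp with rfl | rfl
      · exact ⟨{ toFun := a, map_add' := map_add a, map_smul' := hCa }, fun u => rfl⟩
      · exact ⟨{ toFun := b, map_add' := map_add b, map_smul' := hCb }, fun u => rfl⟩
    | inv_mem p hp =>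
      rcases hp with rfl | rfl
      · refine ⟨{ toFun := fun u => a (a u)
                  map_add' := fun u v => (congrArg a (map_add a u v)).trans (map_add a _ _)
                  map_smul' := fun c u => (congrArg a (hCa c u)).trans (hCa c (a u)) }, fun u => ?_⟩
        rw [inv_eq_of_mul_eq_one_right hx, map_mul, map_mul]
        rfl
      · refine ⟨{ toFun := fun u => b (b u)
                  map_add' := fun u v => (congrArg b (map_add b u v)).trans (map_add b _ _)
                  map_smul' := fun c u => (congrArg b (hCb c u)).trans (hCb c (b u)) }, fun u => ?_⟩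
        rw [inv_eq_of_mul_eq_one_right hy, map_mul, map_mul]
        rfl
    | mul p q _ _ hp hq =>
      obtain ⟨f, hf⟩ := hp
      obtain ⟨f', hf'⟩ := hq
      exact ⟨f * f', fun u => by rw [Module.End.mul_apply, hf, hf', map_mul, map_mul]; rfl⟩
  choose f hf using hH
  let σ : Subgroup.closure ({x, y} : Set G) →* Module.End C U :=
    { toFun := fun g => f g.1 g.2
      map_one' := LinearMap.ext fun u => Subtype.ext (by rw [hf, Subgroup.coe_one, map_one, map_one]; rfl)
      map_mul' := fun g k => LinearMap.ext fun u => Subtype.ext (by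
        rw [hf, Module.End.mul_apply, hf, hf, Subgroup.coe_mul, map_mul, map_mul]; rfl) }
  have hinj : Function.Injective σ := by
    rw [injective_iff_map_eq_one]
    intro g hg
    refine Subtype.ext (hfpf g w hw0 ?_)
    have h3 := DFunLike.congr_fun hg w
    rw [← hf g.1 g.2 w, show f g.1 g.2 = σ g from rfl, h3]
    rfl
  obtain ⟨φ, hφ, hdet⟩ := gl_of_plane bas σ hinj
    {g | (g : G) ∈ ({x, y} : Set G)} (Subgroup.closure_closure_coe_preimage) (by
      rintro ⟨g, hg'⟩ hg
      rcases (show g = x ∨ g = y from hg) with rfl | rfl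
      · refine ⟨ω, 0, sC - ω, -ω - 1, Subtype.ext ?_, Subtype.ext ?_, ?_⟩
        · show (f _ hg' (bas 0)).1 = _
          rw [hf, zero_smul, add_zero, hbas]
          show (a w).1 = (ω • w).1
          rw [haw]
        · show (f _ hg' (bas 1)).1 = _
          rw [hf, hbas, hbas]
          show (a (b w)).1 = ((sC - ω) • w + (-ω - 1) • b w).1
          rw [hab]
        · linear_combination (-1 : C) * hω
      · refine ⟨0, 1, -1, -1, Subtype.ext ?_, Subtype.ext ?_, ?_⟩
        · show (f _ hg' (bas 0)).1 = _
          rw [hf, zero_smul, zero_add, one_smul, hbas, hbas]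
          rfl
        · show (f _ hg' (bas 1)).1 = _
          rw [hf, hbas, hbas]
          show (b (b w)).1 = ((-1 : C) • w + (-1 : C) • b w).1
          rw [hbb]
          congr 1
          module
        · ring)
  exact ⟨C, (Finite.isField_of_domain C).toField, inferInstance, inferInstance, φ, hφ, hdet⟩

end CfsgLib.Recognition.Zassenhaus
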