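import Mathlib
import Cfsg.Agent.Lib.Recognition.Zassenhaus.Algebra
import Cfsg.Agent.Lib.Recognition.Zassenhaus.Plane
import Cfsg.Agent.Lib.Classical.Dickson.Main

/-!
The groups generated by two elements of order three in a fixed-point-free group.
-/

set_option linter.style.haveILetI false
set_option linter.unusedSimpArgs false

namespace CfsgLib.Recognition.Zassenhaus

open NearField OnePoint
open scoped CfsgLib.Classical.Dickson

theorem perm_four_pairs : ∀ a : Equiv.Perm (Fin 4), a * (a * a) = 1 → ∀ b : Equiv.Perm (Fin 4), b * (b * b) = 1 →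
    a * b = b * a ∨ (a * b) * (a * b) = 1 ∨ (a * (b * b)) * (a * (b * b)) = 1 := by
  decide +kernel

theorem perm_five_pairs : ∀ a : Equiv.Perm (Fin 5), a * (a * a) = 1 → ∀ b : Equiv.Perm (Fin 5), b * (b * b) = 1 →
    a * b = b * a ∨ (a * b) * (a * b) = 1 ∨ (a * (b * b)) * (a * (b * b)) = 1 ∨
      ((a * b) ^ 5 = 1 ∧ (a * (b * b)) ^ 5 = 1) := by
  decide +kernel

theorem alt_four_pairs (a b : alternatingGroup (Fin 4)) (ha : a * (a * a) = 1) (hb : b * (b * b) = 1) :
    a * b = b * a ∨ (a * b) * (a * b) = 1 ∨ (a * (b * b)) * (a * (b * b)) = 1 :=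
  (perm_four_pairs _ (congrArg Subtype.val ha) _ (congrArg Subtype.val hb)).imp (fun h => Subtype.ext h)
    (Or.imp (fun h => Subtype.ext h) (fun h => Subtype.ext h))

theorem alt_five_pairs (a b : alternatingGroup (Fin 5)) (ha : a * (a * a) = 1) (hb : b * (b * b) = 1) :
    a * b = b * a ∨ (a * b) * (a * b) = 1 ∨ (a * (b * b)) * (a * (b * b)) = 1 ∨
      ((a * b) ^ 5 = 1 ∧ (a * (b * b)) ^ 5 = 1) :=
  (perm_five_pairs _ (congrArg Subtype.val ha) _ (congrArg Subtype.val hb)).imp (fun h => Subtype.ext h)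
    (Or.imp (fun h => Subtype.ext h) (Or.imp (fun h => Subtype.ext h) (fun h => ⟨Subtype.ext h.1, Subtype.ext h.2⟩)))

theorem dihedral_comm {n : ℕ} (a b : DihedralGroup n) (ha : a * (a * a) = 1) (hb : b * (b * b) = 1) :
    a * b = b * a := by
  cases a with
  | r i =>
    cases b with
    | r j => rw [DihedralGroup.r_mul_r, DihedralGroup.r_mul_r, add_comm]
    | sr j => exact absurd hb (by rw [DihedralGroup.sr_mul_self, mul_one]; intro h; cases h)
  | sr i => exact absurd ha (by rw [DihedralGroup.sr_mul_self, mul_one]; intro h; cases h)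

theorem comm_of_closure {M N : Type*} [Group M] [Group N] (f : M →* N) (x y : M)
    (hgen : Subgroup.closure {x, y} = ⊤) (hxy : f x * f y = f y * f x) (g k : M) : f g * f k = f k * f g := by
  have key : ∀ g, Commute (f g) (f x) ∧ Commute (f g) (f y) := by
    intro g
    have hg : g ∈ Subgroup.closure {x, y} := hgen ▸ Subgroup.mem_top g
    induction hg using Subgroup.closure_induction with
    | mem p hp =>
      rcases hp with rfl | rfl
      · exact ⟨Commute.refl _, hxy⟩
      · exact ⟨hxy.symm, Commute.refl _⟩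
    | one => rw [map_one]; exact ⟨Commute.one_left _, Commute.one_left _⟩
    | mul p q _ _ hp hq => rw [map_mul]; exact ⟨hp.1.mul_left hq.1, hp.2.mul_left hq.2⟩
    | inv p _ hp => rw [map_inv]; exact ⟨hp.1.inv_left, hp.2.inv_left⟩
  have hk : k ∈ Subgroup.closure {x, y} := hgen ▸ Subgroup.mem_top k
  induction hk using Subgroup.closure_induction with
  | mem p hp =>
    rcases hp with rfl | rfl
    · exact (key g).1.eq
    · exact (key g).2.eq
  | one => rw [map_one, mul_one, one_mul]
  | mul p q _ _ hp hq => rw [map_mul]; exact (Commute.mul_right hp hq).eq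
  | inv p _ hp => rw [map_inv]; exact (Commute.inv_right hp).eq

universe v

variable {r : ℕ} [Fact r.Prime] {V : Type v} [AddCommGroup V] [Module (ZMod r) V] [Finite V] [Nontrivial V]
  {G : Type*} [Group G] [Finite G] {ρ : G →* Module.End (ZMod r) V}

variable (ρ) in
/-- The pure part of an element of order three. -/
def pure3 (x : G) : Module.End (ZMod r) V := (2 : ℤ) • ρ x + 1

omit [Finite V] [Nontrivial V] [Finite G] in
theorem pure3_sq (h : Fpf ρ) {x : G} (hx : x * (x * x) = 1) (hx1 : x ≠ 1) :
    pure3 ρ x * pure3 ρ x = (-3 : ℤ) • (1 : Module.End (ZMod r) V) := by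
  have e := cube_eq h hx hx1
  simp only [pure3, add_mul, mul_add, smul_mul_assoc, mul_smul_comm, mul_one, one_mul]
  linear_combination (norm := module) (4 : ℤ) • e

omit [Finite V] [Nontrivial V] [Finite G] in
theorem pure3_square_elem (h : Fpf ρ) {x : G} (hx : x * (x * x) = 1) (hx1 : x ≠ 1) :
    pure3 ρ (x * x) = -pure3 ρ x := by
  have e := cube_eq h hx hx1
  simp only [pure3, map_mul]
  linear_combination (norm := module) (2 : ℤ) • e

omit [Finite V] [Finite G] in
/-- Commuting elements of order three generate the same subgroup. -/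
theorem eq_of_commute (h : Fpf ρ) {x y : G} (hx : x * (x * x) = 1) (hx1 : x ≠ 1) (hy : y * (y * y) = 1) (hy1 : y ≠ 1)
    (hxy : x * y = y * x) : y = x ∨ y = x * x := by
  by_contra hne
  push Not at hne
  have ex := cube_eq h hx hx1
  have ey := cube_eq h hy hy1
  have c : ρ y * ρ x = ρ x * ρ y := by rw [← map_mul, ← map_mul, hxy]
  have x3 : ρ x * (ρ x * ρ x) = 1 := by rw [← map_mul, ← map_mul, hx, map_one]
  have e : (ρ (x⁻¹ * y) - 1) * (ρ ((x * x)⁻¹ * y) - 1) = 0 := by
    rw [show x⁻¹ = x * x from inv_eq_of_mul_eq_one_right hx,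
      show (x * x)⁻¹ = x from inv_eq_of_mul_eq_one_right (by rw [mul_assoc, hx])]
    simp only [map_mul, sub_mul, mul_sub, mul_one, one_mul, mul_assoc]
    rw [← mul_assoc (ρ y) (ρ x), c, mul_assoc, ← mul_assoc (ρ x) (ρ x), ← mul_assoc (ρ x * ρ x) (ρ x), mul_assoc (ρ x),
      x3, one_mul]
    have ey' : ρ y * ρ y = -ρ y - 1 := by rw [← sub_eq_zero, ← ey]; abel
    have ex' : ρ x * ρ x = -ρ x - 1 := by rw [← sub_eq_zero, ← ex]; abel
    rw [ey', ← mul_assoc, ex', sub_mul, neg_mul, one_mul]
    abel
  have h1 : x⁻¹ * y ≠ 1 := fun e => hne.1 (inv_mul_eq_one.mp e).symm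
  have h2 : (x * x)⁻¹ * y ≠ 1 := fun e => hne.2 (inv_mul_eq_one.mp e).symm
  have h3 := eq_of_left_cancel h h1 e
  exact h2 (h.injective (by rw [map_one]; exact sub_eq_zero.mp h3))

omit [Finite V] [Finite G] in
theorem eq_one_or_neg (h : Fpf ρ) {g z : G} (hg : g * g = 1) (hz : ρ z = -1) : g = 1 ∨ g = z := by
  by_cases h1 : g = 1
  · exact Or.inl h1
  right
  refine h.injective ?_
  rw [hz, ← sub_eq_zero, sub_neg_eq_add]
  refine eq_of_left_cancel h h1 ?_
  simp only [sub_mul, mul_add, mul_one, one_mul, ← map_mul, hg, map_one]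
  abel

omit [Finite V] [Nontrivial V] [Finite G] in
theorem exists_neg (h : Fpf ρ) {g : G} (hg : g * g = 1) (hg1 : g ≠ 1) : ρ g = -1 := by
  rw [← sub_eq_zero, sub_neg_eq_add]
  refine eq_of_left_cancel h hg1 ?_
  simp only [sub_mul, mul_add, mul_one, one_mul, ← map_mul, hg, map_one]
  abel

omit [Finite V] [Nontrivial V] [Finite G] in
/-- A product of order four gives anticommutator `-2`. -/
theorem ac_of_four (h : Fpf ρ) {x y z : G} (hx : x * (x * x) = 1) (hx1 : x ≠ 1) (hy : y * (y * y) = 1) (hy1 : y ≠ 1)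
    (hz : ρ z = -1) (hxy : x * y * (x * y) = z) :
    ac (pure3 ρ x) (pure3 ρ y) = (-2 : ℤ) • (1 : Module.End (ZMod r) V) := by
  have ex := cube_eq h hx hx1
  have ey := cube_eq h hy hy1
  have e4 : ρ (x * y) * ρ (x * y) = -1 := by rw [← map_mul, hxy, hz]
  have einv : ρ (x * y) * ρ (y * y * (x * x)) = 1 := by
    rw [← map_mul, show x * y * (y * y * (x * x)) = x * (y * (y * y)) * (x * x) by group, hy, mul_one, hx, map_one]
  have einv' : ρ (y * y * (x * x)) * ρ (x * y) = 1 := by
    rw [← map_mul, show y * y * (x * x) * (x * y) = y * y * (x * (x * x)) * y by group, hx, mul_one, mul_assoc, hy, map_one]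
  have e : ρ (x * y) + ρ (y * y * (x * x)) = 0 := by
    have h1 : ρ (y * y * (x * x)) * (ρ (x * y) * ρ (x * y)) = ρ (x * y) := by rw [← mul_assoc, einv', one_mul]
    rw [e4, mul_neg, mul_one] at h1
    rw [← h1, neg_add_cancel]
  have ey' : ρ y * ρ y = -ρ y - 1 := by rw [← sub_eq_zero, ← ey]; abel
  have ex' : ρ x * ρ x = -ρ x - 1 := by rw [← sub_eq_zero, ← ex]; abel
  simp only [map_mul, ey', ex', sub_mul, mul_sub, neg_mul, mul_neg, mul_one, one_mul] at e
  simp only [ac, pure3, add_mul, mul_add, smul_mul_assoc, mul_smul_comm, mul_one, one_mul]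
  linear_combination (norm := module) (4 : ℤ) • e

omit [Finite V] [Finite G] in
/-- A product whose fifth power is plus or minus one. -/
theorem ac_of_five (h : Fpf ρ) (hR : NoTorsion (Module.End (ZMod r) V)) {x y z : G} (hx : x * (x * x) = 1) (hx1 : x ≠ 1)
    (hy : y * (y * y) = 1) (hy1 : y ≠ 1) (hz : ρ z = -1) (hne : x * y ≠ 1) (hnez : x * y ≠ z)
    (hxy : (x * y) ^ 5 = 1 ∨ (x * y) ^ 5 = z) :
    ac (pure3 ρ x) (pure3 ρ y) * ac (pure3 ρ x) (pure3 ρ y) = (20 : ℤ) • (1 : Module.End (ZMod r) V) ∨
    ac (pure3 ρ x) (pure3 ρ y) * ac (pure3 ρ x) (pure3 ρ y) + (8 : ℤ) • ac (pure3 ρ x) (pure3 ρ y) =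
      (4 : ℤ) • (1 : Module.End (ZMod r) V) := by
  have ex := cube_eq h hx hx1
  have ey := cube_eq h hy hy1
  set e := ρ (x * y) with he
  set f := ρ (y * y * (x * x)) with hf
  have ef : e * f = 1 := by
    rw [he, hf, ← map_mul, show x * y * (y * y * (x * x)) = x * (y * (y * y)) * (x * x) by group, hy, mul_one, hx, map_one]
  have fe : f * e = 1 := by
    rw [he, hf, ← map_mul, show y * y * (x * x) * (x * y) = y * y * (x * (x * x)) * y by group, hx, mul_one, mul_assoc, hy,
      map_one]
  have ef' : ∀ w, e * (f * w) = w := fun w => by rw [← mul_assoc, ef, one_mul]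
  have fe' : ∀ w, f * (e * w) = w := fun w => by rw [← mul_assoc, fe, one_mul]
  have hT : ac (pure3 ρ x) (pure3 ρ y) = (4 : ℤ) • (e + f) - (2 : ℤ) • (1 : Module.End (ZMod r) V) := by
    have ey' : ρ y * ρ y = -ρ y - 1 := by rw [← sub_eq_zero, ← ey]; abel
    have ex' : ρ x * ρ x = -ρ x - 1 := by rw [← sub_eq_zero, ← ex]; abel
    rw [he, hf]
    simp only [ac, pure3, map_mul, ey', ex', sub_mul, mul_sub, neg_mul, mul_neg, add_mul, mul_add, smul_mul_assoc,
      mul_smul_comm, mul_one, one_mul]
    module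
  rcases hxy with h5 | h5
  · right
    have hs : e * (e * (e * e)) + e * (e * e) + e * e + e + 1 = 0 := by
      refine eq_of_left_cancel h hne ?_
      rw [← he]
      have h5' : e * (e * (e * (e * e))) = 1 := by
        have := congrArg ρ h5
        rw [map_pow, map_one, ← he] at this
        rw [← this]
        simp only [pow_succ, pow_zero, one_mul, mul_assoc]
      simp only [sub_mul, mul_add, mul_one, one_mul, h5']
      abel
    have hq := congrArg (fun w => f * (f * w)) hs
    simp only [mul_add, fe', fe, mul_one, mul_zero] at hq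
    rw [hT]
    simp only [sub_mul, mul_sub, add_mul, mul_add, smul_mul_assoc, mul_smul_comm, mul_one, one_mul, ef, fe, smul_add,
      smul_sub]
    linear_combination (norm := module) (16 : ℤ) • hq
  · left
    have hs : e * (e * (e * e)) - e * (e * e) + e * e - e + 1 = 0 := by
      have hne' : x * y * z ≠ 1 := fun h0 => hnez (by
        have hzz : z * z = 1 := h.injective (by rw [map_mul, hz, map_one, neg_mul_neg, one_mul])
        calc x * y = x * y * z * z := by rw [mul_assoc _ z z, hzz, mul_one]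
          _ = z := by rw [h0, one_mul])
      refine eq_of_left_cancel h hne' ?_
      rw [map_mul, ← he, hz, mul_neg, mul_one]
      have h5' : e * (e * (e * (e * e))) = -1 := by
        have := congrArg ρ h5
        rw [map_pow, hz, ← he] at this
        rw [← this]
        simp only [pow_succ, pow_zero, one_mul, mul_assoc]
      simp only [sub_mul, neg_mul, mul_add, mul_sub, mul_one, one_mul, h5']
      abel
    have hq := congrArg (fun w => f * (f * w)) hs
    simp only [mul_add, mul_sub, fe', fe, mul_one, mul_zero] at hq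
    rw [hT]
    simp only [sub_mul, mul_sub, add_mul, mul_add, smul_mul_assoc, mul_smul_comm, mul_one, one_mul, ef, fe, smul_add,
      smul_sub]
    linear_combination (norm := module) (16 : ℤ) • hq

set_option maxHeartbeats 800000 in
/-- The possible pairs of elements of order three. -/
theorem pair_cases (h : Fpf ρ) (hR : NoTorsion (Module.End (ZMod r) V)) {z : G} (hz : ρ z = -1) {x y : G}
    (hx : x * (x * x) = 1) (hx1 : x ≠ 1) (hy : y * (y * y) = 1) (hy1 : y ≠ 1) :
    y = x ∨ y = x * x ∨ x * y * (x * y) = z ∨ x * (y * y) * (x * (y * y)) = z ∨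
      (ac (pure3 ρ x) (pure3 ρ y) * ac (pure3 ρ x) (pure3 ρ y) = (20 : ℤ) • (1 : Module.End (ZMod r) V) ∧
        ∃ f : Subgroup.closure ({x, y} : Set G) →* alternatingGroup (Fin 5), Function.Surjective f ∧
          ∀ g, f g = 1 → (g : G) = 1 ∨ (g : G) = z) := by
  classical
  by_cases hcomm : x * y = y * x
  · exact (eq_of_commute h hx hx1 hy hy1 hcomm).imp id Or.inl
  right; right
  obtain ⟨F, _, _, hF, φ, hφ, hdet⟩ := exists_plane h hx hy hcomm
  haveI := hF
  let H := Subgroup.closure ({x, y} : Set G)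
  let q : H →* Matrix.ProjGenLinGroup (Fin 2) F := Matrix.ProjGenLinGroup.mk.comp φ
  have hker : ∀ g : H, q g = 1 → (g : G) = 1 ∨ (g : G) = z := by
    intro g hg
    obtain ⟨c, hc⟩ : ∃ c : Fˣ, Matrix.GeneralLinearGroup.scalar (Fin 2) c = φ g := by
      have h1 : φ g ∈ Matrix.ProjGenLinGroup.mk.ker := hg
      rwa [Matrix.ProjGenLinGroup.ker_mk, Matrix.GeneralLinearGroup.center_eq_range_scalar, MonoidHom.mem_range] at h1
    have hcc : c * c = 1 := by
      refine Units.ext ?_
      have := hdet g
      rw [← hc] at this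
      have h2 : c = 1 ∨ c = -1 := by simpa [Matrix.GeneralLinearGroup.scalar, Matrix.det_fin_two] using this
      rcases h2 with rfl | rfl <;> simp
    have hgg : (g * g : H) = 1 := hφ (by rw [map_mul, map_one, ← hc, ← map_mul, hcc, map_one])
    exact eq_one_or_neg h (congrArg Subtype.val hgg) hz
  let X : H := ⟨x, Subgroup.subset_closure (Or.inl rfl)⟩
  let Y : H := ⟨y, Subgroup.subset_closure (Or.inr rfl)⟩
  have hgen : Subgroup.closure {X, Y} = (⊤ : Subgroup H) := by
    rw [eq_top_iff]
    rintro ⟨g, hg⟩ -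
    induction hg using Subgroup.closure_induction with
    | mem p hp =>
      rcases hp with rfl | rfl
      · exact Subgroup.subset_closure (Or.inl rfl)
      · exact Subgroup.subset_closure (Or.inr rfl)
    | one => exact Subgroup.one_mem _
    | mul p q _ _ hp hq => exact Subgroup.mul_mem _ hp hq
    | inv p _ hp => exact Subgroup.inv_mem _ hp
  -- the image is not commutative
  have hncomm : q X * q Y ≠ q Y * q X := by
    intro hc
    have h1 : q (X * Y * (Y * X)⁻¹) = 1 := by rw [map_mul, map_inv, map_mul, map_mul, hc, mul_inv_cancel]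
    rcases hker _ h1 with e | e
    · exact hcomm (mul_inv_eq_one.mp e)
    · have e' : x * y = z * (y * x) := mul_inv_eq_iff_eq_mul.mp e
      have hzc : ∀ g : G, z * g = g * z := fun g => h.injective (by rw [map_mul, map_mul, hz, neg_one_mul, mul_neg_one])
      have hzz : z * z = 1 := h.injective (by rw [map_mul, hz, map_one, neg_mul_neg, one_mul])
      -- conjugating multiplies by the involution
      have e2 : x * y * x⁻¹ = z * y := by rw [e', mul_assoc, mul_inv_cancel_right]
      have e3 : (x * y * x⁻¹) * ((x * y * x⁻¹) * (x * y * x⁻¹)) = 1 := by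
        rw [show (x * y * x⁻¹) * ((x * y * x⁻¹) * (x * y * x⁻¹)) = x * (y * (y * y)) * x⁻¹ by group, hy, mul_one,
          mul_inv_cancel]
      rw [e2, show z * y * (z * y * (z * y)) = z * (z * (z * (y * (y * y)))) by
        have hl : ∀ a w : G, a * (z * w) = z * (a * w) := fun a w => by rw [← mul_assoc, ← hzc, mul_assoc]
        simp only [mul_assoc, hl y],
        hy, mul_one, hzz, mul_one] at e3
      have h2 := congrArg ρ e3
      rw [hz, map_one] at h2
      apply hcomm
      have h5 : (z : G) = 1 := e3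
      rw [e', h5, one_mul]
  -- Dickson's classification
  let Hb : Subgroup (Matrix.ProjGenLinGroup (Fin 2) F) := q.range
  have hrdvd : ¬ r ∣ Nat.card Hb := fun hd => not_dvd_card h (hd.trans ((Subgroup.card_range_dvd q).trans
    (Subgroup.card_subgroup_dvd_card H)))
  have hqX : q X * (q X * q X) = 1 := by rw [← map_mul, ← map_mul, show X * (X * X) = 1 from Subtype.ext hx, map_one]
  have hqY : q Y * (q Y * q Y) = 1 := by rw [← map_mul, ← map_mul, show Y * (Y * Y) = 1 from Subtype.ext hy, map_one]
  -- a product whose image is an involution has square equal to the central involution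
  have hfour : ∀ W : H, q (W * W) = 1 → ((W : G) * x ≠ x * (W : G)) → (W : G) * W = z := by
    intro W hW hne
    rcases hker _ hW with e | e
    · exfalso
      apply hne
      rcases eq_one_or_neg h (show (W : G) * W = 1 from e) hz with e1 | e1
      · rw [e1, one_mul, mul_one]
      · exact h.injective (by rw [map_mul, map_mul, e1, hz, neg_one_mul, mul_neg_one])
    · exact e
  have hne1 : x * y * x ≠ x * (x * y) := fun e => hcomm (by
    rw [mul_assoc] at e; exact (mul_left_cancel e).symm)
  have hne2 : x * (y * y) * x ≠ x * (x * (y * y)) := fun e => hcomm (by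
    rw [mul_assoc] at e
    have e1 : Commute (y * y) x := mul_left_cancel e
    have hy4 : y * y * (y * y) = y := by
      rw [show y * y * (y * y) = y * (y * y) * y by group, hy, one_mul]
    have e2 := e1.mul_left e1
    rw [hy4] at e2
    exact e2.eq.symm)
  have h2case : ((q X * q Y) * (q X * q Y) = 1 ∨ (q X * (q Y * q Y)) * (q X * (q Y * q Y)) = 1) →
      x * y * (x * y) = z ∨ x * (y * y) * (x * (y * y)) = z := by
    rintro (e | e)
    · exact Or.inl (hfour (X * Y) (by simpa only [map_mul] using e) hne1)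
    · exact Or.inr (hfour (X * (Y * Y)) (by simpa only [map_mul] using e) hne2)
  have hgq : ∀ (N : Type) [Group N] (e : Hb ≃* N), Function.Surjective (e.toMonoidHom.comp q.rangeRestrict) :=
    fun N _ e => e.surjective.comp q.rangeRestrict_surjective
  have hfq : ∀ {N : Type} [Group N] (e : Hb ≃* N) (g : H), (e.toMonoidHom.comp q.rangeRestrict) g = 1 ↔ q g = 1 :=
    fun {N} _ e g => ⟨fun h0 => congrArg Subtype.val (e.injective (h0.trans (map_one e).symm)), fun h0 => by
      show e (q.rangeRestrict g) = 1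
      rw [show q.rangeRestrict g = 1 from Subtype.ext h0, map_one]⟩
  have hXY : ¬ ∀ g k : Hb, g * k = k * g := fun hc => hncomm (congrArg Subtype.val (hc ⟨q X, X, rfl⟩ ⟨q Y, Y, rfl⟩))
  have hcard : ∀ g ∈ Hb, g ^ r = 1 → g = 1 := by
    intro g hg hgr
    by_contra hg1
    apply hrdvd
    have := orderOf_dvd_natCard (⟨g, hg⟩ : Hb)
    rwa [← Subgroup.orderOf_coe, orderOf_eq_prime hgr hg1] at this
  rcases Classical.Dickson.kind r Hb with ⟨x0, hfix⟩ | ⟨c, hc, -⟩ | ⟨c, -, -, -, ⟨e⟩⟩ | ⟨⟨e⟩⟩ | ⟨⟨e⟩⟩ | ⟨⟨e⟩⟩ |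
    ⟨A, m, hG⟩ | ⟨A, -, m, hG⟩
  · exfalso
    obtain ⟨m, hm⟩ := Classical.Dickson.exists_to_infty x0
    have haff : ∀ g ∈ Hb, ∃ a b, m⁻¹ * g * m = Classical.Dickson.aff a b := fun g hg =>
      Classical.Dickson.exists_aff (by rw [mul_smul, mul_smul, hm, hfix g hg, inv_smul_eq_iff, hm])
    refine hXY fun g k => Subtype.ext ?_
    obtain ⟨a, b, hg⟩ := haff g g.2
    obtain ⟨a', b', hk⟩ := haff k k.2
    obtain ⟨a'', b'', hgk⟩ := haff ((g * k * (k * g)⁻¹ : Hb) : Matrix.ProjGenLinGroup (Fin 2) F) (Subtype.mem _)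
    have h1 : Classical.Dickson.aff a'' b'' * Classical.Dickson.aff (a' * a) (a' * b + b') =
        Classical.Dickson.aff (a * a') (a * b' + b) := by
      rw [← hgk, ← Classical.Dickson.aff_mul, ← Classical.Dickson.aff_mul, ← hg, ← hk, Subgroup.coe_mul,
        Subgroup.coe_mul, Subgroup.coe_inv, Subgroup.coe_mul]
      group
    rw [Classical.Dickson.aff_mul] at h1
    have h2 := (Classical.Dickson.aff_injective h1).1
    have ha1 : a'' = 1 := by
      rw [mul_comm a' a] at h2
      exact mul_eq_right.mp h2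
    have h3 := (Classical.Dickson.aff_pow_char_eq_one_iff r a'' b'').mpr ha1
    rw [← hgk, show m⁻¹ * _ * m = MulAut.conj m⁻¹ _ from (by rw [MulAut.conj_apply, inv_inv]), ← map_pow] at h3
    have h4 := hcard _ (Subtype.mem _) ((MulAut.conj m⁻¹).injective (h3.trans (map_one _).symm))
    rw [Subgroup.coe_mul, Subgroup.coe_inv, mul_inv_eq_one] at h4
    exact h4
  · exfalso
    refine hXY fun g k => Subtype.ext ?_
    obtain ⟨i, hi⟩ := Subgroup.mem_zpowers_iff.mp (hc ▸ g.2 : (g : Matrix.ProjGenLinGroup (Fin 2) F) ∈ Subgroup.zpowers c)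
    obtain ⟨j, hj⟩ := Subgroup.mem_zpowers_iff.mp (hc ▸ k.2 : (k : Matrix.ProjGenLinGroup (Fin 2) F) ∈ Subgroup.zpowers c)
    rw [Subgroup.coe_mul, Subgroup.coe_mul, ← hi, ← hj, zpow_mul_comm]
  · exfalso
    let f0 := e.toMonoidHom.comp q.rangeRestrict
    refine hXY fun g k => e.injective ?_
    obtain ⟨g, rfl⟩ := q.rangeRestrict_surjective g
    obtain ⟨k, rfl⟩ := q.rangeRestrict_surjective k
    rw [map_mul, map_mul]
    exact comm_of_closure f0 X Y hgen (dihedral_comm _ _
      (by rw [← map_mul, ← map_mul]; exact (hfq e _).mpr (by simp only [map_mul]; exact hqX))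
      (by rw [← map_mul, ← map_mul]; exact (hfq e _).mpr (by simp only [map_mul]; exact hqY))) g k
  · let f0 := e.toMonoidHom.comp q.rangeRestrict
    rcases alt_four_pairs (f0 X) (f0 Y) (by rw [← map_mul, ← map_mul]; exact (hfq e _).mpr (by simp only [map_mul]; exact hqX))
      (by rw [← map_mul, ← map_mul]; exact (hfq e _).mpr (by simp only [map_mul]; exact hqY)) with h1 | h1 | h1
    · exact absurd (congrArg Subtype.val (e.injective (by rw [map_mul, map_mul]; exact h1) :
        q.rangeRestrict X * q.rangeRestrict Y = q.rangeRestrict Y * q.rangeRestrict X)) hncomm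
    · exact (h2case (Or.inl (by
        rw [← map_mul, ← map_mul] at h1; simpa only [map_mul] using (hfq e _).mp h1))).imp_right Or.inl
    · exact (h2case (Or.inr (by
        rw [← map_mul, ← map_mul, ← map_mul] at h1; simpa only [map_mul] using (hfq e _).mp h1))).imp_right Or.inl
  · exfalso
    let f0 := e.toMonoidHom.comp q.rangeRestrict
    have hs : ∀ g : H, g * (g * g) = 1 → Equiv.Perm.sign (f0 g) = 1 := fun g hg => by
      have h1 := congrArg (fun w => Equiv.Perm.sign (f0 w)) hg
      simp only [map_mul, map_one] at h1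
      rwa [Int.units_mul_self, mul_one] at h1
    have hall : ∀ g : H, Equiv.Perm.sign (f0 g) = 1 := by
      intro g
      have hg : g ∈ Subgroup.closure {X, Y} := hgen ▸ Subgroup.mem_top g
      induction hg using Subgroup.closure_induction with
      | mem p hp =>
        rcases hp with rfl | rfl
        · exact hs _ (Subtype.ext hx)
        · exact hs _ (Subtype.ext hy)
      | one => rw [map_one, map_one]
      | mul p q _ _ hp hq => rw [map_mul, map_mul, hp, hq, one_mul]
      | inv p _ hp => rw [map_inv, map_inv, hp, inv_one]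
    obtain ⟨g, hg⟩ := hgq _ e (Equiv.swap (0 : Fin 4) 1)
    have := hall g
    rw [show f0 g = Equiv.swap (0 : Fin 4) 1 from hg, Equiv.Perm.sign_swap (by decide)] at this
    exact absurd this (by decide)
  · let f0 := e.toMonoidHom.comp q.rangeRestrict
    rcases alt_five_pairs (f0 X) (f0 Y) (by rw [← map_mul, ← map_mul]; exact (hfq e _).mpr (by simp only [map_mul]; exact hqX))
      (by rw [← map_mul, ← map_mul]; exact (hfq e _).mpr (by simp only [map_mul]; exact hqY)) with h1 | h1 | h1 | ⟨h1, h2⟩
    · exact absurd (congrArg Subtype.val (e.injective (by rw [map_mul, map_mul]; exact h1) :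
        q.rangeRestrict X * q.rangeRestrict Y = q.rangeRestrict Y * q.rangeRestrict X)) hncomm
    · exact (h2case (Or.inl (by
        rw [← map_mul, ← map_mul] at h1; simpa only [map_mul] using (hfq e _).mp h1))).imp_right Or.inl
    · exact (h2case (Or.inr (by
        rw [← map_mul, ← map_mul, ← map_mul] at h1; simpa only [map_mul] using (hfq e _).mp h1))).imp_right Or.inl
    right; right
    refine ⟨?_, f0, hgq _ e, fun g hg => hker g ((hfq e g).mp hg)⟩
    have p1 : (x * y) ^ 5 = 1 ∨ (x * y) ^ 5 = z := by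
      rw [← map_mul, ← map_pow] at h1
      exact hker ((X * Y) ^ 5) ((hfq e _).mp h1)
    have p2 : (x * (y * y)) ^ 5 = 1 ∨ (x * (y * y)) ^ 5 = z := by
      rw [← map_mul, ← map_mul, ← map_pow] at h2
      exact hker ((X * (Y * Y)) ^ 5) ((hfq e _).mp h2)
    have hzc : ∀ g : G, z * g = g * z := fun g => h.injective (by rw [map_mul, map_mul, hz, neg_one_mul, mul_neg_one])
    have hy2 : y * y * (y * y * (y * y)) = 1 := by
      rw [show y * y * (y * y * (y * y)) = y * (y * y) * (y * (y * y)) by group, hy, one_mul]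
    have hy21 : y * y ≠ 1 := fun e1 => hy1 (by rw [e1, mul_one] at hy; exact hy)
    have a1 := ac_of_five h hR hx hx1 hy hy1 hz (fun e1 => hne1 (by rw [e1, one_mul, mul_one]))
      (fun e1 => hne1 (by rw [e1, hzc])) p1
    have a2 := ac_of_five h hR hx hx1 hy2 hy21 hz (fun e1 => hne2 (by rw [e1, one_mul, mul_one]))
      (fun e1 => hne2 (by rw [e1, hzc])) p2
    rw [pure3_square_elem h hy hy1] at a2
    set T := ac (pure3 ρ x) (pure3 ρ y) with hT
    have hneg : ac (pure3 ρ x) (-pure3 ρ y) = -T := by rw [hT]; simp only [ac, mul_neg, neg_mul, neg_add]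
    rw [hneg, neg_mul_neg] at a2
    rcases a1 with a1 | a1
    · exact a1
    rcases a2 with a2 | a2
    · exact a2
    exfalso
    have h0 : T = 0 := hR.cancel 16 4 (by norm_num) (by linear_combination (norm := module) a1 - a2)
    rw [h0, mul_zero, smul_zero, add_zero] at a1
    exact hR.absurd 4 2 (by norm_num) (by rw [← zsmul_one]; exact a1.symm)
  all_goals
    exfalso
    have hmem : Classical.Dickson.aff (1 : Fˣ) (1 : F) ∈ Hb.map (MulAut.conj m).toMonoidHom := by
      rw [hG]
      let t : Matrix.SpecialLinearGroup (Fin 2) A := ⟨!![1, 1; 0, 1], by simp⟩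
      first
        | refine ⟨Matrix.ProjGenLinGroup.mk (Matrix.SpecialLinearGroup.toGL t), ?_⟩
        | refine ⟨t, ?_⟩
      show Matrix.ProjGenLinGroup.map A.subtype (Matrix.ProjGenLinGroup.mk (Matrix.SpecialLinearGroup.toGL t)) = _
      rw [Matrix.ProjGenLinGroup.map_mk, Classical.Dickson.aff]
      apply congrArg Matrix.ProjGenLinGroup.mk
      apply Units.ext
      ext i j
      fin_cases i <;> fin_cases j <;> simp [Classical.Dickson.affGL, t] <;> rfl
    obtain ⟨g, hg, hgu⟩ := hmem
    have hgu' : MulAut.conj m g = Classical.Dickson.aff (1 : Fˣ) (1 : F) := hgu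
    have hg1 := hcard g hg ((MulAut.conj m).injective (by
      rw [map_pow, map_one, hgu']; exact (Classical.Dickson.aff_pow_char_eq_one_iff r _ _).mpr rfl))
    rw [hg1, map_one] at hgu'
    exact one_ne_zero (Classical.Dickson.aff_eq_one_iff.mp hgu'.symm).2

end CfsgLib.Recognition.Zassenhaus
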