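import Mathlib
import Cfsg.Agent.Lib.Recognition.Zassenhaus.Pair
import Cfsg.Agent.Lib.Recognition.Zassenhaus.Cover

/-!
Binary tetrahedral frames in a fixed-point-free group, and the elements adjacent to them.
-/

set_option linter.style.haveILetI false
set_option linter.unusedSimpArgs false
set_option linter.unusedSectionVars false

namespace CfsgLib.Recognition.Zassenhaus

open NearField

/-- A nontrivial element of order three. -/
def Three {G : Type*} [Group G] (x : G) : Prop := x * (x * x) = 1 ∧ x ≠ 1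

section group

variable {G : Type*} [Group G] {x : G}

theorem Three.inv (hx : Three x) : x⁻¹ = x * x := inv_eq_of_mul_eq_one_right hx.1

theorem Three.sq (hx : Three x) : Three (x * x) := by
  refine ⟨?_, fun e => hx.2 ?_⟩
  · rw [show x * x * (x * x * (x * x)) = x * (x * x) * (x * (x * x)) by simp only [mul_assoc], hx.1, one_mul]
  · have := hx.1
    rwa [e, mul_one] at this

theorem Three.sq_sq (hx : Three x) : x * x * (x * x) = x := by
  rw [← mul_assoc, mul_assoc x x x, hx.1, one_mul]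

theorem Three.conj (hx : Three x) (g : G) : Three (g * x * g⁻¹) := by
  refine ⟨?_, fun e => hx.2 ?_⟩
  · rw [show g * x * g⁻¹ * (g * x * g⁻¹ * (g * x * g⁻¹)) = g * (x * (x * x)) * g⁻¹ by group, hx.1, mul_one, mul_inv_cancel]
  · exact conj_eq_one_iff.mp e

end group

universe v

variable {r : ℕ} [Fact r.Prime] {V : Type v} [AddCommGroup V] [Module (ZMod r) V] [Finite V] [Nontrivial V]
  {G : Type*} [Group G] [Finite G] {ρ : G →* Module.End (ZMod r) V}

variable (ρ) in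
/-- A frame: a quaternion pair whose sum with the product is the pure part of the given element. -/
def IsTetra (a i j : G) : Prop := Quat (ρ i) (ρ j) ∧ pure3 ρ a = ρ i + ρ j + ρ i * ρ j

theorem central_of_neg (h : Fpf ρ) {z : G} (hz : ρ z = -1) (g : G) : z * g = g * z :=
  h.injective (by rw [map_mul, map_mul, hz, neg_one_mul, mul_neg_one])

theorem sq_of_neg (h : Fpf ρ) {z : G} (hz : ρ z = -1) : z * z = 1 :=
  h.injective (by rw [map_mul, hz, map_one, neg_mul_neg, one_mul])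

theorem ne_one_of_neg (hR : NoTorsion (Module.End (ZMod r) V)) {z : G} (hz : ρ z = -1) : z ≠ 1 := by
  intro e
  rw [e, map_one] at hz
  exact hR.absurd 2 1 (by norm_num) (by rw [← zsmul_one]; linear_combination (norm := module) hz)

theorem ρ_inv_of_sq_neg {i : G} (hi : ρ i * ρ i = -1) : ρ i⁻¹ = -ρ i := by
  have h1 : ρ i⁻¹ * ρ i = 1 := by rw [← map_mul, inv_mul_cancel, map_one]
  have h2 : ρ i * (-ρ i) = 1 := by rw [mul_neg, hi, neg_neg]
  exact left_inv_eq_right_inv h1 h2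

theorem pure3_conj (g x : G) : pure3 ρ (g * x * g⁻¹) = ρ g * pure3 ρ x * ρ g⁻¹ := by
  simp only [pure3, map_mul, mul_add, add_mul, mul_smul_comm, smul_mul_assoc, mul_one]
  rw [← map_mul ρ g g⁻¹, mul_inv_cancel, map_one]

variable (h : Fpf ρ) (hR : NoTorsion (Module.End (ZMod r) V)) {z : G} (hz : ρ z = -1)
include h hR hz

theorem ac_two {x y : G} (hx : Three x) (hy : Three y) (hxy : x * (y * y) * (x * (y * y)) = z) :
    ac (pure3 ρ x) (pure3 ρ y) = (2 : ℤ) • (1 : Module.End (ZMod r) V) := by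
  have e := ac_of_four h hx.1 hx.2 hy.sq.1 hy.sq.2 hz hxy
  rw [pure3_square_elem h hy.1 hy.2] at e
  simp only [ac, mul_neg, neg_mul] at e ⊢
  linear_combination (norm := module) -e

theorem ac_cases {x y : G} (hx : Three x) (hy : Three y) :
    (y = x ∧ ac (pure3 ρ x) (pure3 ρ y) = (-6 : ℤ) • (1 : Module.End (ZMod r) V)) ∨
    (y = x * x ∧ ac (pure3 ρ x) (pure3 ρ y) = (6 : ℤ) • (1 : Module.End (ZMod r) V)) ∨
    Outside (ac (pure3 ρ x) (pure3 ρ y)) := by
  rcases pair_cases h hR hz hx.1 hx.2 hy.1 hy.2 with rfl | rfl | e | e | ⟨e, -⟩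
  · refine Or.inl ⟨rfl, ?_⟩
    rw [ac, pure3_sq h hx.1 hx.2]; module
  · refine Or.inr (Or.inl ⟨rfl, ?_⟩)
    rw [pure3_square_elem h hx.1 hx.2, ac, mul_neg, neg_mul, pure3_sq h hx.1 hx.2]; module
  · exact Or.inr (Or.inr (Or.inr (Or.inl (ac_of_four h hx.1 hx.2 hy.1 hy.2 hz e))))
  · exact Or.inr (Or.inr (Or.inl (ac_two h hR hz hx hy e)))
  · exact Or.inr (Or.inr (Or.inr (Or.inr e)))

theorem allowed {x y : G} (hx : Three x) (hy : Three y) : Allowed (ac (pure3 ρ x) (pure3 ρ y)) := by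
  rcases ac_cases h hR hz hx hy with ⟨-, e⟩ | ⟨-, e⟩ | e | e | e
  · exact Or.inl ⟨-6, by norm_num, e⟩
  · exact Or.inl ⟨6, by norm_num, e⟩
  · exact Or.inl ⟨2, by norm_num, e⟩
  · exact Or.inl ⟨-2, by norm_num, e⟩
  · exact Or.inr e

theorem eq_of_ac {x y : G} (hx : Three x) (hy : Three y)
    (e : ac (pure3 ρ x) (pure3 ρ y) = (-6 : ℤ) • (1 : Module.End (ZMod r) V)) : y = x := by
  rcases ac_cases h hR hz hx hy with ⟨e', -⟩ | ⟨-, e'⟩ | e' | e' | e'
  · exact e'
  all_goals exfalso; rw [e] at e'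
  · exact hR.absurd 12 3 (by norm_num) (by rw [← zsmul_one]; linear_combination (norm := module) -e')
  · exact hR.absurd 8 3 (by norm_num) (by rw [← zsmul_one]; linear_combination (norm := module) -e')
  · exact hR.absurd 4 2 (by norm_num) (by rw [← zsmul_one]; linear_combination (norm := module) -e')
  · rw [smul_mul_smul_comm, one_mul] at e'
    exact hR.absurd 16 4 (by norm_num) (by rw [← zsmul_one]; linear_combination (norm := module) e')

theorem exists_tetra {a y : G} (ha : Three a) (hy : Three y) (hay : a * (y * y) * (a * (y * y)) = z) :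
    ∃ i j : G, IsTetra ρ a i j ∧ i ∈ Subgroup.closure ({a, y} : Set G) ∧ j ∈ Subgroup.closure ({a, y} : Set G) := by
  set Y := y * y with hY
  have hY3 : Three Y := hy.sq
  have hzc : z ∈ Subgroup.closure ({a, y} : Set G) := by
    rw [← hay]
    have hm : a * Y ∈ Subgroup.closure ({a, y} : Set G) := Subgroup.mul_mem _ (Subgroup.subset_closure (Or.inl rfl))
      (Subgroup.mul_mem _ (Subgroup.subset_closure (Or.inr rfl)) (Subgroup.subset_closure (Or.inr rfl)))
    exact Subgroup.mul_mem _ hm hm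
  have ha' : a ∈ Subgroup.closure ({a, y} : Set G) := Subgroup.subset_closure (Or.inl rfl)
  have hy' : Y ∈ Subgroup.closure ({a, y} : Set G) :=
    Subgroup.mul_mem _ (Subgroup.subset_closure (Or.inr rfl)) (Subgroup.subset_closure (Or.inr rfl))
  refine ⟨z * (a * a * (Y * (a * a))), z * (a * Y), ?_,
    Subgroup.mul_mem _ hzc (Subgroup.mul_mem _ (Subgroup.mul_mem _ ha' ha') (Subgroup.mul_mem _ hy' (Subgroup.mul_mem _ ha' ha'))),
    Subgroup.mul_mem _ hzc (Subgroup.mul_mem _ ha' hy')⟩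
  have e4 := ac_of_four h ha.1 ha.2 hY3.1 hY3.2 hz hay
  have eX := cube_eq h ha.1 ha.2
  have eY := cube_eq h hY3.1 hY3.2
  set X := ρ a with hX
  set W := ρ Y with hW
  have hXX : X * X = -X - 1 := by rw [← sub_eq_zero, ← eX]; abel
  have hWW : W * W = -W - 1 := by rw [← sub_eq_zero, ← eY]; abel
  have hWX : W * X = -(X * W) - X - W - 1 := by
    refine sub_eq_zero.mp (hR.cancel 4 2 (by norm_num) ?_)
    simp only [ac, pure3, mul_add, add_mul, smul_mul_assoc, mul_smul_comm, mul_one, one_mul, ← hX, ← hW] at e4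
    linear_combination (norm := module) e4
  have xx : ∀ w, X * (X * w) = -(X * w) - w := fun w => by rw [← mul_assoc, hXX, sub_mul, neg_mul, one_mul]
  have wx : ∀ w, W * (X * w) = -(X * (W * w)) - X * w - W * w - w := fun w => by
    rw [← mul_assoc, hWX]; simp only [sub_mul, neg_mul, one_mul, mul_assoc]
  have ei : ρ (z * (a * a * (Y * (a * a)))) = X - W := by
    simp only [map_mul, hz, ← hX, ← hW]
    simp only [neg_mul, one_mul, mul_sub, sub_mul, mul_neg, neg_neg, mul_one, mul_assoc, xx, wx, hXX, hWW, hWX]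
    abel
  have ej : ρ (z * (a * Y)) = -(X * W) := by rw [map_mul, hz, map_mul, ← hX, ← hW, neg_mul, one_mul]
  unfold IsTetra
  rw [ei, ej]
  refine ⟨⟨?_, ?_, ?_⟩, ?_⟩
  · simp only [mul_sub, sub_mul, mul_assoc, hXX, hWW, hWX, xx, wx]; abel
  · simp only [neg_mul_neg, mul_assoc, wx, xx, hWW, hXX, hWX, mul_sub, sub_mul, mul_neg, neg_mul, mul_one, one_mul]; abel
  · simp only [neg_mul, mul_neg, neg_neg, mul_assoc, wx, xx, hWW, hXX, hWX, mul_sub, sub_mul, mul_one, one_mul]; abel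
  · simp only [pure3, ← hX, neg_mul, mul_neg, neg_neg, mul_assoc, wx, xx, hWW, hXX, hWX, mul_sub, sub_mul, mul_one, one_mul]
    module

omit hR hz in
/-- The vertices of a frame. -/
theorem vertex_pure {a i j : G} (ht : IsTetra ρ a i j) :
    pure3 ρ (i * a * i⁻¹) = ρ i - ρ j - ρ i * ρ j ∧ pure3 ρ (j * a * j⁻¹) = -ρ i + ρ j - ρ i * ρ j ∧
      pure3 ρ (i * j * a * (i * j)⁻¹) = -ρ i - ρ j + ρ i * ρ j := by
  obtain ⟨hq, hs⟩ := ht
  have hk : (ρ (i * j)) * ρ (i * j) = -1 := by rw [map_mul]; exact hq.shift.jj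
  refine ⟨?_, ?_, ?_⟩
  · rw [pure3_conj, ρ_inv_of_sq_neg hq.ii, hs]
    simp only [mul_add, add_mul, mul_neg, neg_mul, mul_assoc, hq.ii, hq.jj, hq.ji, hq.ii', hq.jj', hq.ji', mul_one, one_mul, neg_neg]
    abel
  · rw [pure3_conj, ρ_inv_of_sq_neg hq.jj, hs]
    simp only [mul_add, add_mul, mul_neg, neg_mul, mul_assoc, hq.ii, hq.jj, hq.ji, hq.ii', hq.jj', hq.ji', mul_one, one_mul, neg_neg]
    abel
  · rw [pure3_conj, ρ_inv_of_sq_neg hk, map_mul, hs]
    simp only [mul_add, add_mul, mul_neg, neg_mul, mul_assoc, hq.ii, hq.jj, hq.ji, hq.ii', hq.jj', hq.ji', mul_one, one_mul, neg_neg]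
    abel

omit hR hz in
theorem IsTetra.rotate {a i j : G} (ht : IsTetra ρ a i j) : IsTetra ρ a j (i * j) := by
  refine ⟨by rw [map_mul]; exact ht.1.shift, ?_⟩
  rw [map_mul, ht.1.mul_shift, ht.2]
  abel

theorem outside_second {a i j c : G} (ha : Three a) (ht : IsTetra ρ a i j) (hc : Three c)
    (hi : ac (ρ i) (pure3 ρ c) = 0) : Outside (ac (-ρ i + ρ j - ρ i * ρ j) (pure3 ρ c)) := by
  have hv := (vertex_pure h ht).2.1
  have hV := ha.conj j
  rw [← hv]
  have key : ∀ σ : Module.End (ZMod r) V, (σ = pure3 ρ c ∨ σ = -pure3 ρ c) → σ = pure3 ρ (j * a * j⁻¹) → False := by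
    intro σ hσ hσv
    have e0 : ac (ρ i) σ = 0 := by
      rcases hσ with rfl | rfl
      · exact hi
      · simp only [ac, mul_neg, neg_mul, ← neg_add] at hi ⊢
        rw [hi, neg_zero]
    rw [hσv, hv] at e0
    simp only [ac, mul_add, add_mul, mul_sub, sub_mul, mul_neg, neg_mul, mul_assoc, ht.1.ii, ht.1.jj, ht.1.ji, ht.1.ii',
      ht.1.jj', ht.1.ji', mul_one, neg_neg] at e0
    exact hR.absurd 2 1 (by norm_num) (by rw [← zsmul_one]; linear_combination (norm := module) e0)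
  rcases ac_cases h hR hz hV hc with ⟨e, -⟩ | ⟨e, -⟩ | e
  · exact absurd (by rw [e]) (key _ (Or.inl rfl))
  · exact absurd (by rw [e, pure3_square_elem h hV.1 hV.2, neg_neg]) (key _ (Or.inr rfl))
  · exact e

theorem canonical_form {a i j c : G} (ha : Three a) (ht : IsTetra ρ a i j) (hc : Three c)
    (h0 : ac (pure3 ρ a) (pure3 ρ c) = (2 : ℤ) • (1 : Module.End (ZMod r) V)) (hi : ac (ρ i) (pure3 ρ c) = 0) :
    ∃ T, T = ac (pure3 ρ (j * a * j⁻¹)) (pure3 ρ c) ∧ T * ρ i = ρ i * T ∧ T * ρ j = ρ j * T ∧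
      T * T = (20 : ℤ) • (1 : Module.End (ZMod r) V) ∧
      (4 : ℤ) • pure3 ρ c + ((2 : ℤ) • ρ j + T * ρ j + (2 : ℤ) • (ρ i * ρ j) - T * (ρ i * ρ j)) = 0 := by
  rw [(vertex_pure h ht).2.1]
  rw [ht.2] at h0
  exact canonical ht.1 hR (pure3_sq h hc.1 hc.2) hi h0 (outside_second h hR hz ha ht hc hi)

omit hz in
theorem intertwine {a i j : G} (ht : IsTetra ρ a i j) :
    ρ a * ρ i = ρ i * ρ j * ρ a ∧ ρ a * ρ j = ρ i * ρ a := by
  obtain ⟨hq, hs⟩ := ht
  have hX : (2 : ℤ) • ρ a = ρ i + ρ j + ρ i * ρ j - 1 := by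
    rw [← hs, pure3, add_sub_cancel_right]
  constructor
  · refine sub_eq_zero.mp (hR.cancel 2 1 (by norm_num) ?_)
    rw [smul_sub, ← smul_mul_assoc, ← mul_smul_comm, hX]
    simp only [mul_add, add_mul, mul_sub, sub_mul, mul_neg, neg_mul, mul_assoc, hq.ii, hq.jj, hq.ji, hq.ii', hq.jj',
      hq.ji', mul_one, one_mul, neg_neg]
    abel
  · refine sub_eq_zero.mp (hR.cancel 2 1 (by norm_num) ?_)
    rw [smul_sub, ← smul_mul_assoc, ← mul_smul_comm, hX]
    simp only [mul_add, add_mul, mul_sub, sub_mul, mul_neg, neg_mul, mul_assoc, hq.ii, hq.jj, hq.ji, hq.ii', hq.jj',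
      hq.ji', mul_one, one_mul, neg_neg]
    abel

/-- At most one element in each position. -/
theorem unique_partner {a i j c c' : G} (ha : Three a) (ht : IsTetra ρ a i j) (hc : Three c) (hc' : Three c')
    (h0 : ac (pure3 ρ a) (pure3 ρ c) = (2 : ℤ) • (1 : Module.End (ZMod r) V)) (hi : ac (ρ i) (pure3 ρ c) = 0)
    (h0' : ac (pure3 ρ a) (pure3 ρ c') = (2 : ℤ) • (1 : Module.End (ZMod r) V)) (hi' : ac (ρ i) (pure3 ρ c') = 0) :
    c' = c := by
  obtain ⟨T, -, t1, t2, t3, t4⟩ := canonical_form h hR hz ha ht hc h0 hi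
  obtain ⟨T', -, s1, s2, s3, s4⟩ := canonical_form h hR hz ha ht hc' h0' hi'
  refine eq_of_ac h hR hz hc hc' ?_
  have hj' : pure3 ρ (j * c' * j⁻¹) = -(ρ j * pure3 ρ c' * ρ j) := by
    rw [pure3_conj, ρ_inv_of_sq_neg ht.1.jj, mul_neg]
  have hq := ht.1
  refine Zassenhaus.unique hq hR t1 t2 s1 s2 t3 s3 t4 s4 (w3 := pure3 ρ (a * c' * a⁻¹)) ?_ (allowed h hR hz hc hc')
    (hj' ▸ allowed h hR hz hc (hc'.conj j)) (allowed h hR hz hc (hc'.conj a))
  obtain ⟨k1, k2⟩ := intertwine h hR ht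
  have hTX : T' * ρ a = ρ a * T' := by
    refine sub_eq_zero.mp (hR.cancel 2 1 (by norm_num) ?_)
    have hX : (2 : ℤ) • ρ a = ρ i + ρ j + ρ i * ρ j - 1 := by rw [← ht.2, pure3, add_sub_cancel_right]
    rw [smul_sub, ← mul_smul_comm, ← smul_mul_assoc, hX]
    simp only [mul_add, add_mul, mul_sub, sub_mul, mul_one, one_mul, ← mul_assoc, s1, s2]
    simp only [mul_assoc, s2]
    abel
  have hXi : ρ a * ρ a⁻¹ = 1 := by rw [← map_mul, mul_inv_cancel, map_one]
  have i1 : ρ a * ρ j * ρ a⁻¹ = ρ i := by rw [k2, mul_assoc, hXi, mul_one]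
  have i2 : ρ a * (ρ i * ρ j) * ρ a⁻¹ = ρ j := by
    rw [← mul_assoc, k1, mul_assoc (ρ i * ρ j), k2, ← mul_assoc, mul_assoc, hXi, mul_one, mul_assoc, hq.ji, mul_neg, hq.ii', neg_neg]
  have e := congrArg (fun w => ρ a * w * ρ a⁻¹) s4
  simp only [mul_add, add_mul, mul_sub, sub_mul, mul_smul_comm, smul_mul_assoc, mul_zero, zero_mul] at e
  rw [pure3_conj]
  have e1 : ρ a * (T' * ρ j) * ρ a⁻¹ = T' * ρ i := by
    rw [← mul_assoc, ← hTX, mul_assoc T', mul_assoc T', i1]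
  have e2 : ρ a * (T' * (ρ i * ρ j)) * ρ a⁻¹ = T' * ρ j := by
    rw [← mul_assoc, ← hTX, mul_assoc T', mul_assoc T', i2]
  rw [i1, i2, e1, e2] at e
  exact e

/-- An element adjacent to the base is a vertex or anticommutes with a unit. -/
theorem adjacent_cases {a i j c : G} (ha : Three a) (ht : IsTetra ρ a i j) (hc : Three c)
    (h0 : ac (pure3 ρ a) (pure3 ρ c) = (2 : ℤ) • (1 : Module.End (ZMod r) V)) :
    (∃ v : G, (v = i * a * i⁻¹ ∨ v = j * a * j⁻¹ ∨ v = i * j * a * (i * j)⁻¹) ∧ (c = v ∨ c = v * v)) ∨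
      ∃ i' j' : G, ((i' = i ∧ j' = j) ∨ (i' = j ∧ j' = i * j) ∨ (i' = i * j ∧ j' = j * (i * j))) ∧
        IsTetra ρ a i' j' ∧ ac (ρ i') (pure3 ρ c) = 0 := by
  obtain ⟨p1, p2, p3⟩ := vertex_pure h ht
  by_cases hv : ∃ v : G, (v = i * a * i⁻¹ ∨ v = j * a * j⁻¹ ∨ v = i * j * a * (i * j)⁻¹) ∧ (c = v ∨ c = v * v)
  · exact Or.inl hv
  right
  push Not at hv
  have out : ∀ g : G, (g = i ∨ g = j ∨ g = i * j) → Outside (ac (pure3 ρ (g * a * g⁻¹)) (pure3 ρ c)) := by
    intro g hg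
    have hv' := hv (g * a * g⁻¹) (by rcases hg with rfl | rfl | rfl <;> simp)
    rcases ac_cases h hR hz (ha.conj g) hc with ⟨e, -⟩ | ⟨e, -⟩ | e
    · exact absurd e hv'.1
    · exact absurd e hv'.2
    · exact e
  rw [ht.2] at h0
  rcases pattern ht.1 hR (pure3_sq h hc.1 hc.2) h0 (p1 ▸ out i (Or.inl rfl)) (p2 ▸ out j (Or.inr (Or.inl rfl)))
    (p3 ▸ out (i * j) (Or.inr (Or.inr rfl))) with e | e | e
  · exact ⟨i, j, Or.inl ⟨rfl, rfl⟩, ht, e⟩
  · exact ⟨j, i * j, Or.inr (Or.inl ⟨rfl, rfl⟩), ht.rotate h, e⟩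
  · exact ⟨i * j, j * (i * j), Or.inr (Or.inr ⟨rfl, rfl⟩), (ht.rotate h).rotate h, by rw [map_mul]; exact e⟩

/-- Conjugation by the base permutes the positions. -/
theorem anti_conj {a i j c : G} (ht : IsTetra ρ a i j) (hi : ac (ρ i) (pure3 ρ c) = 0) :
    ac (ρ (i * j)) (pure3 ρ (a * c * a⁻¹)) = 0 := by
  obtain ⟨k1, -⟩ := intertwine h hR ht
  have hXi : ρ a * ρ a⁻¹ = 1 := by rw [← map_mul, mul_inv_cancel, map_one]
  have hiX : ρ a⁻¹ * ρ a = 1 := by rw [← map_mul, inv_mul_cancel, map_one]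
  have hk : ρ (i * j) = ρ a * ρ i * ρ a⁻¹ := by rw [map_mul, k1, mul_assoc, hXi, mul_one]
  rw [hk, pure3_conj, ac]
  have e : ∀ A B : Module.End (ZMod r) V, ρ a * A * ρ a⁻¹ * (ρ a * B * ρ a⁻¹) = ρ a * (A * B) * ρ a⁻¹ := fun A B => by
    simp only [mul_assoc]
    rw [← mul_assoc (ρ a⁻¹) (ρ a), hiX, one_mul]
  rw [e, e, ← add_mul, ← mul_add, show ρ i * pure3 ρ c + pure3 ρ c * ρ i = 0 from hi, mul_zero, zero_mul]

end CfsgLib.Recognition.Zassenhaus
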