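import Mathlib
import Cfsg.Agent.Lib.Recognition.Zassenhaus.Tetra

/-!
All elements of order three lie in one icosahedral subgroup, or in one frame.
-/

set_option linter.style.haveILetI false
set_option linter.unusedSimpArgs false
set_option linter.unusedSectionVars false

namespace CfsgLib.Recognition.Zassenhaus

open NearField

/-- An icosahedral subgroup. -/
def IsFive {G : Type*} [Group G] (z : G) (K : Subgroup G) : Prop :=
  ∃ f : K →* alternatingGroup (Fin 5), Function.Surjective f ∧ ∀ g, f g = 1 → (g : G) = 1 ∨ (g : G) = z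

universe v

variable {r : ℕ} [Fact r.Prime] {V : Type v} [AddCommGroup V] [Module (ZMod r) V] [Finite V] [Nontrivial V]
  {G : Type*} [Group G] [Finite G] {ρ : G →* Module.End (ZMod r) V}
  (h : Fpf ρ) (hR : NoTorsion (Module.End (ZMod r) V)) {z : G} (hz : ρ z = -1)
include h hR hz

theorem three_zero {x : G} (hx : Three x) : x ≠ z := by
  intro e
  have hzz := sq_of_neg h hz
  have := hx.1
  rw [e, hzz, mul_one] at this
  exact ne_one_of_neg hR hz this

theorem image_ne_one {K : Subgroup G} {f : K →* alternatingGroup (Fin 5)}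
    (hf : ∀ g, f g = 1 → (g : G) = 1 ∨ (g : G) = z) {g : K} (hg : Three (g : G)) : f g ≠ 1 := fun e =>
  (hf g e).elim hg.2 (three_zero h hR hz hg)

theorem four_of_image {K : Subgroup G} {f : K →* alternatingGroup (Fin 5)}
    (hf : ∀ g, f g = 1 → (g : G) = 1 ∨ (g : G) = z) {a b : K} (hab : f a * f b * (f a * f b) = 1)
    (hne : f a * f b ≠ f b * f a) : (a : G) * b * ((a : G) * b) = z := by
  rcases hf (a * b * (a * b)) (by simpa only [map_mul] using hab) with e | e
  · exfalso
    apply hne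
    have hc : ∀ g : G, (a : G) * b * g = g * ((a : G) * b) := by
      rcases eq_one_or_neg h (show (a : G) * b * ((a : G) * b) = 1 from e) hz with e1 | e1
      · intro g; rw [e1, one_mul, mul_one]
      · intro g; rw [e1]; exact central_of_neg h hz g
    have h1 : a * b * a = a * (a * b) := Subtype.ext (hc (a : G))
    rw [mul_assoc] at h1
    rw [← map_mul, ← map_mul, mul_left_cancel h1]
  · exact e

theorem lift_three {K : Subgroup G} (hK : z ∈ K) {f : K →* alternatingGroup (Fin 5)} (hs : Function.Surjective f)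
    (hf : ∀ g, f g = 1 → (g : G) = 1 ∨ (g : G) = z) (a : alternatingGroup (Fin 5)) (ha : a * (a * a) = 1) (ha1 : a ≠ 1) :
    ∃ g : K, Three (g : G) ∧ f g = a := by
  obtain ⟨g, rfl⟩ := hs a
  have hzf : f ⟨z, hK⟩ = 1 := by
    refine alt_five_center _ fun k _ => ?_
    obtain ⟨g, rfl⟩ := hs k
    rw [← map_mul, ← map_mul]
    exact congrArg f (Subtype.ext (central_of_neg h hz (g : G)))
  have hg1 : (g : G) ≠ 1 := fun e => ha1 (by rw [show g = 1 from Subtype.ext e, map_one])
  rcases hf (g * (g * g)) (by rw [map_mul, map_mul, ha]) with e | e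
  · exact ⟨g, ⟨e, hg1⟩, rfl⟩
  · refine ⟨g * ⟨z, hK⟩, ⟨?_, fun e1 => ?_⟩, by rw [map_mul, hzf, mul_one]⟩
    · have hl : ∀ a w : G, a * (z * w) = z * (a * w) := fun a w => by
        rw [← mul_assoc, ← central_of_neg h hz, mul_assoc]
      show (g : G) * z * ((g : G) * z * ((g : G) * z)) = 1
      rw [← central_of_neg h hz (g : G)]
      simp only [mul_assoc, hl (g : G)]
      rw [show (g : G) * ((g : G) * g) = z from e, sq_of_neg h hz, mul_one, sq_of_neg h hz]
    · apply ha1
      rw [← mul_one (f g), ← hzf, ← map_mul, show g * ⟨z, hK⟩ = 1 from Subtype.ext e1, map_one, hzf]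

set_option maxHeartbeats 800000 in
/-- The elements adjacent to a member of an icosahedral subgroup lie in it. -/
theorem adjacent_mem {K : Subgroup G} (hK : IsFive z K) (hzK : z ∈ K) {a c : G} (ha : Three a) (haK : a ∈ K)
    (hc : Three c) (hac : a * (c * c) * (a * (c * c)) = z ∨ a * c * (a * c) = z) : c ∈ K := by
  wlog hac2 : a * (c * c) * (a * (c * c)) = z generalizing c
  · have h1 := this hc.sq (Or.inl (by rw [hc.sq_sq]; exact hac.resolve_left hac2))
      (by rw [hc.sq_sq]; exact hac.resolve_left hac2)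
    rw [← hc.sq_sq]
    exact K.mul_mem h1 h1
  obtain ⟨f, hs, hf⟩ := hK
  have ha3 : f ⟨a, haK⟩ * (f ⟨a, haK⟩ * f ⟨a, haK⟩) = 1 := by
    rw [← map_mul, ← map_mul, show (⟨a, haK⟩ : K) * (⟨a, haK⟩ * ⟨a, haK⟩) = 1 from Subtype.ext ha.1, map_one]
  obtain ⟨b, e, hb, he, hab, hae, hab', hae', p, hpa, hpb, hpe⟩ :=
    alt_five_frame _ ha3 (image_ne_one h hR hz hf (g := ⟨a, haK⟩) ha)
  obtain ⟨B, hB, rfl⟩ := lift_three h hR hz hzK hs hf b hb (fun e => hab' (by rw [e, mul_one, one_mul]))
  obtain ⟨E, hE, rfl⟩ := lift_three h hR hz hzK hs hf e he (fun e => hae' (by rw [e, mul_one, one_mul]))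
  have hB4 := four_of_image h hR hz hf hab hab'
  have hE4 := four_of_image h hR hz hf hae hae'
  have hyB : a * (((B : G) * B) * ((B : G) * B)) * (a * (((B : G) * B) * ((B : G) * B))) = z := by rwa [hB.sq_sq]
  obtain ⟨i, j, ht, hi, hj⟩ := exists_tetra h hR hz ha hB.sq hyB
  -- the stabiliser of the point
  let S : Subgroup G := ((MulAction.stabilizer (Equiv.Perm (Fin 5)) p).comap
    ((alternatingGroup (Fin 5)).subtype.comp f)).map K.subtype
  have hSK : S ≤ K := Subgroup.map_subtype_le _
  have haS : a ∈ S := ⟨⟨a, haK⟩, hpa, rfl⟩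
  have hBS : (B : G) ∈ S := ⟨B, hpb, rfl⟩
  have hcl : Subgroup.closure ({a, (B : G) * B} : Set G) ≤ S := by
    rw [Subgroup.closure_le]
    rintro x (rfl | rfl)
    · exact haS
    · exact S.mul_mem hBS hBS
  have hiS := hcl hi
  have hjS := hcl hj
  have hES : (E : G) ∉ S := by
    rintro ⟨g, hg, hge⟩
    rw [show g = E from Subtype.ext hge] at hg
    exact hpe hg
  -- the exterior element
  set c0 := (E : G) * E with hc0
  have h0 : ac (pure3 ρ a) (pure3 ρ c0) = (2 : ℤ) • (1 : Module.End (ZMod r) V) :=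
    ac_two h hR hz ha hE.sq (by rwa [hc0, hE.sq_sq])
  have hvS : ∀ v : G, (v = i * a * i⁻¹ ∨ v = j * a * j⁻¹ ∨ v = i * j * a * (i * j)⁻¹) → v ∈ S := by
    rintro v (rfl | rfl | rfl)
    · exact S.mul_mem (S.mul_mem hiS haS) (S.inv_mem hiS)
    · exact S.mul_mem (S.mul_mem hjS haS) (S.inv_mem hjS)
    · exact S.mul_mem (S.mul_mem (S.mul_mem hiS hjS) haS) (S.inv_mem (S.mul_mem hiS hjS))
  have hc0S : c0 ∉ S := fun hm => hES (by rw [← hE.sq_sq]; exact S.mul_mem hm hm)
  obtain ⟨i1, j1, hij, ht1, hanti⟩ := (adjacent_cases h hR hz ha ht hE.sq h0).resolve_left (by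
    rintro ⟨v, hv, e | e⟩
    · apply hc0S; rw [hc0, e]; exact hvS v hv
    · apply hc0S; rw [hc0, e]; exact S.mul_mem (hvS v hv) (hvS v hv))
  -- the given element
  have h0c := ac_two h hR hz ha hc hac2
  rcases adjacent_cases h hR hz ha ht hc h0c with ⟨v, hv, e | e⟩ | ⟨i2, j2, hij2, ht2, hanti2⟩
  · exact hSK (e ▸ hvS v hv)
  · exact hSK (e ▸ S.mul_mem (hvS v hv) (hvS v hv))
  -- transport the exterior element to every position
  have hc0K : c0 ∈ K := K.mul_mem E.2 E.2
  have ht' := ht.rotate h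
  have ht'' := ht'.rotate h
  have hcyc : ρ (j * (i * j)) = ρ i := by rw [map_mul, map_mul, ht.1.mul_shift]
  have hkk : ρ (i * j * (j * (i * j))) = ρ j := by
    have := ht'.1.mul_shift
    simpa only [map_mul] using this
  have hconj0 : ∀ c : G, ac (pure3 ρ a) (pure3 ρ c) = (2 : ℤ) • (1 : Module.End (ZMod r) V) →
      ac (pure3 ρ a) (pure3 ρ (a * c * a⁻¹)) = (2 : ℤ) • (1 : Module.End (ZMod r) V) := by
    intro c hc'
    have hXi : ρ a * ρ a⁻¹ = 1 := by rw [← map_mul, mul_inv_cancel, map_one]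
    have hiX : ρ a⁻¹ * ρ a = 1 := by rw [← map_mul, inv_mul_cancel, map_one]
    have hu : pure3 ρ a = ρ a * pure3 ρ a * ρ a⁻¹ := by
      rw [← pure3_conj, mul_inv_cancel_right]
    have e : ∀ A B : Module.End (ZMod r) V, ρ a * A * ρ a⁻¹ * (ρ a * B * ρ a⁻¹) = ρ a * (A * B) * ρ a⁻¹ := fun A B => by
      simp only [mul_assoc]
      rw [← mul_assoc (ρ a⁻¹) (ρ a), hiX, one_mul]
    rw [ac, pure3_conj, hu, e, e, ← add_mul, ← mul_add]
    rw [show pure3 ρ a * pure3 ρ c + pure3 ρ c * pure3 ρ a = (2 : ℤ) • (1 : Module.End (ZMod r) V) from hc',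
      mul_smul_comm, smul_mul_assoc, mul_one, hXi]
  -- one conjugate of the exterior element anticommutes with each unit
  have hall : ∀ e : Module.End (ZMod r) V, (e = ρ i ∨ e = ρ j ∨ e = ρ (i * j)) →
      ∃ d ∈ K, Three d ∧ ac (pure3 ρ a) (pure3 ρ d) = (2 : ℤ) • (1 : Module.End (ZMod r) V) ∧ ac e (pure3 ρ d) = 0 := by
    set d1 := a * c0 * a⁻¹
    set d2 := a * d1 * a⁻¹
    have m1 : d1 ∈ K := K.mul_mem (K.mul_mem haK hc0K) (K.inv_mem haK)
    have m2 : d2 ∈ K := K.mul_mem (K.mul_mem haK m1) (K.inv_mem haK)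
    have q1 := hconj0 _ h0
    have q2 := hconj0 _ q1
    have s1 : Three d1 := hE.sq.conj a
    have s2 : Three d2 := s1.conj a
    rcases hij with ⟨rfl, rfl⟩ | ⟨rfl, rfl⟩ | ⟨rfl, rfl⟩
    · have a1 := anti_conj h hR hz ht hanti
      have a2 := anti_conj h hR hz ht'' a1
      rw [hkk] at a2
      rintro e (rfl | rfl | rfl)
      exacts [⟨c0, hc0K, hE.sq, h0, hanti⟩, ⟨d2, m2, s2, q2, a2⟩, ⟨d1, m1, s1, q1, a1⟩]
    · have a1 := anti_conj h hR hz ht' hanti
      rw [hcyc] at a1
      have a2 := anti_conj h hR hz ht a1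
      rintro e (rfl | rfl | rfl)
      exacts [⟨d1, m1, s1, q1, a1⟩, ⟨c0, hc0K, hE.sq, h0, hanti⟩, ⟨d2, m2, s2, q2, a2⟩]
    · have a1 := anti_conj h hR hz ht'' hanti
      rw [hkk] at a1
      have a2 := anti_conj h hR hz ht' a1
      rw [hcyc] at a2
      rintro e (rfl | rfl | rfl)
      exacts [⟨d2, m2, s2, q2, a2⟩, ⟨d1, m1, s1, q1, a1⟩, ⟨c0, hc0K, hE.sq, h0, hanti⟩]
  obtain ⟨d, hdK, hd3, hd0, hdi⟩ := hall (ρ i2) (by rcases hij2 with ⟨rfl, -⟩ | ⟨rfl, -⟩ | ⟨rfl, -⟩ <;> simp)
  rw [unique_partner h hR hz ha ht2 hd3 hc hd0 hdi h0c hanti2]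
  exact hdK

set_option maxHeartbeats 800000 in
/-- Every element of order three lies in the icosahedral subgroup. -/
theorem five_contains {K : Subgroup G} (hK : IsFive z K) (hzK : z ∈ K) {a x : G} (ha : Three a) (haK : a ∈ K)
    (hx : Three x) : x ∈ K := by
  rcases pair_cases h hR hz ha.1 ha.2 hx.1 hx.2 with rfl | rfl | e | e | ⟨-, f', hs', hf'⟩
  · exact haK
  · exact K.mul_mem haK haK
  · exact adjacent_mem h hR hz hK hzK ha haK hx (Or.inr e)
  · exact adjacent_mem h hR hz hK hzK ha haK hx (Or.inl e)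
  let H := Subgroup.closure ({a, x} : Set G)
  let A : H := ⟨a, Subgroup.subset_closure (Or.inl rfl)⟩
  let X : H := ⟨x, Subgroup.subset_closure (Or.inr rfl)⟩
  have cube : ∀ g : H, Three (g : G) → f' g * (f' g * f' g) = 1 := fun g hg => by
    rw [← map_mul, ← map_mul, show g * (g * g) = 1 from Subtype.ext hg.1, map_one]
  have h0 : f' A * f' X ≠ f' X * f' A := by
    intro hc
    have hgen : Subgroup.closure {A, X} = (⊤ : Subgroup H) := by
      rw [eq_top_iff]
      rintro ⟨g, hg⟩ -
      induction hg using Subgroup.closure_induction with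
      | mem p hp =>
        rcases hp with rfl | rfl
        · exact Subgroup.subset_closure (Or.inl rfl)
        · exact Subgroup.subset_closure (Or.inr rfl)
      | one => exact Subgroup.one_mem _
      | mul p q _ _ hp hq => exact Subgroup.mul_mem _ hp hq
      | inv p _ hp => exact Subgroup.inv_mem _ hp
    refine image_ne_one h hR hz hf' (g := A) ha (alt_five_center _ fun k _ => ?_)
    obtain ⟨g, rfl⟩ := hs' k
    exact comm_of_closure f' A X hgen hc A g
  by_cases h1 : f' A * f' X * (f' A * f' X) = 1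
  · exact adjacent_mem h hR hz hK hzK ha haK hx (Or.inr (four_of_image h hR hz hf' h1 h0))
  have h0' : f' A * (f' X * f' X) ≠ f' X * f' X * f' A := by
    intro hc
    apply h0
    have e2 : (f' X * f' X) * (f' X * f' X) = f' X := by rw [← mul_assoc, mul_assoc (f' X), cube X hx, one_mul]
    have c2 : Commute (f' A) (f' X * f' X) := hc
    have := c2.mul_right c2
    rw [e2] at this
    exact this.eq
  by_cases h2 : f' A * (f' X * f' X) * (f' A * (f' X * f' X)) = 1
  · refine adjacent_mem h hR hz hK hzK ha haK hx (Or.inl ?_)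
    exact four_of_image h hR hz hf' (a := A) (b := X * X) (by rwa [map_mul]) (by rwa [map_mul])
  obtain ⟨b, hb, hb', hab, had⟩ := alt_five_conj _ _ (cube A ha) (cube X hx) h0 h1 h2
  have hzH : z ∈ H := by
    obtain ⟨g, hg⟩ := hs' (1 : alternatingGroup (Fin 5))
    by_contra hno
    have hinj : Function.Injective f' := (injective_iff_map_eq_one f').mpr fun g hg => Subtype.ext
      ((hf' g hg).resolve_right (fun e => hno (e ▸ g.2)))
    -- an involution of the image lifts to the central one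
    obtain ⟨s, hs⟩ := hs' ⟨Equiv.swap (0 : Fin 5) 1 * Equiv.swap (2 : Fin 5) 3, by
      rw [Equiv.Perm.mem_alternatingGroup, map_mul, Equiv.Perm.sign_swap (by decide), Equiv.Perm.sign_swap (by decide),
        Int.units_mul_self]⟩
    have hss : s * s = 1 := hinj (by rw [map_mul, map_one, hs]; exact Subtype.ext (by decide))
    rcases eq_one_or_neg h (congrArg Subtype.val hss : (s : G) * s = 1) hz with e | e
    · rw [show s = 1 from Subtype.ext e, map_one] at hs
      exact absurd (congrArg Subtype.val hs) (by decide)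
    · exact hno (e ▸ s.2)
  obtain ⟨B, hB, rfl⟩ := lift_three h hR hz hzH hs' hf' b hb (fun e => hb' (by rw [e, mul_one, one_mul]))
  have hBK : (B : G) ∈ K := by
    refine adjacent_mem h hR hz hK hzK ha haK hB ?_
    rcases hab with e | e
    · exact Or.inr (four_of_image h hR hz hf' e hb')
    · refine Or.inl (four_of_image h hR hz hf' (a := A) (b := B * B) (by rwa [map_mul]) ?_)
      rw [map_mul]
      intro hc
      apply hb'
      have e2 : (f' B * f' B) * (f' B * f' B) = f' B := by rw [← mul_assoc, mul_assoc (f' B), cube B hB, one_mul]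
      have c2 : Commute (f' A) (f' B * f' B) := hc
      have := c2.mul_right c2
      rw [e2] at this
      exact this.eq
  set D : H := B * B * X * B with hD
  have hD3 : Three (D : G) := by
    have e : (D : G) = (B : G)⁻¹ * x * ((B : G)⁻¹)⁻¹ := by rw [inv_inv, hB.inv]; rfl
    rw [e]; exact hx.conj _
  have hDne : f' A * f' D ≠ f' D * f' A ∨ ((D : G) = a ∨ (D : G) = a * a) := by
    by_cases hc : f' A * f' D = f' D * f' A
    · right
      have hk : (a : G) * D = D * a := by
        rcases hf' (A * D * (D * A)⁻¹) (by rw [map_mul f', map_inv, map_mul f' D A, ← hc, map_mul f' A D, mul_inv_cancel]) with e | e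
        · exact mul_inv_eq_one.mp e
        · exfalso
          have e' : a * (D : G) = z * ((D : G) * a) := mul_inv_eq_iff_eq_mul.mp e
          have h3 : Three (z * (D : G)) := by
            have := hD3.conj a
            rwa [show a * (D : G) * a⁻¹ = z * D by rw [e', mul_assoc, mul_inv_cancel_right]] at this
          have hzz := sq_of_neg h hz
          have hl : ∀ w : G, (D : G) * (z * w) = z * ((D : G) * w) := fun w => by
            rw [← mul_assoc, ← central_of_neg h hz, mul_assoc]
          have h4 := h3.1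
          rw [show z * (D : G) * (z * D * (z * D)) = z * (z * (z * ((D : G) * ((D : G) * D)))) by
            simp only [mul_assoc, hl], hD3.1, mul_one, hzz, mul_one] at h4
          exact ne_one_of_neg hR hz h4
      exact eq_of_commute h ha.1 ha.2 hD3.1 hD3.2 hk
    · exact Or.inl hc
  have hDK : (D : G) ∈ K := by
    rcases hDne with hne | e | e
    · refine adjacent_mem h hR hz hK hzK ha haK hD3 ?_
      rcases had with e | e
      · refine Or.inr (four_of_image h hR hz hf' (a := A) (b := D) ?_ hne)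
        simpa only [hD, map_mul] using e
      · refine Or.inl (four_of_image h hR hz hf' (a := A) (b := D * D) ?_ ?_)
        · simpa only [hD, map_mul] using e
        · rw [map_mul]
          intro hc
          apply hne
          have e2 : (f' D * f' D) * (f' D * f' D) = f' D := by rw [← mul_assoc, mul_assoc (f' D), cube D hD3, one_mul]
          have c2 : Commute (f' A) (f' D * f' D) := hc
          have := c2.mul_right c2
          rw [e2] at this
          exact this.eq
    · rw [e]; exact haK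
    · rw [e]; exact K.mul_mem haK haK
  have e : x = (B : G) * D * (B : G)⁻¹ := by
    have hx' : (D : G) = (B : G) * B * x * B := rfl
    rw [hx', hB.inv]
    have hBBB : (B : G) * ((B : G) * B) = 1 := hB.1
    calc x = ((B : G) * ((B : G) * B)) * x * ((B : G) * ((B : G) * B)) := by rw [hBBB, one_mul, mul_one]
      _ = _ := by simp only [mul_assoc]
  rw [e]
  exact K.mul_mem (K.mul_mem hBK hDK) (K.inv_mem hBK)

/-- Without an icosahedral pair there are at most four subgroups of order three. -/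
theorem tetra_contains (hno : ∀ x y : G, Three x → Three y →
      ac (pure3 ρ x) (pure3 ρ y) * ac (pure3 ρ x) (pure3 ρ y) ≠ (20 : ℤ) • (1 : Module.End (ZMod r) V))
    {a : G} (ha : Three a) :
    ∃ b c d : G, Three b ∧ Three c ∧ Three d ∧ ∀ x, Three x →
      ∃ v, (v = a ∨ v = b ∨ v = c ∨ v = d) ∧ (x = v ∨ x = v * v) := by
  by_cases hall : ∀ x, Three x → x = a ∨ x = a * a
  · exact ⟨a, a, a, ha, ha, ha, fun x hx => ⟨a, Or.inl rfl, hall x hx⟩⟩
  push Not at hall
  obtain ⟨y, hy, hy1, hy2⟩ := hall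
  have key : ∀ y, Three y → y ≠ a → y ≠ a * a → ∃ w, (w = y ∨ w = y * y) ∧ Three w ∧ a * (w * w) * (a * (w * w)) = z := by
    intro y hy hy1 hy2
    rcases pair_cases h hR hz ha.1 ha.2 hy.1 hy.2 with e | e | e | e | ⟨e, -⟩
    · exact absurd e hy1
    · exact absurd e hy2
    · exact ⟨y * y, Or.inr rfl, hy.sq, by rwa [hy.sq_sq]⟩
    · exact ⟨y, Or.inl rfl, hy, e⟩
    · exact absurd e (hno a y ha hy)
  obtain ⟨w, -, hw, hwa⟩ := key y hy hy1 hy2
  obtain ⟨i, j, ht, -, -⟩ := exists_tetra h hR hz ha hw hwa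
  refine ⟨i * a * i⁻¹, j * a * j⁻¹, i * j * a * (i * j)⁻¹, ha.conj i, ha.conj j, ha.conj _, fun x hx => ?_⟩
  by_cases hx1 : x = a
  · exact ⟨a, Or.inl rfl, Or.inl hx1⟩
  by_cases hx2 : x = a * a
  · exact ⟨a, Or.inl rfl, Or.inr hx2⟩
  obtain ⟨c, hcx, hc, hca⟩ := key x hx hx1 hx2
  rcases adjacent_cases h hR hz ha ht hc (ac_two h hR hz ha hc hca) with ⟨v, hv, hcv⟩ | ⟨i', j', -, ht', hanti⟩
  · have hv3 : Three v := by rcases hv with rfl | rfl | rfl <;> exact ha.conj _
    refine ⟨v, Or.inr hv, ?_⟩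
    rcases hcx with rfl | rfl
    · exact hcv
    · rcases hcv with e | e
      · right; rw [← e, hx.sq_sq]
      · left; rw [← hx.sq_sq, e, hv3.sq_sq]
  · exfalso
    obtain ⟨T, hT, -, -, hT2, -⟩ := canonical_form h hR hz ha ht' hc (ac_two h hR hz ha hc hca) hanti
    rw [hT] at hT2
    exact hno _ _ (ha.conj j') hc hT2

end CfsgLib.Recognition.Zassenhaus
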