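import Mathlib
import Cfsg.Agent.Lib.Recognition.NearField.Basic
import Cfsg.Agent.Lib.FrobRealize.Conjugate
import Cfsg.Agent.S3971

/-!
Fixed-point-free representations of Frobenius complements, and the solvable cases.
-/

set_option linter.style.haveILetI false
set_option linter.unusedSectionVars false

namespace CfsgLib.Recognition.Zassenhaus

open NearField

/-- The linear action underlying an action on an elementary abelian group. -/
def zmodRep (r : ℕ) {V : Type*} [AddCommGroup V] [Module (ZMod r) V] {G : Type*} [Group G]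
    (φ : G →* AddMonoid.End V) : G →* Module.End (ZMod r) V where
  toFun g := AddMonoidHom.toZModLinearMap r (φ g)
  map_one' := LinearMap.ext fun v => by
    show φ 1 v = v
    rw [map_one]; rfl
  map_mul' a b := LinearMap.ext fun v => by
    show φ (a * b) v = φ a (φ b v)
    rw [map_mul]; rfl

/-- A Frobenius complement of even order has a fixed-point-free representation. -/
theorem exists_rep {G : Type*} [Group G] {L : Type} [Group L] [Finite L] {H : Subgroup L}
    (hH : Cfsg.IsFrobeniusComplement H) (h2 : 2 ∣ Nat.card H) (e : G ≃* H) :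
    ∃ (r : ℕ) (_ : Fact r.Prime) (V : Type) (_ : AddCommGroup V) (_ : Module (ZMod r) V) (_ : Finite V)
      (_ : Nontrivial V) (ρ : G →* Module.End (ZMod r) V), Fpf ρ := by
  obtain ⟨N, hNn, hN1, -, hfpf, -, hset⟩ := CfsgLib.FrobRealize.FPF.exists_fpf_kernel hH
  have hcomm := CfsgLib.FrobRealize.Conjugate.kernel_comm_of_even hH h2 hset
  obtain ⟨r, hr, hrd⟩ := Nat.exists_prime_and_dvd (n := Nat.card N) (fun h1 => hN1 (Subgroup.card_eq_one.mp h1))
  haveI : Fact r.Prime := ⟨hr⟩
  obtain ⟨u, hu⟩ := exists_prime_orderOf_dvd_card' r hrd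
  let W : Subgroup L :=
    { carrier := {x | x ∈ N ∧ x ^ r = 1}
      one_mem' := ⟨N.one_mem, one_pow r⟩
      mul_mem' := fun {a b} ha hb => ⟨N.mul_mem ha.1 hb.1,
        (Commute.mul_pow (hcomm a ha.1 b hb.1) r).trans (by rw [ha.2, hb.2, one_mul])⟩
      inv_mem' := fun {a} ha => ⟨N.inv_mem ha.1, by rw [inv_pow, ha.2, inv_one]⟩ }
  letI : CommGroup W :=
    { (inferInstance : Group W) with mul_comm := fun a b => Subtype.ext (hcomm a a.2.1 b b.2.1) }
  have hW : ∀ x : Additive W, r • x = 0 := fun x => by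
    apply Additive.toMul.injective
    rw [toMul_nsmul, toMul_zero]
    exact Subtype.ext (by rw [SubgroupClass.coe_pow]; exact (Additive.toMul x).2.2)
  letI : Module (ZMod r) (Additive W) := AddCommGroup.zmodModule hW
  have hmem : ∀ (g : G) (w : W), (e g : L) * w * (e g : L)⁻¹ ∈ W := fun g w =>
    ⟨hNn.conj_mem _ w.2.1 _, by rw [conj_pow, w.2.2, mul_one, mul_inv_cancel]⟩
  let ψ : G → (W →* W) := fun g => MonoidHom.mk' (fun w => ⟨(e g : L) * w * (e g : L)⁻¹, hmem g w⟩) (fun a b => by
    apply Subtype.ext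
    show (e g : L) * ((a : L) * b) * (e g : L)⁻¹ = (e g : L) * a * (e g : L)⁻¹ * ((e g : L) * b * (e g : L)⁻¹)
    group)
  let φ : G →* AddMonoid.End (Additive W) :=
    { toFun := fun g => MonoidHom.toAdditive (ψ g)
      map_one' := by
        refine AddMonoidHom.ext fun v => Additive.toMul.injective (Subtype.ext ?_)
        show (e 1 : L) * ((Additive.toMul v : W) : L) * (e 1 : L)⁻¹ = ((Additive.toMul v : W) : L)
        simp
      map_mul' := fun a b => by
        refine AddMonoidHom.ext fun v => Additive.toMul.injective (Subtype.ext ?_)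
        show (e (a * b) : L) * ((Additive.toMul v : W) : L) * (e (a * b) : L)⁻¹ =
          (e a : L) * ((e b : L) * ((Additive.toMul v : W) : L) * (e b : L)⁻¹) * (e a : L)⁻¹
        rw [map_mul, Subgroup.coe_mul, mul_inv_rev]
        simp only [mul_assoc] }
  haveI : Nontrivial (Additive W) := by
    refine ⟨Additive.ofMul ⟨(u : L), u.2, ?_⟩, 0, fun h0 => hr.one_lt.ne' ?_⟩
    · rw [← SubgroupClass.coe_pow, ← hu, pow_orderOf_eq_one, Subgroup.coe_one]
    · have h1 : (u : L) = 1 := congrArg (fun w : Additive W => ((Additive.toMul w : W) : L)) h0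
      rw [← hu, show u = 1 from Subtype.ext h1, orderOf_one]
  refine ⟨r, inferInstance, Additive W, inferInstance, inferInstance, inferInstance, inferInstance, zmodRep r φ,
    fun g v hv hg => ?_⟩
  by_contra hg1
  have hval : (e g : L) * ((Additive.toMul v : W) : L) * (e g : L)⁻¹ = ((Additive.toMul v : W) : L) :=
    congrArg (fun w : Additive W => ((Additive.toMul w : W) : L)) hg
  have h1 : ((Additive.toMul v : W) : L) ∈ N ⊓ Subgroup.centralizer {(e g : L)} :=
    ⟨(Additive.toMul v).2.1, Subgroup.mem_centralizer_singleton_iff.mpr (by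
      have := mul_inv_eq_iff_eq_mul.mp hval
      first | exact this | exact this.symm)⟩
  rw [hfpf _ (e g).2 (fun h => hg1 (e.injective (by rw [map_one]; exact Subtype.ext h))), Subgroup.mem_bot] at h1
  exact hv (Additive.toMul.injective (Subtype.ext h1))

/-- A group with cyclic Sylow subgroups at odd primes and odd order is solvable. -/
theorem isSolvable_of_odd {r : ℕ} [Fact r.Prime] {V : Type*} [AddCommGroup V] [Module (ZMod r) V] [Finite V]
    [Nontrivial V] {G : Type*} [Group G] [Finite G] {ρ : G →* Module.End (ZMod r) V} (h : Fpf ρ) (N : Subgroup G)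
    (hodd : ¬ 2 ∣ Nat.card N) : Group.IsSolvable N := by
  haveI : IsZGroup N := ⟨fun p hp P => by
    haveI := Fact.mk hp
    rcases sylow_cases h N P with hc | ⟨-, k, ⟨i⟩⟩
    · exact hc
    · exfalso
      refine hodd (Dvd.dvd.trans ?_ (Subgroup.card_subgroup_dvd_card (P : Subgroup N)))
      rw [Nat.card_congr i.toEquiv, Nat.card_eq_fintype_card, QuaternionGroup.card]
      omega⟩
  infer_instance

/-- Without elements of order three the group is solvable. -/
theorem isSolvable_of_not_three {r : ℕ} [Fact r.Prime] {V : Type*} [AddCommGroup V] [Module (ZMod r) V] [Finite V]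
    [Nontrivial V] {G : Type*} [Group G] [Finite G] {ρ : G →* Module.End (ZMod r) V} (h : Fpf ρ)
    (h3 : ¬ 3 ∣ Nat.card G) : Group.IsSolvable G := by
  haveI : Fact (Nat.Prime 2) := ⟨Nat.prime_two⟩
  obtain ⟨P⟩ : Nonempty (Sylow 2 (⊤ : Subgroup G)) := inferInstance
  set a := (Nat.card G).factorization 2 with ha
  have hP : Nat.card P = 2 ^ a := by rw [P.card_eq_multiplicity, Subgroup.card_top]
  have hx : ∃ x : G, orderOf x = 2 ^ (a - 1) := by
    suffices hs : ∃ x : (P : Subgroup (⊤ : Subgroup G)), orderOf x = 2 ^ (a - 1) by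
      obtain ⟨x, hx⟩ := hs
      exact ⟨((x : (⊤ : Subgroup G)) : G), by rw [Subgroup.orderOf_coe, Subgroup.orderOf_coe, hx]⟩
    rcases sylow_cases h ⊤ P with hc | ⟨-, k, ⟨i⟩⟩
    · obtain ⟨g, hg⟩ := IsCyclic.exists_ofOrder_eq_natCard (α := (P : Subgroup (⊤ : Subgroup G)))
      rw [hP] at hg
      rcases Nat.eq_zero_or_pos a with h0 | h0
      · exact ⟨g, by rw [hg, h0]⟩
      · refine ⟨g ^ 2, ?_⟩
        rw [orderOf_pow' g two_ne_zero, hg, Nat.gcd_eq_right (dvd_pow_self 2 h0.ne')]
        conv_lhs => rw [show a = a - 1 + 1 by omega, pow_succ]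
        exact Nat.mul_div_cancel _ two_pos
    · have hk : 2 ^ a = 2 ^ (k + 2) := by
        rw [← hP, Nat.card_congr i.toEquiv, Nat.card_eq_fintype_card, QuaternionGroup.card, pow_add]
        ring
      haveI : NeZero (2 ^ k) := ⟨(Nat.two_pow_pos k).ne'⟩
      refine ⟨i.symm (QuaternionGroup.a 1), ?_⟩
      rw [MulEquiv.orderOf_eq, QuaternionGroup.orderOf_a_one, Nat.pow_right_injective (le_refl 2) hk]
      rw [show k + 2 - 1 = k + 1 by omega, pow_succ]
      ring
  have hn : Odd (ordCompl[2] (Nat.card G)) := Nat.odd_iff.mpr (Nat.two_dvd_ne_zero.mp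
    (Nat.not_dvd_ordCompl Nat.prime_two Nat.card_pos.ne'))
  obtain ⟨N, hN, hcard⟩ := Cfsg.Agent.S3971.result a (ordCompl[2] (Nat.card G))
    (Nat.ordProj_mul_ordCompl_eq_self _ _).symm hn (fun hd => h3 (hd.trans (Nat.ordCompl_dvd _ _))) hx
  haveI := hN
  haveI : Group.IsSolvable N := isSolvable_of_odd h N (by rw [hcard]; exact fun hd => (Nat.not_even_iff_odd.mpr hn) (even_iff_two_dvd.mpr hd))
  have hQ : IsPGroup 2 (G ⧸ N) := by
    refine IsPGroup.of_card (n := a) ?_
    have h1 := N.card_mul_index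
    rw [hcard] at h1
    have h2 := Nat.ordProj_mul_ordCompl_eq_self (Nat.card G) 2
    rw [← Subgroup.index_eq_card]
    exact Nat.eq_of_mul_eq_mul_left (Nat.ordCompl_pos 2 Nat.card_pos.ne') (by rw [h1, ha, mul_comm, h2])
  haveI := hQ.isNilpotent
  exact Group.isSolvable_of_ker_le_range N.subtype (QuotientGroup.mk' N) (by rw [QuotientGroup.ker_mk', Subgroup.range_subtype])

end CfsgLib.Recognition.Zassenhaus
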