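import Mathlib
import Cfsg.Agent.Lib.Recognition.Zassenhaus.Rep
import Cfsg.Agent.Lib.Recognition.Zassenhaus.Five
import Cfsg.Agent.S0144

/-!
A nonsolvable fixed-point-free group has an icosahedral subgroup.
-/

set_option linter.style.haveILetI false
set_option linter.unusedSectionVars false

namespace CfsgLib.Recognition.Zassenhaus

open NearField
open scoped commutatorElement

/-- A nonsolvable finite group has a nontrivial perfect normal subgroup. -/
theorem exists_perfect {G : Type*} [Group G] [Finite G] (hns : ¬ Group.IsSolvable G) :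
    ∃ R : Subgroup G, R ≠ ⊥ ∧ ⁅R, R⁆ = R := by
  obtain ⟨n, hn⟩ := Nat.sInf_mem (Set.range_nonempty fun n => Nat.card (derivedSeries G n))
  refine ⟨derivedSeries G n, fun hb => hns ⟨n, hb⟩, ?_⟩
  rw [← derivedSeries_succ]
  exact Subgroup.eq_of_le_of_card_ge (derivedSeries_antitone G (Nat.le_succ n))
    (hn.le.trans (Nat.sInf_le ⟨n + 1, rfl⟩))

theorem derived_eq_top {G : Type*} [Group G] {R : Subgroup G} (hR : ⁅R, R⁆ = R) :
    ∀ n, derivedSeries R n = ⊤ := by
  intro n
  induction n with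
  | zero => rfl
  | succ n ih =>
    rw [derivedSeries_succ, ih]
    apply Subgroup.map_injective R.subtype_injective
    rw [Subgroup.map_commutator, ← MonoidHom.range_eq_map, Subgroup.range_subtype, hR]

/-- A perfect subgroup has no nontrivial map to a solvable group. -/
theorem perfect_killed {G S : Type*} [Group G] [Group S] [hS : Group.IsSolvable S] {R : Subgroup G} (hR : ⁅R, R⁆ = R)
    (f : R →* S) (g : R) : f g = 1 := by
  obtain ⟨n, hn⟩ := hS.solvable
  have h1 := map_derivedSeries_le_derivedSeries f n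
  rw [derived_eq_top hR, hn] at h1
  exact Subgroup.mem_bot.mp (h1 ⟨g, trivial, rfl⟩)

theorem perm_solvable (α : Type*) [Finite α] (h : Nat.card α ≤ 4) : Group.IsSolvable (Equiv.Perm α) := by
  have hc := Nat.card_perm (α := α)
  interval_cases hk : Nat.card α
  · exact Cfsg.Agent.S0144.result 2 3 0 0 Nat.prime_two Nat.prime_three (by simpa using hc)
  · exact Cfsg.Agent.S0144.result 2 3 0 0 Nat.prime_two Nat.prime_three (by simpa using hc)
  · exact Cfsg.Agent.S0144.result 2 3 1 0 Nat.prime_two Nat.prime_three (by simpa using hc)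
  · exact Cfsg.Agent.S0144.result 2 3 1 1 Nat.prime_two Nat.prime_three (by simpa [Nat.factorial] using hc)
  · exact Cfsg.Agent.S0144.result 2 3 3 1 Nat.prime_two Nat.prime_three (by simpa [Nat.factorial] using hc)

universe v

variable {r : ℕ} [Fact r.Prime] {V : Type v} [AddCommGroup V] [Module (ZMod r) V] [Finite V] [Nontrivial V]
  {G : Type*} [Group G] [Finite G] {ρ : G →* Module.End (ZMod r) V}

/-- The numeric consequences of nonsolvability. -/
theorem noTorsion_of_nonsolvable (h : Fpf ρ) (hns : ¬ Group.IsSolvable G) :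
    2 ∣ Nat.card G ∧ 3 ∣ Nat.card G ∧ NoTorsion (Module.End (ZMod r) V) := by
  have h2 : 2 ∣ Nat.card G := by
    by_contra h2
    apply hns
    haveI := isSolvable_of_odd h ⊤ (by rwa [Subgroup.card_top])
    exact Group.isSolvable_of_surjective (f := (Subgroup.topEquiv : (⊤ : Subgroup G) ≃* G).toMonoidHom) Subgroup.topEquiv.surjective
  have h3 : 3 ∣ Nat.card G := by
    by_contra h3
    exact hns (isSolvable_of_not_three h h3)
  refine ⟨h2, h3, fun x hx => ?_⟩
  have hr := not_dvd_card h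
  have h6 : ((6 : ℤ) : ZMod r) ≠ 0 := by
    rw [Ne, ZMod.intCast_zmod_eq_zero_iff_dvd]
    intro hd
    have hd' : r ∣ 2 * 3 := by exact_mod_cast hd
    rcases (Nat.Prime.dvd_mul Fact.out).mp hd' with e | e
    · exact hr ((Nat.prime_dvd_prime_iff_eq Fact.out Nat.prime_two).mp e ▸ h2)
    · exact hr ((Nat.prime_dvd_prime_iff_eq Fact.out Nat.prime_three).mp e ▸ h3)
  rw [← Int.cast_smul_eq_zsmul (ZMod r)] at hx
  exact (smul_eq_zero.mp hx).resolve_left h6

/-- There is a central involution acting as minus one. -/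
theorem exists_center_neg (h : Fpf ρ) (h2 : 2 ∣ Nat.card G) : ∃ z : G, ρ z = -1 := by
  haveI : Fact (Nat.Prime 2) := ⟨Nat.prime_two⟩
  obtain ⟨g, hg⟩ := exists_prime_orderOf_dvd_card' 2 h2
  refine ⟨g, exists_neg h ?_ ?_⟩
  · rw [← pow_two, ← hg, pow_orderOf_eq_one]
  · intro e; rw [e, orderOf_one] at hg; omega

theorem exists_three {H : Type*} [Group H] [Finite H] (h3 : 3 ∣ Nat.card H) : ∃ a : H, Three a := by
  haveI : Fact (Nat.Prime 3) := ⟨Nat.prime_three⟩
  obtain ⟨a, ha⟩ := exists_prime_orderOf_dvd_card' 3 h3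
  refine ⟨a, ?_, fun e => ?_⟩
  · rw [← pow_two, ← pow_succ', show 2 + 1 = orderOf a by rw [ha], pow_orderOf_eq_one]
  · rw [e, orderOf_one] at ha; omega

variable (h : Fpf ρ) (hR : NoTorsion (Module.End (ZMod r) V)) {z : G} (hz : ρ z = -1)
include h hR hz

set_option maxHeartbeats 1000000 in
/-- An icosahedral pair exists in a nonsolvable group. -/
theorem exists_five (hns : ¬ Group.IsSolvable G) :
    ∃ x y : G, Three x ∧ Three y ∧ IsFive z (Subgroup.closure ({x, y} : Set G)) := by
  classical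
  haveI : Fact (Nat.Prime 3) := ⟨Nat.prime_three⟩
  by_contra hno
  have hno' : ∀ x y : G, Three x → Three y →
      ac (pure3 ρ x) (pure3 ρ y) * ac (pure3 ρ x) (pure3 ρ y) ≠ (20 : ℤ) • (1 : Module.End (ZMod r) V) := by
    intro x y hx hy hT
    rcases pair_cases h hR hz hx.1 hx.2 hy.1 hy.2 with e | e | e | e | ⟨-, hf⟩
    case inr.inr.inr.inr => exact hno ⟨x, y, hx, hy, hf⟩
    all_goals
      obtain ⟨m, hm, hT'⟩ : ∃ m : ℤ, (m * m - 20 ∣ 6 ^ 4) ∧ ac (pure3 ρ x) (pure3 ρ y) = m • (1 : Module.End (ZMod r) V) := by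
        first
          | exact ⟨-6, by norm_num, by rw [e, ac, pure3_sq h hx.1 hx.2]; module⟩
          | exact ⟨6, by norm_num, by rw [e, pure3_square_elem h hx.1 hx.2, ac, mul_neg, neg_mul, pure3_sq h hx.1 hx.2]; module⟩
          | exact ⟨-2, by norm_num, ac_of_four h hx.1 hx.2 hy.1 hy.2 hz e⟩
          | exact ⟨2, by norm_num, ac_two h hR hz hx hy e⟩
      rw [hT', smul_mul_smul_comm, one_mul] at hT
      exact hR.absurd _ 4 hm (by rw [← zsmul_one, sub_smul, hT, sub_self])
  obtain ⟨a, ha⟩ := exists_three (noTorsion_of_nonsolvable h hns).2.1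
  obtain ⟨b, c, d, hb, hc, hd, hall⟩ := tetra_contains h hR hz hno' ha
  let O := {S : Subgroup G // ∃ x, Three x ∧ S = Subgroup.zpowers x}
  have hO : Nat.card O ≤ 4 := by
    let F : Fin 4 → O := ![⟨_, a, ha, rfl⟩, ⟨_, b, hb, rfl⟩, ⟨_, c, hc, rfl⟩, ⟨_, d, hd, rfl⟩]
    refine le_trans (Nat.card_le_card_of_surjective F ?_) (le_of_eq (Nat.card_fin 4))
    rintro ⟨_, x, hx, rfl⟩
    obtain ⟨v, hv, hxv⟩ := hall x hx
    have hz' : Subgroup.zpowers x = Subgroup.zpowers v := by
      rcases hxv with rfl | rfl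
      · rfl
      · have hv3 : Three v := by rcases hv with rfl | rfl | rfl | rfl <;> assumption
        rw [← hv3.inv, Subgroup.zpowers_inv]
    rcases hv with rfl | rfl | rfl | rfl
    exacts [⟨0, Subtype.ext hz'.symm⟩, ⟨1, Subtype.ext hz'.symm⟩, ⟨2, Subtype.ext hz'.symm⟩, ⟨3, Subtype.ext hz'.symm⟩]
  haveI := perm_solvable O hO
  have hmem : ∀ (g : G) (S : O), ∃ x, Three x ∧ S.1.map (MulAut.conj g).toMonoidHom = Subgroup.zpowers x := by
    rintro g ⟨_, x, hx, rfl⟩
    exact ⟨g * x * g⁻¹, hx.conj g, MonoidHom.map_zpowers _ _⟩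
  have hcomp : ∀ (g k : G) (S : Subgroup G),
      (S.map (MulAut.conj k).toMonoidHom).map (MulAut.conj g).toMonoidHom = S.map (MulAut.conj (g * k)).toMonoidHom := by
    intro g k S
    rw [Subgroup.map_map, map_mul]
    rfl
  have hone : ∀ S : Subgroup G, S.map (MulAut.conj (1 : G)).toMonoidHom = S := fun S => by
    rw [map_one]; exact Subgroup.map_id S
  let act : G →* Equiv.Perm O :=
    MonoidHom.mk' (fun g =>
      { toFun := fun S => ⟨_, hmem g S⟩
        invFun := fun S => ⟨_, hmem g⁻¹ S⟩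
        left_inv := fun S => Subtype.ext ((hcomp _ _ _).trans (by rw [inv_mul_cancel, hone]))
        right_inv := fun S => Subtype.ext ((hcomp _ _ _).trans (by rw [mul_inv_cancel, hone])) })
      (fun g k => Equiv.ext fun S => Subtype.ext (hcomp g k S.1).symm)
  obtain ⟨R, hR1, hRR⟩ := exists_perfect hns
  have hconj : ∀ g ∈ R, ∀ x, Three x → g * x * g⁻¹ = x ∨ g * x * g⁻¹ = x * x := by
    intro g hg x hx
    have h1 := perfect_killed hRR (act.comp R.subtype) ⟨g, hg⟩
    have h2 : (Subgroup.zpowers x).map (MulAut.conj g).toMonoidHom = Subgroup.zpowers x :=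
      congrArg Subtype.val (DFunLike.congr_fun h1 (⟨_, x, hx, rfl⟩ : O))
    rw [MonoidHom.map_zpowers] at h2
    have h3 : g * x * g⁻¹ ∈ Subgroup.zpowers x := h2 ▸ Subgroup.mem_zpowers _
    obtain ⟨m, hm⟩ := Subgroup.mem_zpowers_iff.mp h3
    refine eq_of_commute h hx.1 hx.2 (hx.conj g).1 (hx.conj g).2 ?_
    rw [← hm]
    exact ((Commute.refl x).zpow_right m).eq
  have hcent : ∀ x, Three x → ∀ g ∈ R, g * x = x * g := by
    intro x hx
    have hle : ⁅R, R⁆ ≤ Subgroup.centralizer {x} := by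
      rw [Subgroup.commutator_le]
      intro g hg k hk
      rw [Subgroup.mem_centralizer_singleton_iff]
      have sq : ∀ u w : G, u * w * u⁻¹ = x → u * (w * w) * u⁻¹ = x * x := fun u w e => by rw [← e]; group
      have e1 : g * k * x * (g * k)⁻¹ = k * g * x * (k * g)⁻¹ := by
        have a1 : g * k * x * (g * k)⁻¹ = g * (k * x * k⁻¹) * g⁻¹ := by group
        have a2 : k * g * x * (k * g)⁻¹ = k * (g * x * g⁻¹) * k⁻¹ := by group
        rw [a1, a2]
        have d1 : ∀ u : G, u * x * u⁻¹ = x → u * (x * x) * u⁻¹ = x * x := fun u e => sq u x e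
        have d2 : ∀ u : G, u * x * u⁻¹ = x * x → u * (x * x) * u⁻¹ = x := fun u e => by
          calc u * (x * x) * u⁻¹ = (u * x * u⁻¹) * (u * x * u⁻¹) := by group
            _ = x := by rw [e, hx.sq_sq]
        rcases hconj g hg x hx with p | p <;> rcases hconj k hk x hx with q | q
        · rw [q, p, q]
        · rw [q, p, d1 g p, q]
        · rw [q, p, d1 k q]
        · rw [q, p, d2 g p, d2 k q]
      have e2 : ⁅g, k⁆ * (k * g * x * (k * g)⁻¹) * ⁅g, k⁆⁻¹ = g * k * x * (g * k)⁻¹ := by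
        rw [commutatorElement_def]; group
      have e3 : k * g * x * (k * g)⁻¹ = x ∨ k * g * x * (k * g)⁻¹ = x * x :=
        hconj _ (R.mul_mem hk hg) x hx
      rw [e1] at e2
      rcases e3 with e | e <;> rw [e] at e2
      · have := mul_inv_eq_iff_eq_mul.mp e2
        first | exact this | exact this.symm
      · have h4 : ⁅g, k⁆ * x * ⁅g, k⁆⁻¹ = x := by
          calc ⁅g, k⁆ * x * ⁅g, k⁆⁻¹ = (⁅g, k⁆ * (x * x) * ⁅g, k⁆⁻¹) * (⁅g, k⁆ * (x * x) * ⁅g, k⁆⁻¹) := by
                conv_lhs => rw [← hx.sq_sq]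
                group
            _ = x := by rw [e2, hx.sq_sq]
        have := mul_inv_eq_iff_eq_mul.mp h4
        first | exact this | exact this.symm
    intro g hg
    rw [← hRR] at hg
    have := Subgroup.mem_centralizer_singleton_iff.mp (hle hg)
    first | exact this | exact this.symm
  by_cases h3 : 3 ∣ Nat.card R
  · obtain ⟨x, hx⟩ := exists_three h3
    have hxG : Three (x : G) := ⟨congrArg Subtype.val hx.1, fun e => hx.2 (Subtype.ext e)⟩
    have hxc : ∀ g : R, g * x = x * g := fun g => Subtype.ext (hcent _ hxG g g.2)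
    have hp : IsPGroup 3 (Subgroup.zpowers x) := IsPGroup.of_card (n := 1) (by
      rw [Nat.card_zpowers, pow_one]
      exact orderOf_eq_prime (by rw [pow_succ', pow_two]; exact hx.1) hx.2)
    obtain ⟨P, hP⟩ := hp.exists_le_sylow
    have hcyc : IsCyclic (P : Subgroup R) := (sylow_cases h R P).elim id (fun e => by omega)
    letI := hcyc.commGroup
    let τ := MonoidHom.transfer (MonoidHom.id (P : Subgroup R))
    have h1 : τ x = 1 := perfect_killed hRR τ x
    have key : ∀ (k : ℕ) (g₀ : R), g₀⁻¹ * x ^ k * g₀ ∈ (P : Subgroup R) → g₀⁻¹ * x ^ k * g₀ = x ^ k := fun k g₀ _ => by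
      rw [mul_assoc, ← ((show Commute g₀ x from hxc g₀).pow_right k).eq, inv_mul_cancel_left]
    rw [MonoidHom.transfer_eq_pow _ x key] at h1
    have h2 : x ^ (P : Subgroup R).index = 1 := congrArg Subtype.val h1
    have h4 : orderOf x = 3 := orderOf_eq_prime (by rw [pow_succ', pow_two]; exact hx.1) hx.2
    exact P.not_dvd_index (h4.symm.dvd.trans (orderOf_dvd_of_pow_eq_one h2))
  · have h' : Fpf (ρ.comp R.subtype) := fun g w hw e => Subtype.ext (h (g : G) w hw e)
    haveI := isSolvable_of_not_three h' h3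
    refine hR1 ((Subgroup.eq_bot_iff_forall _).mpr fun g hg => ?_)
    exact congrArg Subtype.val (perfect_killed hRR (MonoidHom.id R) ⟨g, hg⟩)

end CfsgLib.Recognition.Zassenhaus
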