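import Mathlib
import Cfsg.Agent.Lib.Recognition.Zassenhaus.Core

/-!
Structure of nonsolvable fixed-point-free groups (Zassenhaus).
-/

set_option linter.style.haveILetI false
set_option linter.unusedSectionVars false
set_option linter.unusedTactic false
set_option linter.unreachableTactic false

namespace CfsgLib.Recognition.Zassenhaus

open NearField

theorem perm_five_fours : ∀ a : Equiv.Perm (Fin 5), Equiv.Perm.sign a = 1 → a 4 = 4 → a * a = 1 →
    ∀ b : Equiv.Perm (Fin 5), Equiv.Perm.sign b = 1 → b 4 = 4 → b * b = 1 →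
      (a * b) 4 = 4 ∧ (a * b) * (a * b) = 1 := by
  decide +kernel

theorem perm_five_norm : ∀ g : Equiv.Perm (Fin 5), Equiv.Perm.sign g = 1 →
    (∀ v : Equiv.Perm (Fin 5), Equiv.Perm.sign v = 1 → v 4 = 4 → v * v = 1 → (g * v * g⁻¹) 4 = 4) → g 4 = 4 := by
  decide +kernel

theorem perm_five_norm' : ∀ g : Equiv.Perm (Fin 5), Equiv.Perm.sign g = 1 → g 4 = 4 →
    ∀ v : Equiv.Perm (Fin 5), Equiv.Perm.sign v = 1 → v 4 = 4 → v * v = 1 → (g * v * g⁻¹) 4 = 4 := by
  decide +kernel

theorem perm_five_core : ∀ g : Equiv.Perm (Fin 5), Equiv.Perm.sign g = 1 →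
    (∀ h : Equiv.Perm (Fin 5), Equiv.Perm.sign h = 1 → (h * g * h⁻¹) 4 = 4) → g = 1 := by
  decide +kernel

theorem perm_five_move : ∀ i : Fin 5, ∃ g : Equiv.Perm (Fin 5), Equiv.Perm.sign g = 1 ∧ g 4 = i := by
  decide +kernel

/-- In a cyclic group the elements killed by a prime lie in the subgroup of that order. -/
theorem mem_zpowers_of_cyclic {A : Type*} [Group A] [Finite A] [IsCyclic A] {p : ℕ} (hp : 0 < p) {g u : A}
    (hg : g ^ p = 1) (hu : orderOf u = p) : g ∈ Subgroup.zpowers u := by
  classical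
  haveI := Fintype.ofFinite A
  have hsub : (Subgroup.zpowers u : Set A).toFinset ⊆ Finset.univ.filter (fun a : A => a ^ p = 1) := by
    intro a ha
    rw [Set.mem_toFinset] at ha
    obtain ⟨k, rfl⟩ := Subgroup.mem_zpowers_iff.mp ha
    rw [Finset.mem_filter]
    exact ⟨Finset.mem_univ _, by rw [← zpow_natCast, zpow_comm, zpow_natCast, ← hu, pow_orderOf_eq_one, one_zpow]⟩
  have hcard : (Finset.univ.filter (fun a : A => a ^ p = 1)).card ≤ (Subgroup.zpowers u : Set A).toFinset.card := by
    rw [Set.toFinset_card, ← Nat.card_eq_fintype_card]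
    exact (IsCyclic.card_pow_eq_one_le hp).trans (by rw [SetLike.coe_sort_coe, Nat.card_zpowers, hu])
  have := Finset.eq_of_subset_of_card_le hsub hcard
  have h1 : g ∈ (Subgroup.zpowers u : Set A).toFinset := by rw [this]; simpa using hg
  simpa using h1

universe v

variable {r : ℕ} [Fact r.Prime] {V : Type v} [AddCommGroup V] [Module (ZMod r) V] [Finite V] [Nontrivial V]
  {G : Type*} [Group G] [Finite G] {ρ : G →* Module.End (ZMod r) V}
  (h : Fpf ρ) (hR : NoTorsion (Module.End (ZMod r) V)) {z : G} (hz : ρ z = -1)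
include h hR hz

/-- The involution lies in an icosahedral subgroup. -/
theorem five_z_mem {K : Subgroup G} (hK : IsFive z K) : z ∈ K := by
  obtain ⟨f, hs, hf⟩ := hK
  by_contra hno
  have hinj : Function.Injective f := (injective_iff_map_eq_one f).mpr fun g hg => Subtype.ext
    ((hf g hg).resolve_right (fun e => hno (e ▸ g.2)))
  obtain ⟨s, hsw⟩ := hs ⟨Equiv.swap (0 : Fin 5) 1 * Equiv.swap (2 : Fin 5) 3, by
    rw [Equiv.Perm.mem_alternatingGroup, map_mul, Equiv.Perm.sign_swap (by decide), Equiv.Perm.sign_swap (by decide),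
      Int.units_mul_self]⟩
  have hss : s * s = 1 := hinj (by rw [map_mul, map_one, hsw]; exact Subtype.ext (by decide))
  rcases eq_one_or_neg h (congrArg Subtype.val hss : (s : G) * s = 1) hz with e | e
  · rw [show s = 1 from Subtype.ext e, map_one] at hsw
    exact absurd (congrArg Subtype.val hsw) (by decide)
  · exact hno (e ▸ s.2)

/-- An element commuting with an icosahedral subgroup and lying in it is plus or minus one. -/
theorem mem_centre_five {K : Subgroup G} (hK : IsFive z K) {g : G} (hgK : g ∈ K) (hg : ∀ k ∈ K, g * k = k * g) :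
    g = 1 ∨ g = z := by
  obtain ⟨f, hs, hf⟩ := hK
  refine hf ⟨g, hgK⟩ (alt_five_center _ fun k _ => ?_)
  obtain ⟨y, rfl⟩ := hs k
  rw [← map_mul, ← map_mul]
  exact congrArg f (Subtype.ext (hg y y.2))

set_option maxHeartbeats 1000000 in
/-- The centraliser of the icosahedral subgroup. -/
theorem centralizer_five {K : Subgroup G} [K.Normal] (hK : IsFive z K) (hall : ∀ x, Three x → x ∈ K)
    (h5 : 5 ∣ Nat.card K) :
    ∃ M : Subgroup G, M.Normal ∧ M ≤ Subgroup.centralizer (K : Set G) ∧ K ⊓ M = ⊥ ∧ (Nat.card M).Coprime 30 ∧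
      Nat.card (Subgroup.centralizer (K : Set G)) = 2 * Nat.card M ∧
      ∀ (p : ℕ) [Fact p.Prime] (P : Sylow p M), IsCyclic P := by
  classical
  haveI : Fact (Nat.Prime 2) := ⟨Nat.prime_two⟩
  haveI : Fact (Nat.Prime 3) := ⟨Nat.prime_three⟩
  haveI : Fact (Nat.Prime 5) := ⟨Nat.prime_five⟩
  set C := Subgroup.centralizer (K : Set G) with hC
  have hcomm : ∀ c ∈ C, ∀ k ∈ K, c * k = k * c := fun c hc k hk => (Subgroup.mem_centralizer_iff.mp hc k hk).symm
  have hzK := five_z_mem h hR hz hK
  have hzC : z ∈ C := Subgroup.mem_centralizer_iff.mpr fun k _ => (central_of_neg h hz k).symm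
  have hCK : ∀ g ∈ C, g ∈ K → g = 1 ∨ g = z := fun g hg hgK => mem_centre_five h hR hz hK hgK (hcomm g hg)
  have hzz := sq_of_neg h hz
  have hno3 : ∀ g ∈ C, ¬ Three g := by
    intro g hg hg3
    rcases hCK g hg (hall g hg3) with e | e
    · exact hg3.2 e
    · exact three_zero h hR hz hg3 e
  have hno4 : ∀ g ∈ C, g * g ≠ z := by
    intro g hg hg4
    obtain ⟨f, hs, hf⟩ := id hK
    obtain ⟨i, hi⟩ := hs ⟨Equiv.swap (0 : Fin 5) 1 * Equiv.swap (2 : Fin 5) 3, by
      rw [Equiv.Perm.mem_alternatingGroup, map_mul, Equiv.Perm.sign_swap (by decide), Equiv.Perm.sign_swap (by decide),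
        Int.units_mul_self]⟩
    have hi2 : (i : G) * i = z := by
      refine (hf (i * i) (by rw [map_mul, hi]; exact Subtype.ext (by decide))).resolve_left fun e => ?_
      have h0 : i = 1 ∨ (i : G) = z := (eq_one_or_neg h e hz).imp (fun e => Subtype.ext e) id
      rcases h0 with e0 | e0
      · rw [e0, map_one] at hi
        exact absurd (congrArg Subtype.val hi) (by decide)
      · have hfz : f i = 1 := by
          refine alt_five_center _ fun k _ => ?_
          obtain ⟨y, rfl⟩ := hs k
          rw [← map_mul, ← map_mul]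
          exact congrArg f (Subtype.ext (by show (i : G) * y = y * i; rw [e0]; exact central_of_neg h hz _))
        rw [hfz] at hi
        exact absurd (congrArg Subtype.val hi) (by decide)
    have hsq : g * i * (g * i) = 1 := by
      rw [show g * (i : G) * (g * i) = g * (g * i) * i by rw [mul_assoc g i, ← mul_assoc (i : G) g, ← hcomm g hg i i.2]; group,
        ← mul_assoc, hg4, mul_assoc, hi2, hzz]
    have hgK : g ∈ K := by
      rcases eq_one_or_neg h hsq hz with e | e
      · rw [mul_eq_one_iff_eq_inv.mp e]; exact K.inv_mem i.2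
      · rw [eq_mul_inv_of_mul_eq e]; exact K.mul_mem hzK (K.inv_mem i.2)
    rcases hCK g hg hgK with e | e <;> rw [e] at hg4
    · rw [one_mul] at hg4; exact ne_one_of_neg hR hz hg4.symm
    · rw [hzz] at hg4; exact ne_one_of_neg hR hz hg4.symm
  have hno5 : ∀ g ∈ C, orderOf g ≠ 5 := by
    intro g hg hg5
    obtain ⟨u, hu⟩ := exists_prime_orderOf_dvd_card' 5 h5
    let A := Subgroup.closure ({g, (u : G)} : Set G)
    have hA : ∀ a ∈ A, ∀ b ∈ A, a * b = b * a := by
      have hle : A ≤ Subgroup.centralizer (A : Set G) := by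
        rw [Subgroup.closure_le]
        have hgu : g * u = u * g := hcomm g hg u u.2
        rintro a ha
        rw [SetLike.mem_coe, show A = Subgroup.closure ({g, (u : G)} : Set G) from rfl, Subgroup.centralizer_closure]
        refine Subgroup.mem_centralizer_iff.mpr ?_
        rintro b (rfl | rfl) <;> rcases ha with rfl | rfl
        exacts [rfl, hgu, hgu.symm, rfl]
      exact fun a ha b hb => (Subgroup.mem_centralizer_iff.mp (hle ha) b hb).symm
    haveI := isCyclic_of_comm h A hA
    have h1 := mem_zpowers_of_cyclic (p := 5) (by norm_num) (g := (⟨g, Subgroup.subset_closure (Or.inl rfl)⟩ : A))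
      (u := ⟨u, Subgroup.subset_closure (Or.inr rfl)⟩)
      (Subtype.ext (by rw [SubgroupClass.coe_pow, ← hg5, pow_orderOf_eq_one]; rfl))
      (by rw [← Subgroup.orderOf_coe]; exact (Subgroup.orderOf_coe u).trans hu)
    obtain ⟨m, hm⟩ := Subgroup.mem_zpowers_iff.mp h1
    have hgK : g ∈ K := by
      rw [← show (u : G) ^ m = g from congrArg Subtype.val hm]
      exact K.zpow_mem u.2 m
    rcases hCK g hg hgK with e | e
    · rw [e, orderOf_one] at hg5; omega
    · have h2 := orderOf_dvd_of_pow_eq_one (show g ^ 2 = 1 by rw [pow_two, e, hzz])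
      rw [hg5] at h2; norm_num at h2
  -- a Sylow two-subgroup
  obtain ⟨P⟩ : Nonempty (Sylow 2 C) := inferInstance
  have hPel : ∀ g ∈ (P : Subgroup C), (g : G) = 1 ∨ (g : G) = z := by
    intro g hg
    obtain ⟨k, hk⟩ := P.isPGroup' ⟨g, hg⟩
    have hk' : (g : G) ^ 2 ^ k = 1 := congrArg (fun x : (P : Subgroup C) => ((x : C) : G)) hk
    clear hk
    induction k with
    | zero => left; rwa [pow_zero, pow_one] at hk'
    | succ k ih =>
      rw [pow_succ, pow_mul, pow_two] at hk'
      rcases eq_one_or_neg h hk' hz with e | e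
      · exact ih e
      · rcases k with _ | k
        · right; rwa [pow_zero, pow_one] at e
        · exfalso
          rw [pow_succ, pow_mul, pow_two] at e
          exact hno4 _ (C.pow_mem g.2 _) e
  let zC : C := ⟨z, hzC⟩
  have hP2 : Nat.card (P : Subgroup C) = 2 := by
    have hle : Nat.card (P : Subgroup C) ≤ 2 := by
      refine le_trans (Nat.card_le_card_of_injective (fun g : (P : Subgroup C) => decide (((g : C) : G) = 1)) ?_) ?_
      · intro a b hab
        apply Subtype.ext; apply Subtype.ext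
        rcases hPel a a.2 with ea | ea <;> rcases hPel b b.2 with eb | eb <;>
          simp_all [ne_one_of_neg hR hz]
      · simp
    have h2 : 2 ∣ Nat.card (P : Subgroup C) := by
      refine P.dvd_card_of_dvd_card ?_
      have hzC2 : orderOf zC = 2 := orderOf_eq_prime (Subtype.ext (by rw [SubgroupClass.coe_pow, pow_two]; exact hzz))
        (fun e => ne_one_of_neg hR hz (congrArg Subtype.val e))
      exact hzC2 ▸ orderOf_dvd_natCard zC
    have := Nat.le_of_dvd Nat.card_pos h2
    omega
  have hPN : Subgroup.normalizer (P : Set C) ≤ Subgroup.centralizer (P : Set C) := by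
    intro g _
    refine Subgroup.mem_centralizer_iff.mpr fun a ha => Subtype.ext ?_
    show (a : G) * g = g * a
    rcases hPel a ha with e | e <;> rw [e]
    · rw [one_mul, mul_one]
    · exact central_of_neg h hz _
  let φ := MonoidHom.transferSylow P hPN
  have hcompl := MonoidHom.ker_transferSylow_isComplement' P hPN
  have hodd : ¬ 2 ∣ Nat.card φ.ker := MonoidHom.not_dvd_card_ker_transferSylow P hPN
  have hcardC : Nat.card C = 2 * Nat.card φ.ker := by rw [← hcompl.card_mul_card, hP2, mul_comm]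
  let M := φ.ker.map C.subtype
  have hMcard : Nat.card M = Nat.card φ.ker := Subgroup.card_map_of_injective C.subtype_injective
  have hMC : M ≤ C := Subgroup.map_subtype_le _
  have hMn : M.Normal := by
    refine ⟨fun m hm g => ?_⟩
    obtain ⟨c, hc, rfl⟩ := hm
    let c' : C := ⟨g * c * g⁻¹, (inferInstance : C.Normal).conj_mem c c.2 g⟩
    refine ⟨c', ?_, rfl⟩
    have hpow : c' ^ Nat.card φ.ker = 1 := by
      apply Subtype.ext
      rw [SubgroupClass.coe_pow, show (c' : G) = g * c * g⁻¹ from rfl, conj_pow]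
      have : c ^ Nat.card φ.ker = 1 := by
        have := congrArg Subtype.val (pow_card_eq_one' (x := (⟨c, hc⟩ : φ.ker)))
        simpa only [SubgroupClass.coe_pow, OneMemClass.coe_one] using this
      rw [← SubgroupClass.coe_pow, this]; simp
    rw [SetLike.mem_coe, MonoidHom.mem_ker]
    have h1 : φ c' ^ Nat.card φ.ker = 1 := by rw [← map_pow, hpow, map_one]
    have h2 : φ c' ^ 2 = 1 := by
      have hh := pow_card_eq_one' (x := φ c')
      exact (congrArg (fun n => φ c' ^ n) hP2).symm.trans hh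
    have h3 := pow_gcd_eq_one.mpr ⟨h1, h2⟩
    rwa [Nat.Coprime.gcd_eq_one ((Nat.prime_two.coprime_iff_not_dvd.mpr hodd).symm), pow_one] at h3
  refine ⟨M, hMn, hMC, ?_, ?_, by rw [hcardC, hMcard], fun p hp P' => ?_⟩
  · rw [Subgroup.eq_bot_iff_forall]
    rintro g ⟨hgK, hgM⟩
    refine (hCK g (hMC hgM) hgK).resolve_right fun e => hodd ?_
    rw [← hMcard]
    have hg2 : orderOf g = 2 := orderOf_eq_prime (by rw [pow_two, e, hzz]) (e ▸ ne_one_of_neg hR hz)
    rw [← hg2]
    exact Subgroup.orderOf_dvd_natCard M hgM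
  · refine Nat.Coprime.symm (Nat.coprime_of_dvd fun p hp hp30 hpM => ?_)
    haveI := Fact.mk hp
    have hp30' : p ∣ 2 * 3 * 5 := hp30
    obtain ⟨g, hg⟩ := exists_prime_orderOf_dvd_card' p hpM
    have hg' : orderOf (g : G) = p := (Subgroup.orderOf_coe g).trans hg
    rcases (Nat.Prime.dvd_mul hp).mp hp30' with hh | hh
    · rcases (Nat.Prime.dvd_mul hp).mp hh with hh | hh
      · rw [(Nat.prime_dvd_prime_iff_eq hp Nat.prime_two).mp hh] at hpM
        exact hodd (hMcard ▸ hpM)
      · rw [(Nat.prime_dvd_prime_iff_eq hp Nat.prime_three).mp hh] at hg'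
        refine hno3 _ (hMC g.2) ⟨?_, fun e => by rw [e, orderOf_one] at hg'; omega⟩
        rw [← pow_two, ← pow_succ', ← pow_orderOf_eq_one (g : G), hg']
    · rw [(Nat.prime_dvd_prime_iff_eq hp Nat.prime_five).mp hh] at hg'
      exact hno5 _ (hMC g.2) hg'
  · rcases sylow_cases h M P' with hc | ⟨rfl, k, ⟨i⟩⟩
    · exact hc
    · exfalso
      refine hodd (hMcard ▸ Dvd.dvd.trans ?_ (Subgroup.card_subgroup_dvd_card (P' : Subgroup M)))
      rw [Nat.card_congr i.toEquiv, Nat.card_eq_fintype_card, QuaternionGroup.card]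
      omega

set_option maxHeartbeats 1000000 in
/-- An action on five points whose kernel is the centraliser of the icosahedral group. -/
theorem exists_perm_five {K : Subgroup G} [K.Normal] (hK : IsFive z K)
    (hgen : K = Subgroup.closure {x | Three x}) :
    ∃ φ : G →* Equiv.Perm (Fin 5), φ.ker = Subgroup.centralizer (K : Set G) := by
  classical
  haveI : Fact (Nat.Prime 2) := ⟨Nat.prime_two⟩
  have hzK := five_z_mem h hR hz hK
  obtain ⟨f, hs, hf⟩ := id hK
  let V4 : Subgroup (alternatingGroup (Fin 5)) :=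
    { carrier := {v | v.1 4 = 4 ∧ v.1 * v.1 = 1}
      one_mem' := ⟨rfl, one_mul _⟩
      mul_mem' := fun {a b} ha hb => perm_five_fours a.1 a.2 ha.1 ha.2 b.1 b.2 hb.1 hb.2
      inv_mem' := fun {a} ha => by
        have e : a⁻¹ = a := inv_eq_of_mul_eq_one_right (Subtype.ext ha.2)
        rw [e]; exact ha }
  let Q : Subgroup G := (V4.comap f).map K.subtype
  set N := Subgroup.normalizer (Q : Set G) with hN
  have hQmem : ∀ k : K, (k : G) ∈ Q ↔ f k ∈ V4 := fun k => by
    refine ⟨?_, fun hk => ⟨k, hk, rfl⟩⟩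
    rintro ⟨k', hk', e⟩
    rwa [← Subtype.ext e]
  have hNK : ∀ k : K, (k : G) ∈ N ↔ (f k).1 4 = 4 := by
    intro k
    constructor
    · intro hk
      refine perm_five_norm _ (f k).2 fun v hv hv4 hvv => ?_
      obtain ⟨q, hq⟩ := hs ⟨v, hv⟩
      have hqQ : (q : G) ∈ Q := (hQmem q).mpr (by rw [hq]; exact ⟨hv4, hvv⟩)
      have h1 := (hQmem (k * q * k⁻¹)).mp ((Subgroup.mem_normalizer_iff.mp hk q).mp hqQ)
      have h2 := h1.1
      simp only [map_mul, map_inv, hq, Subgroup.coe_mul, Subgroup.coe_inv] at h2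
      exact h2
    · intro hk
      refine Subgroup.mem_normalizer_iff.mpr fun x => ?_
      have hfix : ∀ k : K, (f k).1 4 = 4 → ∀ x ∈ Q, (k : G) * x * (k : G)⁻¹ ∈ Q := by
        rintro k hk x ⟨q, hq, rfl⟩
        refine (hQmem (k * q * k⁻¹)).mpr ⟨?_, ?_⟩
        · simp only [map_mul, map_inv, Subgroup.coe_mul, Subgroup.coe_inv]
          exact perm_five_norm' _ (f k).2 hk _ (f q).2 hq.1 hq.2
        · simp only [map_mul, map_inv, Subgroup.coe_mul, Subgroup.coe_inv]
          calc (f k).1 * (f q).1 * (f k).1⁻¹ * ((f k).1 * (f q).1 * (f k).1⁻¹)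
              = (f k).1 * ((f q).1 * (f q).1) * (f k).1⁻¹ := by group
            _ = 1 := by rw [hq.2, mul_one, mul_inv_cancel]
      refine ⟨hfix k hk x, fun hx => ?_⟩
      have hk' : (f k⁻¹).1 4 = 4 := by
        rw [map_inv, Subgroup.coe_inv, Equiv.Perm.inv_eq_iff_eq, hk]
      have := hfix k⁻¹ hk' _ hx
      simpa [mul_assoc] using this
  -- every coset meets the normal subgroup
  have hfrat : ∀ g : G, ∃ k : K, (k : G)⁻¹ * g ∈ N := by
    have hP : IsPGroup 2 (V4.comap f) := by
      intro x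
      refine ⟨2, ?_⟩
      apply Subtype.ext
      have h1 : f ((x : K) ^ 2) = 1 := by rw [map_pow, pow_two]; exact Subtype.ext x.2.2
      rw [SubgroupClass.coe_pow, show 2 ^ 2 = 2 * 2 from rfl, pow_mul]
      rcases hf _ h1 with e | e
      · rw [show (x : K) ^ 2 = 1 from Subtype.ext e]; simp
      · apply Subtype.ext
        rw [SubgroupClass.coe_pow, e, pow_two, sq_of_neg h hz]; rfl
    obtain ⟨P, hP'⟩ := hP.exists_le_sylow
    have hPV : (P : Subgroup K) = V4.comap f := by
      refine le_antisymm (fun x hx => ?_) hP'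
      -- all two-elements normalising the fours group fix the point
      have hfp : ∀ y ∈ (P : Subgroup K), (f y).1 * (f y).1 = 1 := by
        intro y hy
        obtain ⟨j, hj⟩ := P.isPGroup' ⟨y, hy⟩
        have hj' : (f y) ^ 2 ^ j = 1 := by
          rw [← map_pow, show y ^ 2 ^ j = 1 from congrArg Subtype.val hj, map_one]
        have h4 : (f y) ^ 4 = 1 := by
          have hd : orderOf (f y) ∣ 2 ^ j := orderOf_dvd_of_pow_eq_one hj'
          have hd60 : orderOf (f y) ∣ 60 := by
            have := orderOf_dvd_natCard (f y)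
            rwa [nat_card_alternatingGroup, Nat.card_fin] at this
          have hd4 := Nat.dvd_gcd hd hd60
          refine orderOf_dvd_iff_pow_eq_one.mp (hd4.trans ?_)
          rcases j with _ | _ | j
          · simp
          · norm_num
          · have : Nat.gcd (2 ^ (j + 1 + 1)) 60 = 4 * Nat.gcd (2 ^ j) 15 := by
              rw [show 2 ^ (j + 1 + 1) = 4 * 2 ^ j by ring, show 60 = 4 * 15 from rfl, Nat.gcd_mul_left]
            rw [this, Nat.Coprime.gcd_eq_one (Nat.Coprime.pow_left j (by norm_num))]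
        exact congrArg Subtype.val (alt_five_two _ h4)
      refine ⟨?_, hfp x hx⟩
      refine perm_five_norm _ (f x).2 fun v hv hv4 hvv => ?_
      obtain ⟨q, hq⟩ := hs ⟨v, hv⟩
      have hqP : q ∈ (P : Subgroup K) := hP' (show f q ∈ V4 by rw [hq]; exact ⟨hv4, hvv⟩)
      have hv' : (f x).1 * v = v * (f x).1 := by
        have h1 := hfp (x * q) (P.toSubgroup.mul_mem hx hqP)
        rw [map_mul, hq, Subgroup.coe_mul] at h1
        have h2 := hfp x hx
        calc (f x).1 * v = (f x).1 * v * (((f x).1 * (f x).1) * (v * v)) := by rw [h2, hvv, one_mul, mul_one]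
          _ = ((f x).1 * v * ((f x).1 * v)) * (v * (f x).1) := by
            rw [show ((f x).1 * v * ((f x).1 * v)) * (v * (f x).1) = (f x).1 * v * ((f x).1 * ((v * v) * (f x).1)) by group,
              show (f x).1 * v * (((f x).1 * (f x).1) * (v * v)) = (f x).1 * v * ((f x).1 * ((f x).1 * (v * v))) by group,
              hvv, mul_one, one_mul]
          _ = v * (f x).1 := by rw [h1, one_mul]
      rw [hv', mul_assoc, mul_inv_cancel, mul_one]
      exact hv4
    intro g
    have htop := Sylow.normalizer_sup_eq_top P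
    rw [hPV] at htop
    have hg : g ∈ K ⊔ N := by rw [sup_comm]; exact htop.symm ▸ Subgroup.mem_top g
    obtain ⟨k, hk, m, hm, rfl⟩ := Subgroup.mem_sup_of_normal_left.mp hg
    exact ⟨⟨k, hk⟩, by simpa using hm⟩
  have hindex : N.index ≤ 5 := by
    have hex : ∀ i : Fin 5, ∃ k : K, (f k).1 4 = i := fun i => by
      obtain ⟨a, ha, hai⟩ := perm_five_move i
      obtain ⟨k, hk⟩ := hs ⟨a, ha⟩
      exact ⟨k, by rw [hk]; exact hai⟩
    choose kf hkf using hex
    rw [Subgroup.index_eq_card]
    refine le_trans (Nat.card_le_card_of_surjective (fun i => ((kf i : G) : G ⧸ N)) ?_) (le_of_eq (Nat.card_fin 5))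
    intro q
    obtain ⟨g, rfl⟩ := QuotientGroup.mk_surjective q
    obtain ⟨k, hk⟩ := hfrat g
    refine ⟨(f k).1 4, QuotientGroup.eq.mpr ?_⟩
    have h1 : ((kf ((f k).1 4))⁻¹ * k : K).1 ∈ N := (hNK _).mpr (by
      rw [map_mul, map_inv, Subgroup.coe_mul, Subgroup.coe_inv, Equiv.Perm.mul_apply, Equiv.Perm.inv_eq_iff_eq]
      exact (hkf _).symm)
    have := N.mul_mem h1 hk
    simpa [mul_assoc] using this
  let φ := MulAction.toPermHom G (G ⧸ N)
  have hker : φ.ker ≤ Subgroup.centralizer (K : Set G) := by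
    have hLN : φ.ker ≤ N := by
      intro l hl
      have := DFunLike.congr_fun (MonoidHom.mem_ker.mp hl) ((1 : G) : G ⧸ N)
      have h1 : ((l : G) : G ⧸ N) = ((1 : G) : G ⧸ N) := by simpa [φ] using this
      simpa using N.inv_mem (QuotientGroup.eq.mp h1)
    intro l hl
    rw [hgen, Subgroup.centralizer_closure, Subgroup.mem_centralizer_iff]
    intro x hx
    have hxK : x ∈ K := by rw [hgen]; exact Subgroup.subset_closure hx
    set c := l * x * l⁻¹ * x⁻¹ with hc
    have hcK : c ∈ K := K.mul_mem ((inferInstance : K.Normal).conj_mem x hxK l) (K.inv_mem hxK)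
    have hcL : c ∈ φ.ker := by
      rw [hc, show l * x * l⁻¹ * x⁻¹ = l * (x * l⁻¹ * x⁻¹) by group]
      exact φ.ker.mul_mem hl ((inferInstance : φ.ker.Normal).conj_mem _ (φ.ker.inv_mem hl) x)
    have hc1 : f ⟨c, hcK⟩ = 1 := by
      refine Subtype.ext (perm_five_core _ (f ⟨c, hcK⟩).2 fun a ha => ?_)
      obtain ⟨k, hk⟩ := hs ⟨a, ha⟩
      have h1 : ((k * ⟨c, hcK⟩ * k⁻¹ : K) : G) ∈ N := hLN ((inferInstance : φ.ker.Normal).conj_mem c hcL k)
      have h2 := (hNK _).mp h1
      simp only [map_mul, map_inv, hk, Subgroup.coe_mul, Subgroup.coe_inv] at h2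
      exact h2
    rcases hf _ hc1 with e | e
    · exact (mul_inv_eq_iff_eq_mul.mp (mul_inv_eq_one.mp (show l * x * l⁻¹ * x⁻¹ = 1 from e))).symm
    · exfalso
      have e' : l * x * l⁻¹ = z * x := mul_inv_eq_iff_eq_mul.mp (show l * x * l⁻¹ * x⁻¹ = z from e)
      have h3 : Three (z * x) := e' ▸ (show Three x from hx).conj l
      have hl' : ∀ w : G, x * (z * w) = z * (x * w) := fun w => by rw [← mul_assoc, ← central_of_neg h hz, mul_assoc]
      have h4 := h3.1
      rw [show z * x * (z * x * (z * x)) = z * (z * (z * (x * (x * x)))) by simp only [mul_assoc, hl'],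
        (show Three x from hx).1, mul_one, sq_of_neg h hz, mul_one] at h4
      exact ne_one_of_neg hR hz h4
  have hCN : Subgroup.centralizer (K : Set G) ≤ φ.ker := by
    intro c hc
    refine MonoidHom.mem_ker.mpr (Equiv.ext fun q => ?_)
    obtain ⟨g, rfl⟩ := QuotientGroup.mk_surjective q
    show ((c * g : G) : G ⧸ N) = (g : G ⧸ N)
    refine QuotientGroup.eq.mpr ?_
    rw [mul_inv_rev, mul_assoc]
    have hd : g⁻¹ * (c⁻¹ * g) ∈ Subgroup.centralizer (K : Set G) := by
      have := (inferInstance : (Subgroup.centralizer (K : Set G)).Normal).conj_mem _ (inv_mem hc) g⁻¹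
      rwa [inv_inv, mul_assoc] at this
    refine Subgroup.mem_normalizer_iff.mpr fun x => ?_
    have hfix : ∀ y ∈ Q, g⁻¹ * (c⁻¹ * g) * y * (g⁻¹ * (c⁻¹ * g))⁻¹ = y := fun y hy =>
      mul_inv_eq_iff_eq_mul.mpr (Subgroup.mem_centralizer_iff.mp hd y (Subgroup.map_subtype_le _ hy)).symm
    refine ⟨fun hx => by rw [hfix x hx]; exact hx, fun hx => ?_⟩
    have h1 := hfix _ hx
    have h2 : x = g⁻¹ * (c⁻¹ * g) * x * (g⁻¹ * (c⁻¹ * g))⁻¹ := by
      set d := g⁻¹ * (c⁻¹ * g)
      calc x = d⁻¹ * (d * x * d⁻¹) * d := by group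
        _ = d⁻¹ * (d * (d * x * d⁻¹) * d⁻¹) * d := by rw [h1]
        _ = d * x * d⁻¹ := by group
    rw [h2]; exact hx
  haveI : Fintype (G ⧸ N) := Fintype.ofFinite _
  have hc5 : Fintype.card (G ⧸ N) ≤ Fintype.card (Fin 5) := by
    rw [← Nat.card_eq_fintype_card, Fintype.card_fin, ← Subgroup.index_eq_card]; exact hindex
  obtain ⟨ι⟩ := Function.Embedding.nonempty_of_card_le hc5
  refine ⟨(Equiv.Perm.viaEmbeddingHom ι).comp φ, ?_⟩
  rw [← MonoidHom.comap_ker, (MonoidHom.ker_eq_bot_iff _).mpr (Equiv.Perm.viaEmbeddingHom_injective ι), MonoidHom.comap_bot]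
  exact le_antisymm hker hCN

/-- The order of the group divides that of the icosahedral group times its centraliser. -/
theorem card_dvd_five {K : Subgroup G} [K.Normal] (hK : IsFive z K)
    (hgen : K = Subgroup.closure {x | Three x}) :
    Nat.card G ∣ 120 * Nat.card (Subgroup.centralizer (K : Set G)) := by
  obtain ⟨φ, hφ⟩ := exists_perm_five h hR hz hK hgen
  rw [← hφ, ← φ.ker.card_mul_index, mul_comm]
  refine Nat.mul_dvd_mul_right ?_ _
  rw [Subgroup.index_ker]
  refine (Subgroup.card_subgroup_dvd_card _).trans ?_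
  rw [Nat.card_perm, Nat.card_fin]
  decide

/-- The icosahedral normal subgroup. -/
theorem exists_five_normal (hns : ¬ Group.IsSolvable G) :
    ∃ K : Subgroup G, K.Normal ∧ IsFive z K ∧ (∀ g, Three g → g ∈ K) ∧ K = Subgroup.closure {x | Three x} ∧
      Nonempty (Cover K) := by
  obtain ⟨x, y, hx, hy, hK⟩ := exists_five h hR hz hns
  set K := Subgroup.closure ({x, y} : Set G) with hKdef
  have hzK := five_z_mem h hR hz hK
  have hall : ∀ g, Three g → g ∈ K := fun g hg =>
    five_contains h hR hz hK hzK hx (Subgroup.subset_closure (Or.inl rfl)) hg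
  have hgen : K = Subgroup.closure {g | Three g} := by
    refine le_antisymm (Subgroup.closure_mono ?_) ((Subgroup.closure_le _).mpr hall)
    rintro g (rfl | rfl) <;> assumption
  have hKn : K.Normal := by
    refine ⟨fun k hk g => ?_⟩
    have hle : K.map (MulAut.conj g).toMonoidHom ≤ K := by
      conv_lhs => rw [hgen]
      rw [MonoidHom.map_closure, Subgroup.closure_le]
      rintro _ ⟨a, ha, rfl⟩
      exact hall _ ((show Three a from ha).conj g)
    exact hle ⟨k, hk, rfl⟩
  haveI := hKn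
  obtain ⟨f, hs, hf⟩ := id hK
  refine ⟨K, hKn, hK, hall, hgen, ⟨?_⟩⟩
  exact
    { f := f
      surj := hs
      z := ⟨z, hzK⟩
      z_ne := fun e => ne_one_of_neg hR hz (congrArg Subtype.val e)
      z_sq := Subtype.ext (sq_of_neg h hz)
      central := fun g => Subtype.ext (central_of_neg h hz _)
      ker := fun g hg => (hf g hg).imp (fun e => Subtype.ext e) (fun e => Subtype.ext e)
      invol := fun g hg => (eq_one_or_neg h (congrArg Subtype.val hg) hz).imp (fun e => Subtype.ext e) (fun e => Subtype.ext e)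
      gen := by
        rw [eq_top_iff]
        rintro ⟨g, hg⟩ -
        induction hg using Subgroup.closure_induction with
        | mem p hp =>
          refine Subgroup.subset_closure ?_
          rcases hp with rfl | rfl
          exacts [Subtype.ext hx.1, Subtype.ext hy.1]
        | one => exact Subgroup.one_mem _
        | mul p q _ _ hp hq => exact Subgroup.mul_mem _ hp hq
        | inv p _ hp => exact Subgroup.inv_mem _ hp }

/-- The structure theorem. -/
theorem structure_of_neg (hns : ¬ Group.IsSolvable G) :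
    ∃ K M : Subgroup G, K.Normal ∧ M.Normal ∧ Nonempty (Cover K) ∧ (∀ s ∈ K, ∀ x ∈ M, s * x = x * s) ∧
      K ⊓ M = ⊥ ∧ (Nat.card M).Coprime 30 ∧ (∀ (p : ℕ) [Fact p.Prime] (P : Sylow p M), IsCyclic P) ∧
      ((K ⊔ M).index = 1 ∨ (K ⊔ M).index = 2) := by
  obtain ⟨K, hKn, hK, hall, hgen, ⟨c⟩⟩ := exists_five_normal h hR hz hns
  haveI := hKn
  have hKcard : Nat.card K = 120 := c.card
  obtain ⟨M, hMn, hMC, hKM, h30, hC, hsyl⟩ := centralizer_five h hR hz hK hall (by rw [hKcard]; norm_num)
  refine ⟨K, M, hKn, hMn, ⟨c⟩, fun s hs' m hm => (Subgroup.mem_centralizer_iff.mp (hMC hm) s hs'), hKM, h30, hsyl, ?_⟩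
  have hd := card_dvd_five h hR hz hK hgen
  rw [hC, ← (K ⊔ M).card_mul_index] at hd
  have h120 : 120 * Nat.card M ∣ Nat.card (K ⊔ M : Subgroup G) := by
    refine Nat.Coprime.mul_dvd_of_dvd_of_dvd ?_ (hKcard ▸ Subgroup.card_dvd_of_le le_sup_left)
      (Subgroup.card_dvd_of_le le_sup_right)
    have h2 : (Nat.card M).Coprime 2 := h30.coprime_dvd_right (by norm_num)
    have h3 : (Nat.card M).Coprime 3 := h30.coprime_dvd_right (by norm_num)
    have h5 : (Nat.card M).Coprime 5 := h30.coprime_dvd_right (by norm_num)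
    rw [show (120 : ℕ) = 2 ^ 3 * 3 * 5 by norm_num]
    exact (((h2.pow_right 3).mul_right h3).mul_right h5).symm
  obtain ⟨t, ht⟩ := h120
  rw [ht, show 120 * (2 * Nat.card M) = 120 * Nat.card M * 2 by ring, mul_assoc] at hd
  have h2 := (Nat.mul_dvd_mul_iff_left (Nat.mul_pos (by norm_num) Nat.card_pos)).mp hd
  exact (Nat.dvd_prime Nat.prime_two).mp (dvd_trans (dvd_mul_left _ _) h2)

omit hR hz in
/-- Nonsolvable fixed-point-free groups. -/
theorem structure_of_rep (hns : ¬ Group.IsSolvable G) :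
    ∃ K M : Subgroup G, K.Normal ∧ M.Normal ∧ Nonempty (Cover K) ∧ (∀ s ∈ K, ∀ x ∈ M, s * x = x * s) ∧
      K ⊓ M = ⊥ ∧ (Nat.card M).Coprime 30 ∧ (∀ (p : ℕ) [Fact p.Prime] (P : Sylow p M), IsCyclic P) ∧
      ((K ⊔ M).index = 1 ∨ (K ⊔ M).index = 2) := by
  obtain ⟨h2, -, hR⟩ := noTorsion_of_nonsolvable h hns
  obtain ⟨z, hz⟩ := exists_center_neg h h2
  exact structure_of_neg h hR hz hns

end CfsgLib.Recognition.Zassenhaus
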