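import Mathlib
import Cfsg.Agent.Lib.Recognition.Zassenhaus.Structure
import Cfsg.Agent.Lib.Classical.SL2Tori
import Cfsg.Agent.S3374

/-!
The icosahedral group as a special linear group.
-/

set_option linter.style.haveILetI false
set_option linter.unusedSectionVars false

namespace CfsgLib.Recognition.Zassenhaus

local notation "L25" => Matrix.SpecialLinearGroup (Fin 2) (ZMod 5)

open scoped commutatorElement

theorem sl25_not_solvable : ¬ Group.IsSolvable L25 := by
  rintro ⟨n, hn⟩
  let t : L25 := ⟨!![1, 1; 0, 1], by decide +kernel⟩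
  let u : L25 := ⟨!![1, 0; 1, 1], by decide +kernel⟩
  let g : L25 := ⟨!![2, 0; 0, 3], by decide +kernel⟩
  have hg : g = t * u * t ^ 2 * u ^ 3 := Subtype.ext (by decide +kernel)
  have ht : t = ⁅g, t ^ 2⁆ := Subtype.ext (by decide +kernel)
  have hu : u = ⁅g, u ^ 2⁆ := Subtype.ext (by decide +kernel)
  have key : ∀ k, t ∈ derivedSeries L25 k ∧ u ∈ derivedSeries L25 k := by
    intro k
    induction k with
    | zero => exact ⟨trivial, trivial⟩
    | succ k ih =>
      have hgk : g ∈ derivedSeries L25 k := by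
        rw [hg]
        exact Subgroup.mul_mem _ (Subgroup.mul_mem _ (Subgroup.mul_mem _ ih.1 ih.2) (Subgroup.pow_mem _ ih.1 _))
          (Subgroup.pow_mem _ ih.2 _)
      rw [derivedSeries_succ]
      exact ⟨ht ▸ Subgroup.commutator_mem_commutator hgk (Subgroup.pow_mem _ ih.1 2),
        hu ▸ Subgroup.commutator_mem_commutator hgk (Subgroup.pow_mem _ ih.2 2)⟩
  have h1 := (key n).1
  rw [hn, Subgroup.mem_bot] at h1
  exact absurd (congrArg Subtype.val h1) (by decide +kernel)

/-- The special linear group of degree two over five elements is a cover. -/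
theorem exists_cover_sl25 : Nonempty (Cover L25) := by
  obtain ⟨L, _, _, H, hH, ⟨e⟩⟩ := Cfsg.Agent.S3374.result
  haveI : Fact (Nat.Prime 5) := ⟨Nat.prime_five⟩
  have hcard : Nat.card L25 = 120 := by
    rw [CfsgLib.Classical.card_sl2', ZMod.card]
  have h2 : 2 ∣ Nat.card H := by rw [Nat.card_congr e.toEquiv, hcard]; norm_num
  obtain ⟨r, _, V, _, _, _, _, ρ, hρ⟩ := exists_rep hH h2 e.symm
  obtain ⟨K, M, -, -, ⟨c⟩, -⟩ := structure_of_rep hρ sl25_not_solvable
  have hK : K = ⊤ := Subgroup.eq_top_of_card_eq K (by rw [c.card, hcard])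
  subst hK
  let e' : (⊤ : Subgroup L25) ≃* L25 := Subgroup.topEquiv
  exact ⟨{
    f := c.f.comp e'.symm.toMonoidHom
    surj := c.surj.comp e'.symm.surjective
    z := e' c.z
    z_ne := fun h => c.z_ne (e'.injective (by rw [h, map_one]))
    z_sq := by rw [← map_mul, c.z_sq, map_one]
    central := fun g => e'.symm.injective (by rw [map_mul, map_mul, e'.symm_apply_apply, c.central])
    ker := fun g hg => (c.ker (e'.symm g) hg).imp (fun h => by rw [← e'.apply_symm_apply g, h, map_one])
      (fun h => by rw [← e'.apply_symm_apply g, h])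
    invol := fun g hg => (c.invol (e'.symm g) (by rw [← map_mul, hg, map_one])).imp
      (fun h => by rw [← e'.apply_symm_apply g, h, map_one]) (fun h => by rw [← e'.apply_symm_apply g, h])
    gen := by
      rw [eq_top_iff, ← Subgroup.map_top_of_surjective e'.toMonoidHom e'.surjective, ← c.gen, MonoidHom.map_closure]
      refine Subgroup.closure_mono ?_
      rintro _ ⟨a, ha, rfl⟩
      show e' a * (e' a * e' a) = 1
      rw [← map_mul, ← map_mul, show a * (a * a) = 1 from ha, map_one] }⟩

/-- An icosahedral cover is the special linear group. -/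
theorem Cover.equiv_sl25 {K : Type*} [Group K] [Finite K] (c : Cover K) : Nonempty (K ≃* L25) := by
  obtain ⟨d⟩ := exists_cover_sl25
  exact c.nonempty_equiv d

/-- Nonsolvable Frobenius complements. -/
theorem frobenius_structure {G : Type*} [Group G] [Finite G] (hns : ¬ Group.IsSolvable G) {L : Type} [Group L]
    [Finite L] {H : Subgroup L} (hH : Cfsg.IsFrobeniusComplement H) (e : G ≃* H) :
    ∃ K M : Subgroup G, K.Normal ∧ M.Normal ∧ Nonempty (K ≃* L25) ∧ (∀ s ∈ K, ∀ x ∈ M, s * x = x * s) ∧
      K ⊓ M = ⊥ ∧ (Nat.card M).Coprime 30 ∧ (∀ (p : ℕ) [Fact p.Prime] (P : Sylow p M), IsCyclic P) ∧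
      ((K ⊔ M).index = 1 ∨ (K ⊔ M).index = 2) := by
  have h2 : 2 ∣ Nat.card H := by
    by_contra h2
    haveI := CfsgLib.FrobRealize.Conjugate.isSolvable_of_odd hH h2
    exact hns (Group.isSolvable_of_surjective (f := e.symm.toMonoidHom) e.symm.surjective)
  obtain ⟨r, _, V, _, _, _, _, ρ, hρ⟩ := exists_rep hH h2 e
  obtain ⟨K, M, hK, hM, ⟨c⟩, rest⟩ := structure_of_rep hρ hns
  exact ⟨K, M, hK, hM, c.equiv_sl25, rest⟩

/-- A perfect Frobenius complement is the special linear group. -/
theorem perfect_frobenius {G : Type*} [Group G] [Finite G] [Nontrivial G] (hperf : commutator G = ⊤) {L : Type}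
    [Group L] [Finite L] {H : Subgroup L} (hH : Cfsg.IsFrobeniusComplement H) (e : G ≃* H) :
    Nonempty (G ≃* L25) := by
  have hR : ⁅(⊤ : Subgroup G), ⊤⁆ = ⊤ := hperf
  have hns : ¬ Group.IsSolvable G := by
    intro hs
    obtain ⟨g, hg⟩ := exists_ne (1 : G)
    exact hg (perfect_killed (hS := hs) hR (Subgroup.topEquiv (G := G)).toMonoidHom ⟨g, trivial⟩)
  obtain ⟨K, M, hK, hM, ⟨i⟩, -, -, -, hsyl, hidx⟩ := frobenius_structure hns hH e
  haveI := hK
  haveI := hM
  haveI : IsZGroup M := ⟨fun p hp P => by haveI := Fact.mk hp; exact hsyl p P⟩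
  have hsol : Group.IsSolvable (G ⧸ K) := by
    let N := (K ⊔ M).map (QuotientGroup.mk' K)
    haveI : N.Normal := Subgroup.Normal.map inferInstance _ (QuotientGroup.mk'_surjective K)
    haveI : Group.IsSolvable N := by
      let f : M →* N :=
        ((QuotientGroup.mk' K).comp M.subtype).codRestrict N (fun m => ⟨m, Subgroup.mem_sup_right m.2, rfl⟩)
      refine Group.isSolvable_of_surjective (f := f) ?_
      rintro ⟨_, x, hx, rfl⟩
      obtain ⟨k, hk, m, hm, rfl⟩ := Subgroup.mem_sup_of_normal_left.mp hx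
      exact ⟨⟨m, hm⟩, Subtype.ext (by
        show QuotientGroup.mk' K m = QuotientGroup.mk' K (k * m)
        rw [map_mul, (QuotientGroup.eq_one_iff k).mpr hk |> (fun h => show QuotientGroup.mk' K k = 1 from h), one_mul])⟩
    have hc : Nat.card ((G ⧸ K) ⧸ N) = 1 ∨ Nat.card ((G ⧸ K) ⧸ N) = 2 := by
      rwa [← Subgroup.index_eq_card, Subgroup.index_map, MonoidHom.range_eq_top.mpr (QuotientGroup.mk'_surjective K),
        Subgroup.index_top, mul_one, QuotientGroup.ker_mk', sup_of_le_left le_sup_left]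
    haveI : Group.IsSolvable ((G ⧸ K) ⧸ N) := by
      rcases hc with hc | hc
      · haveI := (Nat.card_eq_one_iff_unique.mp hc).1
        infer_instance
      · haveI : Fact (Nat.Prime 2) := ⟨Nat.prime_two⟩
        haveI := (IsPGroup.of_card (n := 1) (by rw [hc, pow_one]) : IsPGroup 2 ((G ⧸ K) ⧸ N)).isNilpotent
        infer_instance
    exact Group.isSolvable_of_ker_le_range N.subtype (QuotientGroup.mk' N)
      (by rw [QuotientGroup.ker_mk', Subgroup.range_subtype])
  have hKtop : K = ⊤ := by
    rw [eq_top_iff]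
    intro g _
    have := perfect_killed hR ((QuotientGroup.mk' K).comp Subgroup.topEquiv.toMonoidHom) ⟨g, trivial⟩
    exact (QuotientGroup.eq_one_iff g).mp this
  subst hKtop
  exact ⟨(Subgroup.topEquiv (G := G)).symm.trans i⟩

end CfsgLib.Recognition.Zassenhaus
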