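import Mathlib
import Cfsg.Agent.Lib.Recognition.Zassenhaus.SL25
import Cfsg.Agent.S0144
import Cfsg.Agent.S3669
import Cfsg.Agent.S0494

/-!
Nonsolvable groups of order 120 with quaternion Sylow subgroup.
-/

set_option linter.style.haveILetI false
set_option linter.unusedSectionVars false

namespace CfsgLib.Recognition.Zassenhaus

theorem small_solvable {G : Type*} [Group G] [Finite G] (h : Nat.card G ∣ 120) (h60 : Nat.card G ≠ 60)
    (h120 : Nat.card G ≠ 120) : Group.IsSolvable G := by
  have hmem : Nat.card G ∈ Nat.divisors 120 := Nat.mem_divisors.mpr ⟨h, by norm_num⟩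
  generalize hn : Nat.card G = n at *
  have key : ∀ k ∈ Nat.divisors 120, k = 30 ∨ k = 60 ∨ k = 120 ∨ ∃ a ∈ Finset.range 4, ∃ b ∈ Finset.range 2,
      k = 2 ^ a * 3 ^ b ∨ k = 2 ^ a * 5 ^ b ∨ k = 3 ^ b * 5 ^ b := by decide +kernel
  rcases key n hmem with rfl | rfl | rfl | ⟨a, -, b, -, e | e | e⟩
  · haveI : IsZGroup G := IsZGroup.of_squarefree (by rw [hn]; decide +kernel)
    infer_instance
  · exact absurd rfl h60
  · exact absurd rfl h120
  · exact Cfsg.Agent.S0144.isSolvable 2 3 Nat.prime_two Nat.prime_three _ G rfl a b (hn.trans e)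
  · exact Cfsg.Agent.S0144.isSolvable 2 5 Nat.prime_two Nat.prime_five _ G rfl a b (hn.trans e)
  · exact Cfsg.Agent.S0144.isSolvable 3 5 Nat.prime_three Nat.prime_five _ G rfl b b (hn.trans e)

/-- The cover structure. -/
theorem exists_cover_one_twenty {G : Type*} [Group G] [Finite G] (hcard : Nat.card G = 120) (hns : ¬ Group.IsSolvable G)
    (hQ : ∀ P : Sylow 2 G, Nonempty ((P : Subgroup G) ≃* QuaternionGroup 2)) : Nonempty (Cover G) := by
  classical
  haveI : Fact (Nat.Prime 2) := ⟨Nat.prime_two⟩
  haveI : Fact (Nat.Prime 5) := ⟨Nat.prime_five⟩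
  -- perfect
  obtain ⟨R, hR1, hRR⟩ := exists_perfect hns
  have hRns : ¬ Group.IsSolvable R := fun hs => hR1 ((Subgroup.eq_bot_iff_forall _).mpr fun g hg =>
    congrArg Subtype.val (perfect_killed (hS := hs) hRR (MonoidHom.id R) ⟨g, hg⟩))
  have hRd : Nat.card R ∣ 120 := hcard ▸ Subgroup.card_subgroup_dvd_card R
  have hRtop : R = ⊤ := by
    refine Subgroup.eq_top_of_card_eq R ?_
    rw [hcard]
    by_contra hne
    have h60 : Nat.card R = 60 := by
      by_contra h60
      exact hRns (small_solvable hRd h60 hne)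
    -- a cyclic Sylow two-subgroup
    obtain ⟨P⟩ : Nonempty (Sylow 2 R) := inferInstance
    have hP4 : Nat.card (P : Subgroup R) = 4 := by
      rw [P.card_eq_multiplicity, h60]; decide +kernel
    obtain ⟨P', hP'⟩ := (P.isPGroup'.map R.subtype).exists_le_sylow
    obtain ⟨e⟩ := hQ P'
    have hcyc : IsCyclic (P : Subgroup R) := by
      let θ : (P : Subgroup R) →* QuaternionGroup 2 := e.toMonoidHom.comp
        ((R.subtype.comp (P : Subgroup R).subtype).codRestrict (P' : Subgroup G)
          (fun p => hP' (Subgroup.mem_map_of_mem R.subtype p.2)))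
      have hθ : Function.Injective θ := fun a b hab =>
        Subtype.ext (Subtype.ext (congrArg (fun x : (P' : Subgroup G) => (x : G)) (e.injective hab)))
      by_contra hnc
      have hexp : ∀ x : (P : Subgroup R), x * x = 1 := by
        intro x
        by_contra hx
        apply hnc
        have h4 : orderOf x = 4 := by
          have hd : orderOf x ∣ 2 ^ 2 := by rw [show 2 ^ 2 = 4 from rfl, ← hP4]; exact orderOf_dvd_natCard x
          obtain ⟨i, hi, hxi⟩ := (Nat.dvd_prime_pow Nat.prime_two).mp hd
          interval_cases i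
          · exact absurd (show x * x = 1 by rw [orderOf_eq_one_iff.mp (hxi.trans (pow_zero 2)), mul_one]) hx
          · exact absurd (show x * x = 1 from (pow_two x).symm.trans (orderOf_dvd_iff_pow_eq_one.mp (hxi.trans (pow_one 2)).dvd)) hx
          · exact hxi
        exact isCyclic_of_orderOf_eq_card x (h4.trans hP4.symm)
      have hinv : ∀ q : QuaternionGroup 2, q * q = 1 → q = 1 ∨ q = QuaternionGroup.a 2 := by decide +kernel
      haveI : Fintype (P : Subgroup R) := Fintype.ofFinite _
      have h2 : Nat.card (P : Subgroup R) ≤ Nat.card Bool := by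
        refine Nat.card_le_card_of_injective (fun x : (P : Subgroup R) => decide (θ x = 1)) fun a b hab => hθ ?_
        have ha := hinv (θ a) (by rw [← map_mul, hexp, map_one])
        have hb := hinv (θ b) (by rw [← map_mul, hexp, map_one])
        rcases ha with ha | ha <;> rcases hb with hb | hb <;> simp_all
      rw [hP4] at h2
      simp at h2
    have hPN : Subgroup.normalizer (P : Set R) ≤ Subgroup.centralizer (P : Set R) :=
      hcyc.normalizer_le_centralizer ((Nat.minFac_eq_two_iff _).mpr (by rw [h60]; norm_num))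
    have hcompl := MonoidHom.ker_transferSylow_isComplement' P hPN
    apply hRns
    haveI : Group.IsSolvable (MonoidHom.transferSylow P hPN).ker := by
      have hc := hcompl.card_mul_card
      rw [hP4, h60] at hc
      exact small_solvable (by rw [show Nat.card (MonoidHom.transferSylow P hPN).ker = 15 by omega]; norm_num) (by omega) (by omega)
    letI := hcyc.commGroup
    exact Group.isSolvable_of_ker_le_range (MonoidHom.transferSylow P hPN).ker.subtype (MonoidHom.transferSylow P hPN)
      (by rw [Subgroup.range_subtype])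
  subst hRtop
  have hperf : ∀ {S : Type} [Group S] [Group.IsSolvable S] (f : G →* S) (g : G), f g = 1 := fun {S} _ _ f g =>
    perfect_killed hRR (f.comp (Subgroup.topEquiv (G := G)).toMonoidHom) ⟨g, trivial⟩
  have hperf' : ∀ (N : Subgroup G) [N.Normal], Group.IsSolvable (G ⧸ N) → N = ⊤ := fun N _ hs =>
    eq_top_iff.mpr fun g _ => (QuotientGroup.eq_one_iff g).mp
      (perfect_killed (hS := hs) hRR ((QuotientGroup.mk' N).comp (Subgroup.topEquiv (G := G)).toMonoidHom) ⟨g, trivial⟩)
  -- Sylow five
  obtain ⟨F⟩ : Nonempty (Sylow 5 G) := inferInstance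
  have hF5 : Nat.card (F : Subgroup G) = 5 := by rw [F.card_eq_multiplicity, hcard]; decide +kernel
  have hnF : ¬ (F : Subgroup G).Normal := by
    intro hn
    have hq : Nat.card (G ⧸ (F : Subgroup G)) = 24 := by
      have := (F : Subgroup G).card_mul_index
      rw [hF5, hcard, Subgroup.index_eq_card] at this
      omega
    have := hperf' (F : Subgroup G) (small_solvable (by rw [hq]; norm_num) (by omega) (by omega))
    rw [this, Subgroup.card_top] at hF5
    omega
  have hn5 : Nat.card (Sylow 5 G) = 6 := by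
    have h1 := card_sylow_modEq_one 5 G
    have hidx : (Subgroup.normalizer ((F : Subgroup G) : Set G)).index ∣ 24 := by
      have h2 : (F : Subgroup G).index = 24 := by
        have := (F : Subgroup G).card_mul_index
        rw [hF5, hcard] at this; omega
      exact h2 ▸ Subgroup.index_dvd_of_le Subgroup.le_normalizer
    rw [F.card_eq_index_normalizer] at h1 ⊢
    have hne : (Subgroup.normalizer ((F : Subgroup G) : Set G)).index ≠ 1 := fun h1' =>
      hnF (Subgroup.normalizer_eq_top_iff.mp (Subgroup.index_eq_one.mp h1'))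
    have hmem := Nat.mem_divisors.mpr ⟨hidx, (by norm_num : (24 : ℕ) ≠ 0)⟩
    have key : ∀ k ∈ Nat.divisors 24, k % 5 = 1 → k ≠ 1 → k = 6 := by decide +kernel
    exact key _ hmem h1 hne
  let e6 : Sylow 5 G ≃ Fin 6 := Finite.equivFinOfCardEq hn5
  let φ : G →* Equiv.Perm (Fin 6) := e6.permCongrHom.toMonoidHom.comp (MulAction.toPermHom G (Sylow 5 G))
  have halt : ∀ g, φ g ∈ alternatingGroup (Fin 6) := fun g => by
    rw [Equiv.Perm.mem_alternatingGroup]
    exact hperf (Equiv.Perm.sign.comp φ) g
  let ψ : G →* alternatingGroup (Fin 6) := φ.codRestrict _ halt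
  have hL : ψ.ker ≤ Subgroup.normalizer ((F : Subgroup G) : Set G) := by
    intro g hg
    have h1 : φ g = 1 := congrArg Subtype.val (MonoidHom.mem_ker.mp hg)
    have h2 : MulAction.toPermHom G (Sylow 5 G) g = 1 := e6.permCongrHom.injective (h1.trans (map_one _).symm)
    exact Sylow.smul_eq_iff_mem_normalizer.mp (DFunLike.congr_fun h2 F)
  have hA6 : Nat.card (alternatingGroup (Fin 6)) = 360 := by
    rw [nat_card_alternatingGroup, Nat.card_fin]; rfl
  have hker : Nat.card ψ.ker ≠ 1 := by
    intro h1
    have hr : Nat.card ψ.range = 120 := by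
      have := ψ.ker.card_mul_index
      rw [h1, one_mul, Subgroup.index_ker, hcard] at this
      exact this
    have hidx : ψ.range.index = 3 := by
      have := ψ.range.card_mul_index
      rw [hr, hA6] at this; omega
    haveI : IsSimpleGroup (alternatingGroup (Fin 6)) := alternatingGroup.isSimpleGroup (by simp)
    let τ := MulAction.toPermHom (alternatingGroup (Fin 6)) (alternatingGroup (Fin 6) ⧸ ψ.range)
    rcases τ.normal_ker.eq_bot_or_eq_top with hb | ht
    · have hle := Nat.card_le_card_of_injective τ ((MonoidHom.ker_eq_bot_iff τ).mp hb)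
      rw [hA6, Nat.card_perm, ← Subgroup.index_eq_card, hidx] at hle
      norm_num [Nat.factorial] at hle
    · have : ψ.range = ⊤ := by
        rw [eq_top_iff]
        intro g _
        have hg : τ g = 1 := MonoidHom.mem_ker.mp (ht ▸ Subgroup.mem_top g)
        have := DFunLike.congr_fun hg ((1 : alternatingGroup (Fin 6)) : alternatingGroup (Fin 6) ⧸ ψ.range)
        have h' : ((g : alternatingGroup (Fin 6)) : alternatingGroup (Fin 6) ⧸ ψ.range) =
            ((1 : alternatingGroup (Fin 6)) : alternatingGroup (Fin 6) ⧸ ψ.range) := by simpa [τ] using this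
        simpa using ψ.range.inv_mem (QuotientGroup.eq.mp h')
      rw [this, Subgroup.index_top] at hidx
      omega
  have hN20 : Nat.card (Subgroup.normalizer ((F : Subgroup G) : Set G)) = 20 := by
    have := (Subgroup.normalizer ((F : Subgroup G) : Set G)).card_mul_index
    rw [show (Subgroup.normalizer ((F : Subgroup G) : Set G)).index = 6 from (F.card_eq_index_normalizer).symm.trans hn5,
      hcard] at this
    omega
  have h5L : ¬ 5 ∣ Nat.card ψ.ker := by
    intro h5
    have hF5' : ∀ X : Subgroup G, X ≤ Subgroup.normalizer ((F : Subgroup G) : Set G) → Nat.card X = 5 →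
        X = (F : Subgroup G) := by
      intro X hX hX5
      haveI : IsCyclic X := isCyclic_of_prime_card hX5
      let FN : Sylow 5 (Subgroup.normalizer ((F : Subgroup G) : Set G)) := F.subtype Subgroup.le_normalizer
      haveI : (FN : Subgroup (Subgroup.normalizer ((F : Subgroup G) : Set G))).Normal := F.normal_in_normalizer
      have hp : IsPGroup 5 (X.subgroupOf (Subgroup.normalizer ((F : Subgroup G) : Set G))) :=
        IsPGroup.of_card (n := 1) (by rw [Nat.card_congr (Subgroup.subgroupOfEquivOfLe hX).toEquiv, hX5, pow_one])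
      obtain ⟨S, hS⟩ := hp.exists_le_sylow
      haveI := FN.unique_of_normal ‹_›
      have hle : _ ≤ (FN : Subgroup (Subgroup.normalizer ((F : Subgroup G) : Set G))) := Subsingleton.elim S FN ▸ hS
      refine Subgroup.eq_of_le_of_card_ge (fun x hx => ?_) (by rw [hX5, hF5])
      exact hle (x := ⟨x, hX hx⟩) hx
    obtain ⟨u, hu⟩ := exists_prime_orderOf_dvd_card' 5 h5
    have hFL : (F : Subgroup G) ≤ ψ.ker := by
      rw [← hF5' (Subgroup.zpowers (u : G)) (Subgroup.zpowers_le.mpr (hL u.2))
        (by rw [Nat.card_zpowers, Subgroup.orderOf_coe, hu])]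
      exact Subgroup.zpowers_le.mpr u.2
    apply hnF
    refine ⟨fun x hx g => ?_⟩
    have hmap : (F : Subgroup G).map (MulAut.conj g).toMonoidHom = (F : Subgroup G) :=
      hF5' _ (le_trans (b := ψ.ker) (by rintro _ ⟨y, hy, rfl⟩; exact ψ.normal_ker.conj_mem y (hFL hy) g) hL)
        (by rw [Subgroup.card_map_of_injective (MulAut.conj g).injective, hF5])
    rw [← hmap]
    exact ⟨x, hx, rfl⟩
  have hL2 : Nat.card ψ.ker = 2 := by
    have hd : Nat.card ψ.ker ∣ 20 := hN20 ▸ Subgroup.card_dvd_of_le hL
    have hmem := Nat.mem_divisors.mpr ⟨hd, (by norm_num : (20 : ℕ) ≠ 0)⟩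
    have key : ∀ k ∈ Nat.divisors 20, k ≠ 1 → ¬ 5 ∣ k → k = 2 ∨ k = 4 := by decide +kernel
    refine (key _ hmem hker h5L).resolve_right fun h4 => ?_
    have h30 : Nat.card (G ⧸ ψ.ker) = 30 := by
      have := ψ.ker.card_mul_index
      rw [h4, hcard, Subgroup.index_eq_card] at this
      omega
    have := hperf' ψ.ker (small_solvable (by rw [h30]; norm_num) (by omega) (by omega))
    rw [this, Subgroup.card_top, hcard] at h4
    omega
  obtain ⟨z, hz⟩ := exists_prime_orderOf_dvd_card' 2 (show 2 ∣ Nat.card ψ.ker by rw [hL2])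
  have hz2 : (z : G) * z = 1 := by
    rw [← pow_two, ← show orderOf (z : G) = 2 from (Subgroup.orderOf_coe z).trans hz, pow_orderOf_eq_one]
  have hz1 : (z : G) ≠ 1 := fun e => by
    rw [show z = 1 from Subtype.ext e, orderOf_one] at hz
    omega
  have hkmem : ∀ g ∈ ψ.ker, g = 1 ∨ g = (z : G) := by
    intro g hg
    by_contra hne
    push Not at hne
    let S : Fin 3 → ψ.ker := ![1, z, ⟨g, hg⟩]
    have hS : Function.Injective S := by
      intro a b hab
      have := congrArg Subtype.val hab
      fin_cases a <;> fin_cases b <;>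
        simp [S, hz1, hne.1, hne.2, hz1.symm, hne.1.symm, hne.2.symm] at this ⊢
    have := Nat.card_le_card_of_injective S hS
    rw [hL2, Nat.card_fin] at this
    omega
  have hcent : ∀ g : G, (z : G) * g = g * z := fun g => by
    rcases hkmem _ (ψ.normal_ker.conj_mem _ z.2 g) with e | e
    · exact absurd (conj_eq_one_iff.mp e) hz1
    · exact (mul_inv_eq_iff_eq_mul.mp e).symm
  have hinvol : ∀ g : G, g * g = 1 → g = 1 ∨ g = z := by
    intro g hg
    by_contra hne
    push Not at hne
    let W := Subgroup.closure ({g, (z : G)} : Set G)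
    haveI hW : IsMulCommutative W := Subgroup.isMulCommutative_closure (by
      rintro a (rfl | rfl) b (rfl | rfl)
      exacts [rfl, (hcent _).symm, hcent _, rfl])
    have hcomm : ∀ a b : W, a * b = b * a := fun a b => hW.is_comm.comm a b
    have hp : IsPGroup 2 W := by
      intro w
      refine ⟨1, ?_⟩
      obtain ⟨w, hw⟩ := w
      induction hw using Subgroup.closure_induction with
      | mem p hp => rcases hp with rfl | rfl <;> exact Subtype.ext (by simpa [pow_two] using ‹_›)
      | one => exact one_pow _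
      | mul p q hp hq ihp ihq =>
        show ((⟨p, hp⟩ : W) * ⟨q, hq⟩) ^ (2 ^ 1) = 1
        rw [Commute.mul_pow (hcomm _ _), ihp, ihq, one_mul]
      | inv p hp ih =>
        show (⟨p, hp⟩ : W)⁻¹ ^ (2 ^ 1) = 1
        rw [inv_pow, ih, inv_one]
    obtain ⟨P', hP'⟩ := hp.exists_le_sylow
    obtain ⟨e⟩ := hQ P'
    have hinv : ∀ p q : QuaternionGroup 2, p * p = 1 → q * q = 1 → p ≠ 1 → q ≠ 1 → p = q := by decide +kernel
    have hgP : g ∈ (P' : Subgroup G) := hP' (Subgroup.subset_closure (Or.inl rfl))
    have hzP : (z : G) ∈ (P' : Subgroup G) := hP' (Subgroup.subset_closure (Or.inr rfl))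
    refine hne.2 (congrArg Subtype.val (e.injective (hinv (e ⟨g, hgP⟩) (e ⟨z, hzP⟩) ?_ ?_ ?_ ?_)))
    · rw [← map_mul]; exact (congrArg e (Subtype.ext hg)).trans (map_one e)
    · rw [← map_mul]; exact (congrArg e (Subtype.ext hz2)).trans (map_one e)
    · rw [Ne, EmbeddingLike.map_eq_one_iff]; exact fun h => hne.1 (congrArg Subtype.val h)
    · rw [Ne, EmbeddingLike.map_eq_one_iff]; exact fun h => hz1 (congrArg Subtype.val h)
  have hq60 : Nat.card (G ⧸ ψ.ker) = 60 := by
    have := ψ.ker.card_mul_index
    rw [hL2, hcard, Subgroup.index_eq_card] at this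
    omega
  have hperfQ : commutator (G ⧸ ψ.ker) = ⊤ := by
    have h1 := map_derivedSeries_eq (f := QuotientGroup.mk' ψ.ker) (QuotientGroup.mk'_surjective _) 1
    rw [derivedSeries_one, derivedSeries_one, commutator_def G, hRR,
      Subgroup.map_top_of_surjective _ (QuotientGroup.mk'_surjective _)] at h1
    exact h1.symm
  haveI := Cfsg.Agent.S3669.isSimple_of_perfect hq60 hperfQ
  obtain ⟨e⟩ := Cfsg.Agent.S0494.result hq60
  let f : G →* alternatingGroup (Fin 5) := e.toMonoidHom.comp (QuotientGroup.mk' ψ.ker)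
  have hfs : Function.Surjective f := e.surjective.comp (QuotientGroup.mk'_surjective _)
  have hfk : ∀ g, f g = 1 → g = 1 ∨ g = (z : G) := fun g hg => hkmem g ((QuotientGroup.eq_one_iff g).mp
    (e.injective (hg.trans (map_one e).symm)))
  refine ⟨⟨f, hfs, (z : G), hz1, hz2, hcent, hfk, hinvol, ?_⟩⟩
  set T := Subgroup.closure {g : G | g * (g * g) = 1} with hT
  haveI hTn : T.Normal := by
    refine ⟨fun t ht g => ?_⟩
    have hle : T.map (MulAut.conj g).toMonoidHom ≤ T := by
      rw [hT, MonoidHom.map_closure, Subgroup.closure_le]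
      rintro _ ⟨a, ha, rfl⟩
      refine Subgroup.subset_closure ?_
      show MulAut.conj g a * (MulAut.conj g a * MulAut.conj g a) = 1
      rw [← map_mul, ← map_mul, show a * (a * a) = 1 from ha, map_one]
    exact hle ⟨t, ht, rfl⟩
  haveI : Fact (Nat.Prime 3) := ⟨Nat.prime_three⟩
  obtain ⟨x, hx⟩ := exists_prime_orderOf_dvd_card' 3 (show 3 ∣ Nat.card G by rw [hcard]; norm_num)
  have hxT : x ∈ T := Subgroup.subset_closure (show x * (x * x) = 1 by
    rw [← pow_two, ← pow_succ', show 2 + 1 = orderOf x by rw [hx], pow_orderOf_eq_one])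
  haveI : IsSimpleGroup (alternatingGroup (Fin 5)) := alternatingGroup.isSimpleGroup (by simp)
  have htop : T.map f = ⊤ := by
    refine ((Subgroup.Normal.map hTn f hfs).eq_bot_or_eq_top).resolve_left fun hb => ?_
    have h1 : f x ∈ T.map f := Subgroup.mem_map_of_mem f hxT
    rw [hb, Subgroup.mem_bot] at h1
    rcases hfk x h1 with e | e
    · rw [e, orderOf_one] at hx; omega
    · have := orderOf_dvd_of_pow_eq_one (show x ^ 2 = 1 by rw [pow_two, e, hz2])
      rw [hx] at this; norm_num at this
  refine hperf' T ?_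
  have hs : Function.Surjective ((QuotientGroup.mk' T).comp ψ.ker.subtype) := by
    intro q
    obtain ⟨g, rfl⟩ := QuotientGroup.mk'_surjective T q
    obtain ⟨t, ht, hft⟩ : f g ∈ T.map f := htop ▸ Subgroup.mem_top _
    have hk : t⁻¹ * g ∈ ψ.ker := by
      have h2 : f (t⁻¹ * g) = 1 := by rw [map_mul, map_inv, hft, inv_mul_cancel]
      exact (QuotientGroup.eq_one_iff _).mp (e.injective (h2.trans (map_one e).symm))
    refine ⟨⟨_, hk⟩, ?_⟩
    show QuotientGroup.mk' T (t⁻¹ * g) = QuotientGroup.mk' T g
    rw [map_mul, map_inv, show QuotientGroup.mk' T t = 1 from (QuotientGroup.eq_one_iff t).mpr ht, inv_one, one_mul]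
  haveI : IsCyclic ψ.ker := isCyclic_of_prime_card hL2
  letI := IsCyclic.commGroup (α := ψ.ker)
  exact Group.isSolvable_of_surjective hs

end CfsgLib.Recognition.Zassenhaus
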