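import Mathlib
import Cfsg.Agent.Lib.Recognition.Zassenhaus.Structure

/-!
Uniqueness of the Z-kernel with Klein, tetrahedral, octahedral or icosahedral quotient.
-/

set_option linter.style.haveILetI false
set_option linter.unusedSectionVars false

namespace CfsgLib.Recognition.Zassenhaus

theorem two_involutions_false {X : Type*} [Group X] [Finite X] [IsZGroup X] {u v : X} (hu : u * u = 1) (hu1 : u ≠ 1)
    (hv : v * v = 1) (hv1 : v ≠ 1) (hne : v ≠ u) (hc : v * u = u * v) : False := by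
  haveI : Fact (Nat.Prime 2) := ⟨Nat.prime_two⟩
  let W := Subgroup.closure ({u, v} : Set X)
  haveI hW : IsMulCommutative W := Subgroup.isMulCommutative_closure (by
    rintro a (rfl | rfl) b (rfl | rfl)
    exacts [rfl, hc.symm, hc, rfl])
  have hcomm : ∀ a b : W, a * b = b * a := fun a b => hW.is_comm.comm a b
  have hp : IsPGroup 2 W := by
    intro w
    refine ⟨1, ?_⟩
    obtain ⟨w, hw⟩ := w
    induction hw using Subgroup.closure_induction with
    | mem p hp => rcases hp with rfl | rfl <;> exact Subtype.ext (by simpa [pow_two] using ‹_›)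
    | one => exact one_pow _
    | mul p q hp hq ihp ihq =>
      show ((⟨p, hp⟩ : W) * ⟨q, hq⟩) ^ (2 ^ 1) = 1
      rw [Commute.mul_pow (hcomm _ _), ihp, ihq, one_mul]
    | inv p hp ih =>
      show (⟨p, hp⟩ : W)⁻¹ ^ (2 ^ 1) = 1
      rw [inv_pow, ih, inv_one]
  haveI := hp.isCyclic_of_isZGroup
  have hu' : u ∈ W := Subgroup.subset_closure (Or.inl rfl)
  have hv' : v ∈ W := Subgroup.subset_closure (Or.inr rfl)
  have ho : orderOf (⟨u, hu'⟩ : W) = 2 :=
    orderOf_eq_prime (Subtype.ext (by simpa [pow_two] using hu)) (fun e => hu1 (congrArg Subtype.val e))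
  have h1 := mem_zpowers_of_cyclic (p := 2) (by norm_num) (g := (⟨v, hv'⟩ : W)) (u := ⟨u, hu'⟩)
    (Subtype.ext (by simpa [pow_two] using hv)) ho
  obtain ⟨m, hm⟩ := Subgroup.mem_zpowers_iff.mp h1
  rw [← zpow_mod_orderOf, ho] at hm
  rcases Int.emod_two_eq_zero_or_one m with e | e <;> simp only [Nat.cast_ofNat] at hm <;> rw [e] at hm
  · rw [zpow_zero] at hm; exact hv1 (congrArg Subtype.val hm).symm
  · rw [zpow_one] at hm; exact hne (congrArg Subtype.val hm).symm

/-- Nonabelian with no nontrivial normal subgroup whose Sylow subgroups are cyclic. -/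
def NoZ (X : Type*) [Group X] : Prop :=
  (∀ N : Subgroup X, N.Normal → IsZGroup N → N = ⊥) ∧ ∃ a b : X, a * b ≠ b * a

theorem NoZ.eq_bot {X : Type*} [Group X] (hX : NoZ X) (N : Subgroup X) [hN : N.Normal] [hZ : IsZGroup N] : N = ⊥ :=
  hX.1 N hN hZ

/-- A normal subgroup containing two commuting involutions. -/
theorem eq_bot_of_witness {X : Type*} [Group X] [Finite X] (u h0 : X) (hu : u * u = 1) (hu1 : u ≠ 1)
    (hne : h0 * u * h0⁻¹ ≠ u) (hc : h0 * u * h0⁻¹ * u = u * (h0 * u * h0⁻¹))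
    (hX : ∀ g : X, g ≠ 1 → g = u ∨ ∃ b k : X, k * (g * b * g⁻¹ * b⁻¹) * k⁻¹ = u)
    (N : Subgroup X) (hN : N.Normal) (hZ : IsZGroup N) : N = ⊥ := by
  rw [Subgroup.eq_bot_iff_forall]
  intro g hg
  by_contra hg1
  have huN : u ∈ N := by
    rcases hX g hg1 with rfl | ⟨b, k, hb⟩
    · exact hg
    · rw [← hb]
      refine hN.conj_mem _ ?_ k
      rw [mul_assoc g b, mul_assoc g (b * g⁻¹)]
      exact N.mul_mem hg (hN.conj_mem _ (N.inv_mem hg) b)
  have hvN := hN.conj_mem _ huN h0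
  refine two_involutions_false (X := N) (u := ⟨_, huN⟩) (v := ⟨_, hvN⟩) (Subtype.ext hu)
    (fun e => hu1 (congrArg Subtype.val e)) (Subtype.ext ?_) (fun e => hu1 ?_)
    (fun e => hne (congrArg Subtype.val e)) (Subtype.ext hc)
  · show h0 * u * h0⁻¹ * (h0 * u * h0⁻¹) = 1
    calc h0 * u * h0⁻¹ * (h0 * u * h0⁻¹) = h0 * (u * u) * h0⁻¹ := by group
      _ = 1 := by rw [hu, mul_one, mul_inv_cancel]
  · exact conj_eq_one_iff.mp (congrArg Subtype.val e)

theorem noZ_perm_four : NoZ (Equiv.Perm (Fin 4)) :=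
  ⟨eq_bot_of_witness (Equiv.swap 0 1 * Equiv.swap 2 3) (Equiv.swap 1 2) (by decide +kernel) (by decide +kernel)
    (by decide +kernel) (by decide +kernel) (by decide +kernel), Equiv.swap 0 1, Equiv.swap 1 2, by decide +kernel⟩

theorem noZ_alt_four : NoZ (alternatingGroup (Fin 4)) := by
  let u : alternatingGroup (Fin 4) := ⟨Equiv.swap 0 1 * Equiv.swap 2 3, Equiv.Perm.mem_alternatingGroup.mpr (by decide +kernel)⟩
  let t : alternatingGroup (Fin 4) := ⟨Equiv.swap 0 1 * Equiv.swap 1 2, Equiv.Perm.mem_alternatingGroup.mpr (by decide +kernel)⟩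
  exact ⟨eq_bot_of_witness u t (by decide +kernel) (by decide +kernel) (by decide +kernel) (by decide +kernel)
    (by decide +kernel), u, t, by decide +kernel⟩

theorem alt_five_not_z : ¬ IsZGroup (alternatingGroup (Fin 5)) := fun _ =>
  two_involutions_false (X := alternatingGroup (Fin 5))
    (u := ⟨Equiv.swap 0 1 * Equiv.swap 2 3, by
      rw [Equiv.Perm.mem_alternatingGroup, map_mul, Equiv.Perm.sign_swap (by decide), Equiv.Perm.sign_swap (by decide),
        Int.units_mul_self]⟩)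
    (v := ⟨Equiv.swap 0 2 * Equiv.swap 1 3, by
      rw [Equiv.Perm.mem_alternatingGroup, map_mul, Equiv.Perm.sign_swap (by decide), Equiv.Perm.sign_swap (by decide),
        Int.units_mul_self]⟩)
    (Subtype.ext (by decide)) (fun e => absurd (congrArg Subtype.val e) (by decide)) (Subtype.ext (by decide))
    (fun e => absurd (congrArg Subtype.val e) (by decide)) (fun e => absurd (congrArg Subtype.val e) (by decide))
    (Subtype.ext (by decide))

theorem noZ_alt_five : NoZ (alternatingGroup (Fin 5)) := by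
  refine ⟨fun N hN hZ => (hN.eq_bot_or_eq_top).resolve_right fun e => alt_five_not_z ?_, ?_⟩
  · subst e
    exact IsZGroup.of_surjective (f := (Subgroup.topEquiv : (⊤ : Subgroup (alternatingGroup (Fin 5))) ≃* _).toMonoidHom)
      Subgroup.topEquiv.surjective
  · have hm : ∀ u v : Fin 5, u ≠ v → ∀ w x : Fin 5, w ≠ x →
        Equiv.swap u v * Equiv.swap w x ∈ alternatingGroup (Fin 5) := fun u v huv w x hwx => by
      rw [Equiv.Perm.mem_alternatingGroup, map_mul, Equiv.Perm.sign_swap huv, Equiv.Perm.sign_swap hwx, Int.units_mul_self]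
    exact ⟨⟨_, hm 0 1 (by decide) 2 3 (by decide)⟩, ⟨_, hm 0 1 (by decide) 2 4 (by decide)⟩,
      fun e => absurd (congrArg Subtype.val e) (show Equiv.swap (0 : Fin 5) 1 * Equiv.swap 2 3 *
        (Equiv.swap (0 : Fin 5) 1 * Equiv.swap 2 4) ≠ Equiv.swap (0 : Fin 5) 1 * Equiv.swap 2 4 *
        (Equiv.swap (0 : Fin 5) 1 * Equiv.swap 2 3) by decide +kernel)⟩

theorem noZ_perm_five : NoZ (Equiv.Perm (Fin 5)) := by
  refine ⟨fun N hN hZ => ?_, Equiv.swap 0 1, Equiv.swap 1 2, by decide⟩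
  haveI := hN
  haveI := hZ
  let A := alternatingGroup (Fin 5)
  have h0 : N.subgroupOf A = ⊥ := by
    haveI : IsZGroup (N.subgroupOf A) :=
      IsZGroup.of_injective (f := (A.subtype.comp (N.subgroupOf A).subtype).codRestrict N fun x => x.2)
        fun x y e => Subtype.ext (Subtype.ext (congrArg (fun p : N => (p : Equiv.Perm (Fin 5))) e))
    exact noZ_alt_five.eq_bot _
  rw [Subgroup.eq_bot_iff_forall]
  intro g hg
  refine perm_five_center g fun k _ => ?_
  have hA : g * k * g⁻¹ * k⁻¹ ∈ A := by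
    rw [Equiv.Perm.mem_alternatingGroup, map_mul, map_mul, map_mul, map_inv, map_inv, mul_comm (Equiv.Perm.sign g),
      mul_inv_cancel_right, mul_inv_cancel]
  have hN' : g * k * g⁻¹ * k⁻¹ ∈ N := by
    rw [mul_assoc g k, mul_assoc g (k * g⁻¹)]
    exact N.mul_mem hg (hN.conj_mem _ (N.inv_mem hg) k)
  have h1 : (⟨_, hA⟩ : A) ∈ (⊥ : Subgroup A) := h0 ▸ (show (⟨_, hA⟩ : A) ∈ N.subgroupOf A from hN')
  exact mul_inv_eq_iff_eq_mul.mp (mul_inv_eq_one.mp (congrArg Subtype.val (Subgroup.mem_bot.mp h1)))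

theorem isZGroup_map {G X : Type*} [Group G] [Finite G] [Group X] (f : G →* X) (N : Subgroup G) [IsZGroup N] :
    IsZGroup (N.map f) :=
  IsZGroup.of_surjective (f := f.subgroupMap N) (f.subgroupMap_surjective N)

/-- A kernel with cyclic Sylow subgroups and quotient one of the five types. -/
def ValidQ {G : Type*} [Group G] (N : Subgroup G) : Prop :=
  N = ⊤ ∨ (∃ f : G →* DihedralGroup 2, Function.Surjective f ∧ f.ker = N) ∨
    (∃ (X : Type) (_ : Group X) (_ : Finite X) (f : G →* X), Nontrivial X ∧ NoZ X ∧ Function.Surjective f ∧ f.ker = N)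

variable {G : Type*} [Group G] [Finite G]

theorem le_of_noZ {N₁ N₂ : Subgroup G} [N₂.Normal] [IsZGroup N₂] {X : Type} [Group X] [Finite X] {f : G →* X}
    (hX : NoZ X) (hs : Function.Surjective f) (hk : f.ker = N₁) : N₂ ≤ N₁ := by
  haveI : (N₂.map f).Normal := Subgroup.Normal.map inferInstance f hs
  haveI := isZGroup_map f N₂
  intro g hg
  rw [← hk, MonoidHom.mem_ker]
  exact Subgroup.mem_bot.mp (hX.eq_bot (N₂.map f) ▸ Subgroup.mem_map_of_mem f hg)

theorem not_top_dihedral [IsZGroup G] (f : G →* DihedralGroup 2) (hs : Function.Surjective f) : False := by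
  haveI := IsZGroup.of_surjective hs
  exact two_involutions_false (X := DihedralGroup 2) (u := DihedralGroup.r 1) (v := DihedralGroup.sr 0)
    (by decide) (by decide) (by decide) (by decide) (by decide) (by decide)

theorem not_top_noZ [IsZGroup G] {X : Type} [Group X] [Finite X] [Nontrivial X] (f : G →* X) (hX : NoZ X)
    (hs : Function.Surjective f) : False := by
  haveI := IsZGroup.of_surjective hs
  haveI : IsZGroup (⊤ : Subgroup X) := inferInstance
  exact bot_ne_top (hX.eq_bot ⊤).symm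

/-- A two-generated exponent two image. -/
theorem klein_unique (hP : ∀ P : Sylow 2 G, IsCyclic P ∨ ∃ n, Nonempty (P ≃* QuaternionGroup n))
    {f₁ f₂ : G →* DihedralGroup 2} (h₁ : Function.Surjective f₁) : f₁.ker ≤ f₂.ker := by
  classical
  haveI : Fact (Nat.Prime 2) := ⟨Nat.prime_two⟩
  let F := f₁.prod f₂
  have hexp : ∀ x : DihedralGroup 2, x * x = 1 := by decide
  have hcomm : ∀ x y : DihedralGroup 2, x * y = y * x := by decide
  have hFexp : ∀ x : G, F x * F x = 1 := fun x => Prod.ext (hexp _) (hexp _)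
  have hFcomm : ∀ x y : G, F x * F y = F y * F x := fun x y => Prod.ext (hcomm _ _) (hcomm _ _)
  have hr : IsPGroup 2 F.range := by
    rintro ⟨_, x, rfl⟩
    exact ⟨1, Subtype.ext (by simpa [pow_two] using hFexp x)⟩
  obtain ⟨P⟩ : Nonempty (Sylow 2 G) := inferInstance
  have hPs : ∀ y ∈ F.range, ∃ p ∈ (P : Subgroup G), F p = y := by
    let P' : Sylow 2 F.range := P.mapSurjective (f := F.rangeRestrict) F.rangeRestrict_surjective
    have htop : (P' : Subgroup F.range) = ⊤ :=
      (P'.is_maximal' (hr.to_subgroup _) le_top).symm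
    intro y hy
    have hy' : (⟨y, hy⟩ : F.range) ∈ (P' : Subgroup F.range) := htop ▸ Subgroup.mem_top _
    obtain ⟨p, hp, hpy⟩ := hy'
    exact ⟨p, hp, congrArg Subtype.val hpy⟩
  obtain ⟨A, B, hAB⟩ : ∃ A B : G, ∀ y ∈ F.range, y = 1 ∨ y = F A ∨ y = F B ∨ y = F A * F B := by
    have hpow : ∀ (x : G) (m : ℕ), F x ^ m = 1 ∨ F x ^ m = F x := fun x m => by
      rw [← Nat.mod_add_div m 2, pow_add, pow_mul, pow_two, hFexp, one_pow, mul_one]
      rcases Nat.mod_two_eq_zero_or_one m with e | e <;> rw [e]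
      · exact Or.inl (pow_zero _)
      · exact Or.inr (pow_one _)
    rcases hP P with hc | ⟨n, ⟨e⟩⟩
    · obtain ⟨g, hg⟩ := IsCyclic.exists_generator (α := (P : Subgroup G))
      refine ⟨g, g, fun y hy => ?_⟩
      obtain ⟨p, hp, rfl⟩ := hPs y hy
      obtain ⟨m, hm⟩ := Submonoid.mem_powers_iff _ _ |>.mp ((mem_powers_iff_mem_zpowers).mpr (hg ⟨p, hp⟩))
      have e : (g : G) ^ m = p := congrArg Subtype.val hm
      rw [← e, map_pow]
      exact (hpow g m).imp id Or.inl
    · refine ⟨(e.symm (QuaternionGroup.xa 0) : G), (e.symm (QuaternionGroup.a 1) : G), fun y hy => ?_⟩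
      obtain ⟨p, hp, rfl⟩ := hPs y hy
      obtain ⟨q, hq⟩ : ∃ q, q = e ⟨p, hp⟩ := ⟨_, rfl⟩
      have hp' : p = (e.symm q : G) := by rw [hq, e.symm_apply_apply]
      have ha : ∀ i : ZMod (2 * n), ∃ m : ℕ, (QuaternionGroup.a i : QuaternionGroup n) = QuaternionGroup.a 1 ^ m ∨
          (QuaternionGroup.a i : QuaternionGroup n) = (QuaternionGroup.a 1 ^ m)⁻¹ := by
        intro i
        obtain ⟨j, rfl⟩ := ZMod.intCast_surjective i
        obtain ⟨m, rfl | rfl⟩ := j.eq_nat_or_neg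
        · exact ⟨m, Or.inl (by rw [QuaternionGroup.a_one_pow, Int.cast_natCast])⟩
        · refine ⟨m, Or.inr ?_⟩
          rw [QuaternionGroup.a_one_pow, eq_inv_iff_mul_eq_one, QuaternionGroup.a_mul_a, Int.cast_neg, Int.cast_natCast,
            neg_add_cancel, ← QuaternionGroup.one_def]
      have haF : ∀ i : ZMod (2 * n), F ((e.symm (QuaternionGroup.a i) : G)) = 1 ∨
          F ((e.symm (QuaternionGroup.a i) : G)) = F ((e.symm (QuaternionGroup.a 1) : G)) := by
        intro i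
        obtain ⟨m, hm | hm⟩ := ha i
        · rw [hm, map_pow, SubgroupClass.coe_pow, map_pow]; exact hpow _ m
        · rw [hm, map_inv, Subgroup.coe_inv, map_inv, map_pow, SubgroupClass.coe_pow, map_pow,
            inv_eq_of_mul_eq_one_right (show F _ ^ m * F _ ^ m = 1 by rw [← map_pow]; exact hFexp _)]
          exact hpow _ m
      rcases q with i | i
      · rcases haF i with h | h
        · exact Or.inl (hp' ▸ h)
        · exact Or.inr (Or.inr (Or.inl (hp' ▸ h)))
      · have hx : (QuaternionGroup.xa i : QuaternionGroup n) = QuaternionGroup.xa 0 * QuaternionGroup.a i := by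
          rw [QuaternionGroup.xa_mul_a, zero_add]
        rw [hp', hx, map_mul, Subgroup.coe_mul, map_mul]
        rcases haF i with h | h
        · exact Or.inr (Or.inl (by rw [h, mul_one]))
        · exact Or.inr (Or.inr (Or.inr (by rw [h])))
  have hcard : Nat.card F.range ≤ 4 := by
    let S : Fin 4 → F.range := ![1, ⟨F A, A, rfl⟩, ⟨F B, B, rfl⟩, ⟨F A * F B, A * B, map_mul F A B⟩]
    refine le_trans (Nat.card_le_card_of_surjective S ?_) (le_of_eq (Nat.card_fin 4))
    rintro ⟨y, hy⟩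
    rcases hAB y hy with e | e | e | e
    exacts [⟨0, Subtype.ext e.symm⟩, ⟨1, Subtype.ext e.symm⟩, ⟨2, Subtype.ext e.symm⟩, ⟨3, Subtype.ext e.symm⟩]
  let π : F.range →* DihedralGroup 2 := (MonoidHom.fst _ _).comp F.range.subtype
  have hπs : Function.Surjective π := fun y => by
    obtain ⟨x, rfl⟩ := h₁ y
    exact ⟨⟨F x, x, rfl⟩, rfl⟩
  have hπ : Function.Injective π := by
    have h4 : Nat.card (DihedralGroup 2) = 4 := DihedralGroup.nat_card
    exact ((Nat.bijective_iff_surjective_and_card π).mpr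
      ⟨hπs, le_antisymm (h4.symm ▸ hcard) (Nat.card_le_card_of_surjective π hπs)⟩).1
  intro x hx
  have h0 : (⟨F x, x, rfl⟩ : F.range) = 1 := hπ (by rw [map_one]; exact MonoidHom.mem_ker.mp hx)
  exact MonoidHom.mem_ker.mpr (congrArg (fun p : F.range => (p : DihedralGroup 2 × DihedralGroup 2).2) h0)

/-- There is at most one valid kernel. -/
theorem unique_kernel (hP : ∀ P : Sylow 2 G, IsCyclic P ∨ ∃ n, Nonempty (P ≃* QuaternionGroup n))
    {N₁ N₂ : Subgroup G} (hn₁ : N₁.Normal) (hn₂ : N₂.Normal) (hz₁ : IsZGroup N₁) (hz₂ : IsZGroup N₂)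
    (hv₁ : ValidQ N₁) (hv₂ : ValidQ N₂) : N₁ = N₂ := by
  haveI := hn₁
  haveI := hn₂
  have htopZ : IsZGroup (⊤ : Subgroup G) → IsZGroup G := fun _ =>
    IsZGroup.of_surjective (f := (Subgroup.topEquiv : (⊤ : Subgroup G) ≃* G).toMonoidHom) Subgroup.topEquiv.surjective
  rcases hv₁ with rfl | ⟨f₁, hs₁, rfl⟩ | ⟨X₁, _, _, f₁, hX₁', hX₁, hs₁, rfl⟩ <;>
    rcases hv₂ with rfl | ⟨f₂, hs₂, rfl⟩ | ⟨X₂, _, _, f₂, hX₂', hX₂, hs₂, rfl⟩
  · rfl
  · haveI := htopZ hz₁; exact (not_top_dihedral f₂ hs₂).elim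
  · haveI := htopZ hz₁; exact (not_top_noZ f₂ hX₂ hs₂).elim
  · haveI := htopZ hz₂; exact (not_top_dihedral f₁ hs₁).elim
  · exact le_antisymm (klein_unique hP hs₁) (klein_unique hP hs₂)
  · exfalso
    haveI := hz₁
    have hle := le_of_noZ (N₂ := f₁.ker) hX₂ hs₂ rfl
    obtain ⟨p, q, hne⟩ := hX₂.2
    obtain ⟨x, rfl⟩ := hs₂ p
    obtain ⟨y, rfl⟩ := hs₂ q
    have hc : ∀ p q : DihedralGroup 2, p * q * (q * p)⁻¹ = 1 := by decide
    refine hne (mul_inv_eq_one.mp ?_)
    rw [← map_mul, ← map_mul, ← map_inv, ← map_mul]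
    refine MonoidHom.mem_ker.mp (hle (MonoidHom.mem_ker.mpr ?_))
    rw [map_mul, map_inv, map_mul, map_mul]
    exact hc _ _
  · haveI := htopZ hz₂; exact (not_top_noZ f₁ hX₁ hs₁).elim
  · exfalso
    haveI := hz₂
    have hle := le_of_noZ (N₂ := f₂.ker) hX₁ hs₁ rfl
    obtain ⟨p, q, hne⟩ := hX₁.2
    obtain ⟨x, rfl⟩ := hs₁ p
    obtain ⟨y, rfl⟩ := hs₁ q
    have hc : ∀ p q : DihedralGroup 2, p * q * (q * p)⁻¹ = 1 := by decide
    refine hne (mul_inv_eq_one.mp ?_)
    rw [← map_mul, ← map_mul, ← map_inv, ← map_mul]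
    refine MonoidHom.mem_ker.mp (hle (MonoidHom.mem_ker.mpr ?_))
    rw [map_mul, map_inv, map_mul, map_mul]
    exact hc _ _
  · haveI := hz₁
    haveI := hz₂
    exact le_antisymm (le_of_noZ hX₂ hs₂ rfl) (le_of_noZ hX₁ hs₁ rfl)

end CfsgLib.Recognition.Zassenhaus
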