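import Mathlib
import Cfsg.Agent.Lib.Recognition.Zassenhaus.Unique
import Cfsg.Agent.Lib.Recognition.NearField.Quaternion
import Cfsg.Agent.S3742

/-!
Solvable fixed-point-free groups: a kernel with cyclic Sylow subgroups and quotient inside the octahedral group.
-/

set_option linter.style.haveILetI false
set_option linter.unusedSectionVars false

namespace CfsgLib.Recognition.Zassenhaus

open NearField

/-- A group with cyclic Sylow two-subgroup has a normal complement of odd order, also normal above. -/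
theorem odd_complement {G : Type*} [Group G] [Finite G] (H : Subgroup G) [H.Normal]
    (hc : ∀ P : Sylow 2 H, IsCyclic P) :
    ∃ R : Subgroup G, R.Normal ∧ ¬ 2 ∣ Nat.card R ∧ ∃ a, Nat.card H = 2 ^ a * Nat.card R := by
  by_cases h2 : 2 ∣ Nat.card H
  swap
  · exact ⟨H, inferInstance, h2, 0, by rw [pow_zero, one_mul]⟩
  haveI : Fact (Nat.Prime 2) := ⟨Nat.prime_two⟩
  obtain ⟨P⟩ : Nonempty (Sylow 2 H) := inferInstance
  have hPN : Subgroup.normalizer (P : Set H) ≤ Subgroup.centralizer (P : Set H) :=
    (hc P).normalizer_le_centralizer ((Nat.minFac_eq_two_iff _).mpr h2)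
  let φ := MonoidHom.transferSylow P hPN
  have hcompl := MonoidHom.ker_transferSylow_isComplement' P hPN
  have hodd : ¬ 2 ∣ Nat.card φ.ker := MonoidHom.not_dvd_card_ker_transferSylow P hPN
  obtain ⟨a, ha⟩ := P.isPGroup'.exists_card_eq
  have hcardR : Nat.card (φ.ker.map H.subtype) = Nat.card φ.ker := Subgroup.card_map_of_injective H.subtype_injective
  refine ⟨φ.ker.map H.subtype, ⟨fun m hm g => ?_⟩, by rwa [hcardR], a,
    by rw [hcardR, ← hcompl.card_mul_card, ha, mul_comm]⟩
  obtain ⟨c, hc', rfl⟩ := hm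
  let c' : H := ⟨g * c * g⁻¹, (inferInstance : H.Normal).conj_mem c c.2 g⟩
  refine ⟨c', ?_, rfl⟩
  have hpow : c' ^ Nat.card φ.ker = 1 := by
    apply Subtype.ext
    rw [SubgroupClass.coe_pow, show (c' : G) = g * c * g⁻¹ from rfl, conj_pow]
    have : c ^ Nat.card φ.ker = 1 := by
      have := congrArg Subtype.val (pow_card_eq_one' (x := (⟨c, hc'⟩ : φ.ker)))
      simpa only [SubgroupClass.coe_pow, OneMemClass.coe_one] using this
    rw [← SubgroupClass.coe_pow, this]; simp
  rw [SetLike.mem_coe, MonoidHom.mem_ker]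
  have h1 : φ c' ^ Nat.card φ.ker = 1 := by rw [← map_pow, hpow, map_one]
  have h2' : φ c' ^ Nat.card (P : Subgroup H) = 1 := pow_card_eq_one'
  have h3 := pow_gcd_eq_one.mpr ⟨h1, h2'⟩
  have hcop : Nat.Coprime (Nat.card φ.ker) (Nat.card (P : Subgroup H)) := by
    rw [ha]
    exact ((Nat.prime_two.coprime_iff_not_dvd.mpr hodd).symm).pow_right a
  rwa [hcop.gcd_eq_one, pow_one] at h3

/-- The map onto the Klein group. -/
def quatToKlein (n : ℕ) (hn : 2 ∣ n) : QuaternionGroup n →* DihedralGroup 2 where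
  toFun
    | .a i => .r (ZMod.castHom (dvd_mul_right 2 n) (ZMod 2) i)
    | .xa i => .sr (ZMod.castHom (dvd_mul_right 2 n) (ZMod 2) i)
  map_one' := by
    rw [QuaternionGroup.one_def, DihedralGroup.one_def]
    show DihedralGroup.r (ZMod.castHom (dvd_mul_right 2 n) (ZMod 2) 0) = _
    rw [map_zero]
  map_mul' x y := by
    have hn0 : ((n : ℕ) : ZMod 2) = 0 := (ZMod.natCast_eq_zero_iff _ _).mpr hn
    have h2 : ∀ u : ZMod 2, -u = u := by decide
    rcases x with i | i <;> rcases y with j | j
    · simp only [QuaternionGroup.a_mul_a, DihedralGroup.r_mul_r, map_add]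
    · simp only [QuaternionGroup.a_mul_xa, DihedralGroup.r_mul_sr, map_sub]
    · simp only [QuaternionGroup.xa_mul_a, DihedralGroup.sr_mul_r, map_add]
    · simp only [QuaternionGroup.xa_mul_xa, DihedralGroup.sr_mul_sr, map_sub, map_add, map_natCast, hn0, zero_add]

theorem quatToKlein_surjective (n : ℕ) (hn : 2 ∣ n) : Function.Surjective (quatToKlein n hn) := by
  rintro (i | i)
  · obtain ⟨j, hj⟩ := ZMod.castHom_surjective (dvd_mul_right 2 n) i
    exact ⟨.a j, congrArg DihedralGroup.r hj⟩
  · obtain ⟨j, hj⟩ := ZMod.castHom_surjective (dvd_mul_right 2 n) i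
    exact ⟨.xa j, congrArg DihedralGroup.sr hj⟩

theorem quatToKlein_ker (n : ℕ) (hn : 2 ∣ n) (x : QuaternionGroup n) (hx : quatToKlein n hn x = 1) :
    x ∈ Subgroup.zpowers (QuaternionGroup.a 1 : QuaternionGroup n) := by
  rcases x with i | i
  · obtain ⟨j, rfl⟩ := ZMod.intCast_surjective i
    obtain ⟨m, rfl | rfl⟩ := j.eq_nat_or_neg
    · exact ⟨m, by simp only [zpow_natCast, QuaternionGroup.a_one_pow, Int.cast_natCast]⟩
    · refine ⟨-(m : ℤ), ?_⟩
      simp only [zpow_neg, zpow_natCast, QuaternionGroup.a_one_pow, Int.cast_neg, Int.cast_natCast]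
      rw [inv_eq_iff_mul_eq_one, QuaternionGroup.a_mul_a, add_neg_cancel, ← QuaternionGroup.one_def]
  · exact absurd hx (by rintro ⟨⟩)

theorem quaternion_one_cyclic : IsCyclic (QuaternionGroup 1) := by
  refine ⟨QuaternionGroup.xa 0, fun x => ?_⟩
  have h : ∀ x : QuaternionGroup 1, ∃ k : Fin 4, (QuaternionGroup.xa 0 : QuaternionGroup 1) ^ k.val = x := by decide
  obtain ⟨k, hk⟩ := h x
  exact ⟨k.val, (zpow_natCast _ _).trans hk⟩

universe v

variable {r : ℕ} [Fact r.Prime] {V : Type v} [AddCommGroup V] [Module (ZMod r) V] [Finite V] [Nontrivial V]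
  {G : Type*} [Group G] [Finite G] {ρ : G →* Module.End (ZMod r) V}

/-- A fixed-point-free group without quaternion subgroups has cyclic Sylow subgroups. -/
theorem isZGroup_of_two (h : Fpf ρ) (A : Subgroup G) (hc : ∀ P : Sylow 2 A, IsCyclic P) : IsZGroup A :=
  ⟨fun p hp P => by
    haveI := Fact.mk hp
    rcases sylow_cases h A P with hP | ⟨rfl, -⟩
    · exact hP
    · exact hc P⟩

theorem isZGroup_of_two' (h : Fpf ρ) (hc : ∀ P : Sylow 2 G, IsCyclic P) : IsZGroup G := by
  haveI : IsZGroup (⊤ : Subgroup G) := isZGroup_of_two h ⊤ fun P => by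
    haveI : Fact (Nat.Prime 2) := ⟨Nat.prime_two⟩
    let P' : Sylow 2 G := P.mapSurjective (f := (Subgroup.topEquiv : (⊤ : Subgroup G) ≃* G).toMonoidHom)
      Subgroup.topEquiv.surjective
    haveI : IsCyclic ((P : Subgroup (⊤ : Subgroup G)).map (Subgroup.topEquiv : (⊤ : Subgroup G) ≃* G).toMonoidHom) := hc P'
    exact isCyclic_of_surjective _
      (Subgroup.equivMapOfInjective (P : Subgroup (⊤ : Subgroup G))
        (Subgroup.topEquiv : (⊤ : Subgroup G) ≃* G).toMonoidHom Subgroup.topEquiv.injective).symm.surjective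
  exact IsZGroup.of_surjective (f := (Subgroup.topEquiv : (⊤ : Subgroup G) ≃* G).toMonoidHom) Subgroup.topEquiv.surjective

theorem sylow_cases' (h : Fpf ρ) {p : ℕ} [Fact p.Prime] (P : Sylow p G) :
    IsCyclic P ∨ (p = 2 ∧ ∃ n : ℕ, Nonempty (P ≃* QuaternionGroup (2 ^ n))) := by
  let e : G ≃* (⊤ : Subgroup G) := Subgroup.topEquiv.symm
  let P' : Sylow p (⊤ : Subgroup G) := P.mapSurjective (f := e.toMonoidHom) e.surjective
  let eP : (P : Subgroup G) ≃* (P' : Subgroup (⊤ : Subgroup G)) := Subgroup.equivMapOfInjective _ e.toMonoidHom e.injective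
  rcases sylow_cases h ⊤ P' with hc | ⟨hp, n, ⟨i⟩⟩
  · haveI : IsCyclic (P' : Subgroup (⊤ : Subgroup G)) := hc
    exact Or.inl (isCyclic_of_surjective eP.symm eP.symm.surjective)
  · exact Or.inr ⟨hp, n, ⟨eP.trans i⟩⟩

/-- An odd normal subgroup with two-quotient and a noncyclic Sylow subgroup gives the Klein quotient. -/
theorem klein_of_odd (h : Fpf ρ) (hnZ : ¬ IsZGroup G) (R : Subgroup G) [R.Normal] (hodd : ¬ 2 ∣ Nat.card R) {a : ℕ}
    (hcard : Nat.card G = 2 ^ a * Nat.card R) :
    ∃ f : G →* DihedralGroup 2, Function.Surjective f ∧ IsZGroup f.ker := by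
  haveI : Fact (Nat.Prime 2) := ⟨Nat.prime_two⟩
  obtain ⟨P, hP⟩ : ∃ P : Sylow 2 G, ¬ IsCyclic P := by
    by_contra hall
    push Not at hall
    exact hnZ (isZGroup_of_two' h hall)
  obtain ⟨-, k, ⟨i⟩⟩ := (sylow_cases' h P).resolve_left hP
  have hk : 2 ∣ 2 ^ k := by
    rcases k with _ | k
    · exfalso
      haveI := quaternion_one_cyclic
      exact hP (isCyclic_of_surjective i.symm i.symm.surjective)
    · exact dvd_pow_self 2 (Nat.succ_ne_zero k)
  let π : (P : Subgroup G) →* G ⧸ R := (QuotientGroup.mk' R).comp (P : Subgroup G).subtype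
  have hinj : Function.Injective π := by
    rw [injective_iff_map_eq_one]
    intro p hp
    have hpR : (p : G) ∈ R := (QuotientGroup.eq_one_iff _).mp hp
    obtain ⟨j, hj⟩ := P.isPGroup' p
    have h1 : (p : G) ^ 2 ^ j = 1 := congrArg Subtype.val hj
    have h2 : (p : G) ^ Nat.card R = 1 := congrArg Subtype.val (pow_card_eq_one' (x := (⟨p, hpR⟩ : R)))
    have h3 := pow_gcd_eq_one.mpr ⟨h1, h2⟩
    rw [Nat.Coprime.gcd_eq_one ((Nat.prime_two.coprime_iff_not_dvd.mpr hodd).pow_left j), pow_one] at h3
    exact Subtype.ext h3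
  have hq : IsPGroup 2 (G ⧸ R) := IsPGroup.of_card (n := a) (by
    rw [← Subgroup.index_eq_card]
    have h1 := R.card_mul_index
    rw [hcard, mul_comm (2 ^ a)] at h1
    exact Nat.eq_of_mul_eq_mul_left Nat.card_pos h1)
  have hsurj : Function.Surjective π := by
    let P' : Sylow 2 (G ⧸ R) := P.mapSurjective (f := QuotientGroup.mk' R) (QuotientGroup.mk'_surjective R)
    have htop : (P' : Subgroup (G ⧸ R)) = ⊤ := (P'.is_maximal' (hq.to_subgroup _) le_top).symm
    intro y
    obtain ⟨p, hp, e⟩ : y ∈ (P' : Subgroup (G ⧸ R)) := htop ▸ Subgroup.mem_top y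
    exact ⟨⟨p, hp⟩, e⟩
  let e := MulEquiv.ofBijective π ⟨hinj, hsurj⟩
  let f : G →* DihedralGroup 2 :=
    ((quatToKlein (2 ^ k) hk).comp (e.symm.trans i).toMonoidHom).comp (QuotientGroup.mk' R)
  refine ⟨f, ((quatToKlein_surjective _ hk).comp (e.symm.trans i).surjective).comp (QuotientGroup.mk'_surjective R), ?_⟩
  refine isZGroup_of_two h f.ker fun Q => ?_
  let θ : (Q : Subgroup f.ker) →* QuaternionGroup (2 ^ k) :=
    ((e.symm.trans i).toMonoidHom.comp (QuotientGroup.mk' R)).comp (f.ker.subtype.comp (Q : Subgroup f.ker).subtype)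
  have hθ : Function.Injective θ := by
    rw [injective_iff_map_eq_one]
    intro p hp
    have h0 : QuotientGroup.mk' R ((p : f.ker) : G) = 1 :=
      (e.symm.trans i).injective (by rw [map_one]; exact hp)
    have hpR : ((p : f.ker) : G) ∈ R := (QuotientGroup.eq_one_iff _).mp h0
    obtain ⟨j, hj⟩ := Q.isPGroup' p
    have h1 : ((p : f.ker) : G) ^ 2 ^ j = 1 := congrArg (fun x : (Q : Subgroup f.ker) => ((x : f.ker) : G)) hj
    have h2 : ((p : f.ker) : G) ^ Nat.card R = 1 :=
      congrArg Subtype.val (pow_card_eq_one' (x := (⟨_, hpR⟩ : R)))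
    have h3 := pow_gcd_eq_one.mpr ⟨h1, h2⟩
    rw [Nat.Coprime.gcd_eq_one ((Nat.prime_two.coprime_iff_not_dvd.mpr hodd).pow_left j), pow_one] at h3
    exact Subtype.ext (Subtype.ext h3)
  let θ' : (Q : Subgroup f.ker) →* Subgroup.zpowers (QuaternionGroup.a 1 : QuaternionGroup (2 ^ k)) :=
    θ.codRestrict _ (fun p => quatToKlein_ker _ hk _ (MonoidHom.mem_ker.mp (p : f.ker).2))
  exact isCyclic_of_injective θ' (fun x y hxy => hθ (congrArg Subtype.val hxy))

/-- The two possible shapes of a solvable group. -/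
theorem exists_kernel_of_solvable (h : Fpf ρ) [Group.IsSolvable G] (hnZ : ¬ IsZGroup G) :
    (∃ f : G →* DihedralGroup 2, Function.Surjective f ∧ IsZGroup f.ker) ∨
      (∃ f : G →* alternatingGroup (Fin 4), Function.Surjective f ∧ IsZGroup f.ker) ∨
      (∃ f : G →* Equiv.Perm (Fin 4), Function.Surjective f ∧ IsZGroup f.ker) := by
  haveI : Fact (Nat.Prime 2) := ⟨Nat.prime_two⟩
  haveI : FiniteDimensional (ZMod r) V := Module.Finite.of_finite
  obtain ⟨B, -, hBn, hBc, hcase⟩ := dichotomy h (⊤ : Subgroup G)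
  haveI := hBn
  haveI := hBc
  rcases hcase with hself | ⟨Q, -, hQn, ⟨e⟩⟩
  · -- self-centralising cyclic normal subgroup: abelian quotient
    left
    rw [top_inf_eq] at hself
    have hab : ∀ x y : G, x * y * x⁻¹ * y⁻¹ ∈ B := by
      intro x y
      rw [← hself, Subgroup.mem_centralizer_iff]
      intro b hb
      let cj : G →* MulAut B := MulAut.conjNormal
      obtain ⟨m, hm⟩ := MonoidHom.map_cyclic (cj x).toMonoidHom
      obtain ⟨l, hl⟩ := MonoidHom.map_cyclic (cj y).toMonoidHom
      have hc : cj x * cj y = cj y * cj x := MulEquiv.ext fun b => by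
        show cj x (cj y b) = cj y (cj x b)
        rw [show cj y b = b ^ l from hl b, show cj x b = b ^ m from hm b, map_zpow, map_zpow,
          show cj x b = b ^ m from hm b, show cj y b = b ^ l from hl b, zpow_comm]
      have h1 : cj (x * y * x⁻¹ * y⁻¹) = 1 := by
        rw [map_mul, map_mul, map_mul, map_inv, map_inv, hc]
        group
      have h2 := congrArg Subtype.val (DFunLike.congr_fun h1 (⟨b, hb⟩ : B))
      rw [MulAut.one_apply, MulAut.conjNormal_apply] at h2
      exact (mul_inv_eq_iff_eq_mul.mp h2).symm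
    set M := ordCompl[2] (Nat.card G) with hM
    haveI hmc : IsMulCommutative (G ⧸ B) := by
      refine ⟨⟨fun p q => ?_⟩⟩
      obtain ⟨x, rfl⟩ := QuotientGroup.mk'_surjective B p
      obtain ⟨y, rfl⟩ := QuotientGroup.mk'_surjective B q
      rw [← mul_inv_eq_one, ← map_mul, ← map_mul, ← map_inv, ← map_mul, ← MonoidHom.mem_ker, QuotientGroup.ker_mk',
        mul_inv_rev, ← mul_assoc]
      exact hab x y
    letI : CommGroup (G ⧸ B) := { (inferInstance : Group (G ⧸ B)) with mul_comm := fun p q => mul_comm' p q }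
    let H : Subgroup G := ((powMonoidHom M).comp (QuotientGroup.mk' B) : G →* G ⧸ B).ker
    have hM2 : ¬ 2 ∣ M := Nat.not_dvd_ordCompl Nat.prime_two Nat.card_pos.ne'
    have hHc : ∀ P : Sylow 2 H, IsCyclic P := by
      intro P
      let ι : (P : Subgroup H) →* B := (H.subtype.comp (P : Subgroup H).subtype).codRestrict B (fun p => by
        show ((p : H) : G) ∈ B
        rw [← QuotientGroup.eq_one_iff]
        obtain ⟨j, hj⟩ := P.isPGroup' p
        have h1 : (((p : H) : G) : G ⧸ B) ^ 2 ^ j = 1 := by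
          rw [← QuotientGroup.mk_pow]
          exact congrArg (fun x : G => (x : G ⧸ B)) (congrArg (fun x : (P : Subgroup H) => ((x : H) : G)) hj)
        have h2 : (((p : H) : G) : G ⧸ B) ^ M = 1 := MonoidHom.mem_ker.mp (p : H).2
        have h3 := pow_gcd_eq_one.mpr ⟨h1, h2⟩
        rwa [Nat.Coprime.gcd_eq_one ((Nat.prime_two.coprime_iff_not_dvd.mpr hM2).pow_left j), pow_one] at h3)
      exact isCyclic_of_injective ι fun x y hxy =>
        Subtype.ext (Subtype.ext (congrArg (fun b : B => (b : G)) hxy))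
    obtain ⟨R, hRn, hodd, a, ha⟩ := odd_complement H hHc
    haveI := hRn
    have hidx : ∃ b, H.index = 2 ^ b := by
      have hp : IsPGroup 2 (G ⧸ H) := by
        intro q
        obtain ⟨x, rfl⟩ := QuotientGroup.mk'_surjective H q
        refine ⟨(Nat.card G).factorization 2, ?_⟩
        rw [← map_pow, ← MonoidHom.mem_ker, QuotientGroup.ker_mk']
        show ((x ^ 2 ^ _ : G) : G ⧸ B) ^ M = 1
        rw [← QuotientGroup.mk_pow, ← pow_mul, hM, Nat.ordProj_mul_ordCompl_eq_self, pow_card_eq_one']
        rfl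
      obtain ⟨b, hb⟩ := hp.exists_card_eq
      exact ⟨b, by rw [Subgroup.index_eq_card]; exact hb⟩
    obtain ⟨b, hb⟩ := hidx
    exact klein_of_odd h hnZ R hodd (a := b + a) (by rw [← H.card_mul_index, ha, hb, pow_add]; ring)
  · -- normal quaternion subgroup
    haveI := hQn
    set C := Subgroup.centralizer (Q : Set G) with hC
    have hCc : ∀ P : Sylow 2 C, IsCyclic P := by
      intro P
      rcases sylow_cases h C P with hc | ⟨-, k, ⟨i⟩⟩
      · exact hc
      · exfalso
        have h4 : (QuaternionGroup.xa 0 : QuaternionGroup (2 ^ k)) ^ 4 = 1 := QuaternionGroup.xa_pow_four 0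
        have h2 : (QuaternionGroup.xa 0 : QuaternionGroup (2 ^ k)) * QuaternionGroup.xa 0 ≠ 1 := by
          haveI : NeZero (2 ^ k) := ⟨(Nat.two_pow_pos k).ne'⟩
          intro e0
          have := orderOf_dvd_of_pow_eq_one (show (QuaternionGroup.xa 0 : QuaternionGroup (2 ^ k)) ^ 2 = 1 by rw [pow_two, e0])
          rw [QuaternionGroup.orderOf_xa] at this
          norm_num at this
        let u := i.symm (QuaternionGroup.xa 0)
        have hu4 : ((u : C) : G) ^ 4 = 1 := by
          have : u ^ 4 = 1 := by rw [← map_pow, h4, map_one]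
          exact congrArg (fun x : (P : Subgroup C) => ((x : C) : G)) this
        have hu2 := sq_eq_one_of_pow_four h e (u : C).2 hu4
        apply h2
        apply i.symm.injective
        rw [map_mul, map_one]
        exact Subtype.ext (Subtype.ext hu2)
    by_cases h3 : 3 ∣ C.index
    · -- tetrahedral or octahedral quotient
      right
      obtain ⟨α⟩ := Cfsg.Agent.S3742.result
      let ψ : G →* Equiv.Perm (Fin 4) := (α.toMonoidHom.comp (MulAut.congr e).toMonoidHom).comp MulAut.conjNormal
      have hker : ψ.ker = C := by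
        ext g
        rw [MonoidHom.mem_ker, hC, Subgroup.mem_centralizer_iff]
        have key : ψ g = 1 ↔ (MulAut.conjNormal g : MulAut Q) = 1 := by
          show α (MulAut.congr e (MulAut.conjNormal g)) = 1 ↔ _
          rw [EmbeddingLike.map_eq_one_iff, EmbeddingLike.map_eq_one_iff]
        rw [key]
        constructor
        · intro hg c hc
          have h1 := congrArg Subtype.val (DFunLike.congr_fun hg (⟨c, hc⟩ : Q))
          rw [MulAut.conjNormal_apply, MulAut.one_apply] at h1
          exact (mul_inv_eq_iff_eq_mul.mp h1).symm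
        · intro hg
          refine MulEquiv.ext fun c => Subtype.ext ?_
          rw [MulAut.conjNormal_apply, MulAut.one_apply, ← hg c c.2, mul_inv_cancel_right]
      have h4 : 4 ∣ C.index := by
        refine dvd_trans ?_ (C.relIndex_dvd_index_of_normal (K := Q))
        show 4 ∣ (C.subgroupOf Q).index
        have hcen : C.subgroupOf Q = Subgroup.center Q := by
          ext g
          rw [Subgroup.mem_subgroupOf, hC, Subgroup.mem_centralizer_iff, Subgroup.mem_center_iff]
          exact ⟨fun hg k => Subtype.ext (hg k k.2), fun hg k hk => congrArg Subtype.val (hg ⟨k, hk⟩)⟩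
        rw [hcen]
        have hcc : Nat.card (Subgroup.center Q) = 2 := by
          have hq : Nat.card (Subgroup.center (QuaternionGroup 2)) = 2 := by
            rw [Nat.card_eq_fintype_card]; decide +kernel
          rw [← hq]
          exact Nat.card_congr (Subgroup.centerCongr e).toEquiv
        have h8 : Nat.card Q = 8 := by
          rw [Nat.card_congr e.toEquiv, Nat.card_eq_fintype_card, QuaternionGroup.card]
        have := (Subgroup.center Q).card_mul_index
        rw [hcc, h8] at this
        omega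
      have hd : C.index ∣ 24 := index_centralizer_dvd e
      have hrange : Nat.card ψ.range = C.index := by rw [← hker, Subgroup.index_ker]
      have hS4 : Nat.card (Equiv.Perm (Fin 4)) = 24 := by rw [Nat.card_perm, Nat.card_fin]; rfl
      have hidx := ψ.range.card_mul_index
      rw [hrange, hS4] at hidx
      have h12 : C.index = 12 ∨ C.index = 24 := by
        have h12 : 12 ∣ C.index := Nat.Coprime.mul_dvd_of_dvd_of_dvd (by norm_num : Nat.Coprime 4 3) h4 h3
        obtain ⟨t, ht⟩ := h12
        rw [ht] at hidx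
        have ht2 : t * ψ.range.index = 2 := by nlinarith
        rcases (Nat.dvd_prime Nat.prime_two).mp (Dvd.intro _ ht2) with e1 | e1 <;> subst e1 <;> omega
      have hZ : IsZGroup C := isZGroup_of_two h C hCc
      rcases h12 with h12 | h12
      · left
        have hi2 : ψ.range.index = 2 := by rw [h12] at hidx; omega
        have halt := Equiv.Perm.eq_alternatingGroup_of_index_eq_two hi2
        refine ⟨ψ.codRestrict (alternatingGroup (Fin 4)) (fun g => halt ▸ ⟨g, rfl⟩), fun y => ?_, ?_⟩
        · obtain ⟨g, hg⟩ : (y : Equiv.Perm (Fin 4)) ∈ ψ.range := halt.symm ▸ y.2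
          exact ⟨g, Subtype.ext hg⟩
        · rwa [MonoidHom.ker_codRestrict, hker]
      · right
        refine ⟨ψ, ?_, by rwa [hker]⟩
        rw [← MonoidHom.range_eq_top]
        exact Subgroup.eq_top_of_card_eq _ (by rw [hrange, h12, hS4])
    · -- two-quotient
      left
      obtain ⟨R, hRn, hodd, a, ha⟩ := odd_complement C hCc
      haveI := hRn
      have hd : C.index ∣ 8 := by
        have hd : C.index ∣ 8 * 3 := index_centralizer_dvd e
        exact ((Nat.prime_three.coprime_iff_not_dvd.mpr h3).symm).dvd_of_dvd_mul_right hd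
      obtain ⟨b, -, hb⟩ := (Nat.dvd_prime_pow Nat.prime_two (m := 3)).mp (by simpa using hd)
      exact klein_of_odd h hnZ R hodd (a := b + a) (by rw [← C.card_mul_index, ha, hb, pow_add]; ring)

end CfsgLib.Recognition.Zassenhaus
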