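import Mathlib
import Cfsg.Agent.Lib.Recognition.Zassenhaus.Solvable

/-!
The kernel with cyclic Sylow subgroups of a fixed-point-free group.
-/

set_option linter.style.haveILetI false
set_option linter.unusedSectionVars false

namespace CfsgLib.Recognition.Zassenhaus

open NearField

universe v

variable {r : ℕ} [Fact r.Prime] {V : Type v} [AddCommGroup V] [Module (ZMod r) V] [Finite V] [Nontrivial V]
  {G : Type*} [Group G] [Finite G] {ρ : G →* Module.End (ZMod r) V}

/-- The nonsolvable case. -/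
theorem exists_kernel_of_nonsolvable (h : Fpf ρ) (hns : ¬ Group.IsSolvable G) :
    (∃ f : G →* alternatingGroup (Fin 5), Function.Surjective f ∧ IsZGroup f.ker) ∨
      (∃ f : G →* Equiv.Perm (Fin 5), Function.Surjective f ∧ IsZGroup f.ker) := by
  haveI : Fact (Nat.Prime 2) := ⟨Nat.prime_two⟩
  obtain ⟨h2, -, hR⟩ := noTorsion_of_nonsolvable h hns
  obtain ⟨z, hz⟩ := exists_center_neg h h2
  obtain ⟨K, hKn, hK, hall, hgen, ⟨c⟩⟩ := exists_five_normal h hR hz hns
  haveI := hKn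
  obtain ⟨M, hMn, -, hKM, h30, hC, -⟩ := centralizer_five h hR hz hK hall (by rw [c.card]; norm_num)
  obtain ⟨φ, hφ⟩ := exists_perm_five h hR hz hK hgen
  have hZ : IsZGroup φ.ker := isZGroup_of_two h φ.ker fun P => by
    rcases sylow_cases h φ.ker P with hc | ⟨-, k, ⟨i⟩⟩
    · exact hc
    · exfalso
      have h4 : 4 ∣ 2 * Nat.card M := by
        rw [← hC, ← hφ]
        refine Dvd.dvd.trans ?_ (Subgroup.card_subgroup_dvd_card (P : Subgroup φ.ker))
        rw [Nat.card_congr i.toEquiv, Nat.card_eq_fintype_card, QuaternionGroup.card]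
        exact dvd_mul_right 4 _
      have h2M : 2 ∣ Nat.card M := (Nat.mul_dvd_mul_iff_left two_pos).mp (show 2 * 2 ∣ 2 * Nat.card M from h4)
      exact absurd (Nat.dvd_gcd h2M (show 2 ∣ 30 by norm_num)) (by rw [h30.gcd_eq_one]; norm_num)
  have hd : 120 * Nat.card M ∣ Nat.card G := by
    refine Nat.Coprime.mul_dvd_of_dvd_of_dvd ?_ (c.card ▸ Subgroup.card_subgroup_dvd_card K)
      (Subgroup.card_subgroup_dvd_card M)
    have h2 : (Nat.card M).Coprime 2 := h30.coprime_dvd_right (by norm_num)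
    have h3 : (Nat.card M).Coprime 3 := h30.coprime_dvd_right (by norm_num)
    have h5 : (Nat.card M).Coprime 5 := h30.coprime_dvd_right (by norm_num)
    rw [show (120 : ℕ) = 2 ^ 3 * 3 * 5 by norm_num]
    exact (((h2.pow_right 3).mul_right h3).mul_right h5).symm
  rw [← φ.ker.card_mul_index, hφ, hC, show 120 * Nat.card M = 2 * Nat.card M * 60 by ring] at hd
  have h60 : 60 ∣ Nat.card φ.range := by
    rw [← Subgroup.index_ker, hφ]
    exact (Nat.mul_dvd_mul_iff_left (Nat.mul_pos two_pos Nat.card_pos)).mp hd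
  have hS5 : Nat.card (Equiv.Perm (Fin 5)) = 120 := by rw [Nat.card_perm, Nat.card_fin]; rfl
  have hidx := φ.range.card_mul_index
  rw [hS5] at hidx
  obtain ⟨t, ht⟩ := h60
  rw [ht] at hidx
  have ht2 : t * φ.range.index = 2 := by nlinarith
  rcases (Nat.dvd_prime Nat.prime_two).mp (Dvd.intro _ ht2) with e | e <;> subst e
  · left
    have halt := Equiv.Perm.eq_alternatingGroup_of_index_eq_two (show φ.range.index = 2 by omega)
    refine ⟨φ.codRestrict (alternatingGroup (Fin 5)) (fun g => halt ▸ ⟨g, rfl⟩), fun y => ?_, ?_⟩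
    · obtain ⟨g, hg⟩ : (y : Equiv.Perm (Fin 5)) ∈ φ.range := halt.symm ▸ y.2
      exact ⟨g, Subtype.ext hg⟩
    · rwa [MonoidHom.ker_codRestrict]
  · right
    refine ⟨φ, ?_, hZ⟩
    rw [← MonoidHom.range_eq_top]
    exact Subgroup.eq_top_of_card_eq _ (by rw [ht, hS5])

/-- The possible kernels. -/
def KernelShape (N : Subgroup G) : Prop :=
  N = ⊤ ∨
    (∃ f : G →* DihedralGroup 2, Function.Surjective f ∧ f.ker = N) ∨
    (∃ f : G →* alternatingGroup (Fin 4), Function.Surjective f ∧ f.ker = N) ∨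
    (∃ f : G →* Equiv.Perm (Fin 4), Function.Surjective f ∧ f.ker = N) ∨
    (∃ f : G →* alternatingGroup (Fin 5), Function.Surjective f ∧ f.ker = N) ∨
    (∃ f : G →* Equiv.Perm (Fin 5), Function.Surjective f ∧ f.ker = N)

theorem KernelShape.valid {N : Subgroup G} (hN : KernelShape N) : ValidQ N := by
  rcases hN with e | e | ⟨f, hs, hk⟩ | ⟨f, hs, hk⟩ | ⟨f, hs, hk⟩ | ⟨f, hs, hk⟩
  · exact Or.inl e
  · exact Or.inr (Or.inl e)
  · haveI : Nontrivial (alternatingGroup (Fin 4)) := alternatingGroup.nontrivial_of_three_le_card (by simp)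
    exact Or.inr (Or.inr ⟨_, inferInstance, inferInstance, f, inferInstance, noZ_alt_four, hs, hk⟩)
  · exact Or.inr (Or.inr ⟨_, inferInstance, inferInstance, f, inferInstance, noZ_perm_four, hs, hk⟩)
  · haveI : Nontrivial (alternatingGroup (Fin 5)) := alternatingGroup.nontrivial_of_three_le_card (by simp)
    exact Or.inr (Or.inr ⟨_, inferInstance, inferInstance, f, inferInstance, noZ_alt_five, hs, hk⟩)
  · exact Or.inr (Or.inr ⟨_, inferInstance, inferInstance, f, inferInstance, noZ_perm_five, hs, hk⟩)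

/-- Existence and uniqueness of the kernel. -/
theorem existsUnique_kernel (h : Fpf ρ) : ∃! N : Subgroup G, N.Normal ∧ IsZGroup N ∧ KernelShape N := by
  haveI : Fact (Nat.Prime 2) := ⟨Nat.prime_two⟩
  have hP : ∀ P : Sylow 2 G, IsCyclic P ∨ ∃ n, Nonempty (P ≃* QuaternionGroup n) := fun P =>
    (sylow_cases' h P).imp id fun ⟨_, n, e⟩ => ⟨2 ^ n, e⟩
  have hex : ∃ N : Subgroup G, N.Normal ∧ IsZGroup N ∧ KernelShape N := by
    by_cases hZ : IsZGroup G
    · exact ⟨⊤, inferInstance, inferInstance, Or.inl rfl⟩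
    by_cases hs : Group.IsSolvable G
    · rcases exists_kernel_of_solvable h hZ with ⟨f, hf, hk⟩ | ⟨f, hf, hk⟩ | ⟨f, hf, hk⟩
      · exact ⟨f.ker, inferInstance, hk, Or.inr (Or.inl ⟨f, hf, rfl⟩)⟩
      · exact ⟨f.ker, inferInstance, hk, Or.inr (Or.inr (Or.inl ⟨f, hf, rfl⟩))⟩
      · exact ⟨f.ker, inferInstance, hk, Or.inr (Or.inr (Or.inr (Or.inl ⟨f, hf, rfl⟩)))⟩
    · rcases exists_kernel_of_nonsolvable h hs with ⟨f, hf, hk⟩ | ⟨f, hf, hk⟩
      · exact ⟨f.ker, inferInstance, hk, Or.inr (Or.inr (Or.inr (Or.inr (Or.inl ⟨f, hf, rfl⟩))))⟩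
      · exact ⟨f.ker, inferInstance, hk, Or.inr (Or.inr (Or.inr (Or.inr (Or.inr ⟨f, hf, rfl⟩))))⟩
  obtain ⟨N, hN⟩ := hex
  exact ⟨N, hN, fun N' hN' => unique_kernel hP hN'.1 hN.1 hN'.2.1 hN.2.1 hN'.2.2.valid hN.2.2.valid⟩

end CfsgLib.Recognition.Zassenhaus

namespace CfsgLib.Recognition.Zassenhaus

/-- Existence and uniqueness of the kernel for a Frobenius complement. -/
theorem frobenius_kernel_shape {G : Type*} [Group G] [Finite G] {L : Type} [Group L] [Finite L] {H : Subgroup L}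
    (hH : Cfsg.IsFrobeniusComplement H) (e : G ≃* H) :
    ∃! N : Subgroup G, N.Normal ∧ IsZGroup N ∧ KernelShape N := by
  by_cases h2 : 2 ∣ Nat.card H
  · obtain ⟨r, _, V, _, _, _, _, ρ, hρ⟩ := exists_rep hH h2 e
    exact existsUnique_kernel hρ
  obtain ⟨N₀, -, hN1, hHN, hfpf, -, -⟩ := CfsgLib.FrobRealize.FPF.exists_fpf_kernel hH
  haveI : IsZGroup H := ⟨fun p hp P => by
    haveI := Fact.mk hp
    rcases CfsgLib.FrobRealize.FPF.sylow_cyclic_or_quaternion hN1 hHN hfpf P with h | ⟨rfl, n, ⟨i⟩⟩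
    · exact h
    · exfalso
      refine h2 (Dvd.dvd.trans ?_ (Subgroup.card_subgroup_dvd_card (P : Subgroup H)))
      rw [Nat.card_congr i.toEquiv, Nat.card_eq_fintype_card, QuaternionGroup.card]
      omega⟩
  haveI : IsZGroup G := IsZGroup.of_injective (f := e.toMonoidHom) e.injective
  haveI : Fact (Nat.Prime 2) := ⟨Nat.prime_two⟩
  refine ⟨⊤, ⟨inferInstance, inferInstance, Or.inl rfl⟩, fun N' hN' => ?_⟩
  exact unique_kernel (fun P => Or.inl inferInstance) hN'.1 inferInstance hN'.2.1 inferInstance hN'.2.2.valid (Or.inl rfl)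

end CfsgLib.Recognition.Zassenhaus
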