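import Mathlib
import Cfsg.Agent.Lib.Recognition.Zassenhaus.Kernel
import Cfsg.Agent.Lib.FrobRealize.Transfer
import Cfsg.Agent.S0041

/-!
Presentation of a group with cyclic Sylow subgroups in which groups of order `pq` are cyclic.
-/

set_option linter.style.haveILetI false
set_option linter.unusedSectionVars false

namespace CfsgLib.Recognition.Zassenhaus

open scoped Pointwise commutatorElement

/-- Elements of distinct prime orders commute when one normalises the other. -/
def PQ (G : Type*) [Group G] : Prop :=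
  ∀ (p q : ℕ) (u w : G), p.Prime → q.Prime → p ≠ q → orderOf u = p → orderOf w = q →
    (∃ k : ℤ, u * w * u⁻¹ = w ^ k) → u * w = w * u

theorem pq_of_complement {G : Type*} [Group G] [Finite G] {L : Type} [Group L] [Finite L] {H : Subgroup L}
    (hH : Cfsg.IsFrobeniusComplement H) (e : G ≃* H) : PQ G := by
  intro p q u w hp hq hne hu hw hk
  obtain ⟨V, hV, hHV, hfpf, hVc⟩ := CfsgLib.FrobRealize.Transfer.free_int_of_complement.exists_abelian hH
  haveI : IsMulCommutative V := ⟨⟨fun a b => Subtype.ext (hVc a a.2 b b.2)⟩⟩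
  let i : G →* L := H.subtype.comp e.toMonoidHom
  have hi : Function.Injective i := H.subtype_injective.comp e.injective
  have hle : Subgroup.zpowers u ≤ Subgroup.normalizer (Subgroup.zpowers w : Set G) := by
    rw [Subgroup.zpowers_le]
    refine CfsgLib.Coprime.mem_normalizer_of_conj_map_le ?_
    obtain ⟨k, hk⟩ := hk
    intro x hx
    obtain ⟨l, rfl⟩ := Subgroup.mem_zpowers_iff.mp hx
    refine Subgroup.mem_zpowers_iff.mpr ⟨k * l, ?_⟩
    rw [zpow_mul, ← hk, conj_zpow]
  let A := (Subgroup.zpowers u ⊔ Subgroup.zpowers w).map i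
  have hAH : A ≤ H := by
    rintro _ ⟨x, -, rfl⟩
    exact (e x).2
  have hcard : Nat.card (Subgroup.zpowers u ⊔ Subgroup.zpowers w : Subgroup G) = p * q := by
    have hdisj : Disjoint (Subgroup.zpowers u) (Subgroup.zpowers w) :=
      Subgroup.disjoint_of_coprime_natCard (by rw [Nat.card_zpowers, Nat.card_zpowers, hu, hw]; exact (Nat.coprime_primes hp hq).mpr hne)
    let W := Subgroup.zpowers w
    let U := Subgroup.zpowers u
    let f : U × W → (U ⊔ W : Subgroup G) := fun x =>
      ⟨x.1.1 * x.2.1, Subgroup.mul_mem _ (Subgroup.mem_sup_left x.1.2) (Subgroup.mem_sup_right x.2.2)⟩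
    have hf : Function.Bijective f := by
      refine ⟨fun x y hxy => ?_, fun z => ?_⟩
      · have h1 := congrArg Subtype.val hxy
        have h2 := Subgroup.mul_injective_of_disjoint hdisj h1
        exact h2
      · have hz : (z : G) ∈ ((U ⊔ W : Subgroup G) : Set G) := z.2
        rw [Subgroup.coe_mul_of_left_le_normalizer_right U W hle] at hz
        obtain ⟨a, ha, b, hb, hab⟩ := hz
        exact ⟨(⟨a, ha⟩, ⟨b, hb⟩), Subtype.ext hab⟩
    rw [← Nat.card_congr (Equiv.ofBijective f hf), Nat.card_prod, Nat.card_zpowers, Nat.card_zpowers, hu, hw]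
  have hAc := Cfsg.Agent.S0041.result A V hV (hAH.trans hHV) (fun a ha => hfpf a (hAH ha))
    (Or.inr ⟨p, q, hp, hq, by rw [Subgroup.card_map_of_injective hi, hcard]⟩)
  letI := hAc.commGroup
  refine hi ?_
  have h1 : (⟨i u, Subgroup.mem_map_of_mem i (Subgroup.mem_sup_left (Subgroup.mem_zpowers u))⟩ : A) *
      ⟨i w, Subgroup.mem_map_of_mem i (Subgroup.mem_sup_right (Subgroup.mem_zpowers w))⟩ =
      ⟨i w, Subgroup.mem_map_of_mem i (Subgroup.mem_sup_right (Subgroup.mem_zpowers w))⟩ *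
      ⟨i u, Subgroup.mem_map_of_mem i (Subgroup.mem_sup_left (Subgroup.mem_zpowers u))⟩ := mul_comm _ _
  rw [map_mul, map_mul]
  exact congrArg Subtype.val h1

theorem PQ.of_injective {G H : Type*} [Group G] [Group H] (hG : PQ G) (f : H →* G) (hf : Function.Injective f) : PQ H :=
  fun p q u w hp hq hne hu hw ⟨k, hk⟩ => hf (by
    rw [map_mul, map_mul]
    exact hG p q (f u) (f w) hp hq hne (by rw [orderOf_injective f hf, hu]) (by rw [orderOf_injective f hf, hw])
      ⟨k, by rw [← map_inv, ← map_mul, ← map_mul, hk, map_zpow]⟩)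

/-- A residue with unit-like power sum is one. -/
theorem eq_one_of_pow_eq_one {m p : ℕ} [NeZero m] (hp : p.Prime) (hpm : p.Coprime m) {s : ZMod m} (hs : s ^ p = 1)
    (hq : ∀ q : ℕ, q.Prime → ∀ h : q ∣ m, ZMod.castHom h (ZMod q) s = 1) : s = 1 := by
  have h := geom_sum_mul s p
  rw [hs, sub_self] at h
  have hu : IsUnit (∑ i ∈ Finset.range p, s ^ i) := by
    have hv : (∑ i ∈ Finset.range p, s ^ i) = ((∑ i ∈ Finset.range p, s ^ i).val : ZMod m) :=
      (ZMod.natCast_zmod_val _).symm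
    rw [hv, ZMod.isUnit_iff_coprime]
    refine Nat.coprime_of_dvd fun q hqp hqv hqm => ?_
    haveI := Fact.mk hqp
    have h1 := congrArg (ZMod.castHom hqm (ZMod q)) hv
    rw [map_natCast, (ZMod.natCast_eq_zero_iff _ _).mpr hqv, map_sum] at h1
    simp only [map_pow, hq q hqp hqm, one_pow, Finset.sum_const, Finset.card_range, nsmul_one] at h1
    rw [ZMod.natCast_eq_zero_iff] at h1
    exact hqp.one_lt.ne' (Nat.eq_one_of_dvd_coprimes hpm h1 hqm)
  exact sub_eq_zero.mp (hu.mul_right_eq_zero.mp h)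

/-- The relations of a metacyclic presentation. -/
abbrev metaRels (n m r : ℕ) : Set (FreeGroup (Fin 2)) :=
  {FreeGroup.of (0 : Fin 2) ^ n, FreeGroup.of (1 : Fin 2) ^ m,
    (FreeGroup.of (0 : Fin 2))⁻¹ * FreeGroup.of 1 * FreeGroup.of 0 * (FreeGroup.of (1 : Fin 2) ^ r)⁻¹}

/-- A presented metacyclic group is at most the product of the orders. -/
theorem presented_forms (n m r : ℕ) (hn : 0 < n) (hm : 0 < m) :
    Function.Surjective (fun ij : Fin n × Fin m =>
      (PresentedGroup.of (rels := metaRels n m r) 0) ^ (ij.1 : ℕ) * (PresentedGroup.of (rels := metaRels n m r) 1) ^ (ij.2 : ℕ)) := by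
  set X := PresentedGroup.of (rels := metaRels n m r) 0 with hX
  set Y := PresentedGroup.of (rels := metaRels n m r) 1 with hY
  have h1 : X ^ n = 1 := by
    simpa [hX, PresentedGroup.of, map_pow] using
      PresentedGroup.one_of_mem (rels := metaRels n m r) (x := FreeGroup.of (0 : Fin 2) ^ n) (Or.inl rfl)
  have h2 : Y ^ m = 1 := by
    simpa [hY, PresentedGroup.of, map_pow] using
      PresentedGroup.one_of_mem (rels := metaRels n m r) (x := FreeGroup.of (1 : Fin 2) ^ m) (Or.inr (Or.inl rfl))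
  have h3 : X⁻¹ * Y * X = Y ^ r := by
    have := PresentedGroup.one_of_mem (rels := metaRels n m r)
      (x := (FreeGroup.of (0 : Fin 2))⁻¹ * FreeGroup.of 1 * FreeGroup.of 0 * (FreeGroup.of (1 : Fin 2) ^ r)⁻¹)
      (Or.inr (Or.inr rfl))
    simpa [hX, hY, PresentedGroup.of, map_pow, mul_inv_eq_one] using this
  have hnorm : ∀ i j : ℕ, ∃ a b : ℕ, a < n ∧ b < m ∧ X ^ i * Y ^ j = X ^ a * Y ^ b := fun i j =>
    ⟨i % n, j % m, Nat.mod_lt _ hn, Nat.mod_lt _ hm, by rw [← pow_eq_pow_mod i h1, ← pow_eq_pow_mod j h2]⟩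
  have hcomm : ∀ j : ℕ, Y ^ j * X = X * Y ^ (r * j) := fun j => by
    have h4 : (X⁻¹ * Y * X) ^ j = X⁻¹ * Y ^ j * X := by
      have := conj_pow (a := X⁻¹) (b := Y) (i := j)
      rwa [inv_inv] at this
    rw [h3, ← pow_mul] at h4
    rw [h4, ← mul_assoc, ← mul_assoc, mul_inv_cancel, one_mul]
  have hcomm' : ∀ k j : ℕ, ∃ j', Y ^ j * X ^ k = X ^ k * Y ^ j' := by
    intro k
    induction k with
    | zero => exact fun j => ⟨j, by simp⟩
    | succ k ih =>
      intro j
      obtain ⟨j', hj'⟩ := ih j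
      exact ⟨r * j', by rw [pow_succ X k, ← mul_assoc, hj', mul_assoc, hcomm, ← mul_assoc]⟩
  intro g
  suffices h : ∃ i j : ℕ, g = X ^ i * Y ^ j by
    obtain ⟨i, j, rfl⟩ := h
    obtain ⟨a, b, ha, hb, hab⟩ := hnorm i j
    exact ⟨(⟨a, ha⟩, ⟨b, hb⟩), hab.symm⟩
  have hg : g ∈ Subgroup.closure (Set.range (PresentedGroup.of : Fin 2 → PresentedGroup (metaRels n m r))) := by
    rw [PresentedGroup.closure_range_of]; trivial
  induction hg using Subgroup.closure_induction with
  | mem x hx =>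
    obtain ⟨k, rfl⟩ := hx
    fin_cases k
    · exact ⟨1, 0, by simp [hX]⟩
    · exact ⟨0, 1, by simp [hY]⟩
  | one => exact ⟨0, 0, by simp⟩
  | mul x y _ _ hx hy =>
    obtain ⟨i, j, rfl⟩ := hx
    obtain ⟨k, l, rfl⟩ := hy
    obtain ⟨j', hj'⟩ := hcomm' k j
    exact ⟨i + k, j' + l, by
      rw [pow_add, pow_add]
      calc X ^ i * Y ^ j * (X ^ k * Y ^ l) = X ^ i * (Y ^ j * X ^ k) * Y ^ l := by group
        _ = _ := by rw [hj']; group⟩
  | inv x _ hx =>
    obtain ⟨i, j, rfl⟩ := hx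
    have hx' : (X ^ i)⁻¹ = X ^ (i * (n - 1)) := inv_eq_of_mul_eq_one_right (by
      rw [← pow_add, show i + i * (n - 1) = n * i by
        obtain ⟨n', rfl⟩ := Nat.exists_eq_succ_of_ne_zero hn.ne'; simp; ring, pow_mul, h1, one_pow])
    have hy' : (Y ^ j)⁻¹ = Y ^ (j * (m - 1)) := inv_eq_of_mul_eq_one_right (by
      rw [← pow_add, show j + j * (m - 1) = m * j by
        obtain ⟨m', rfl⟩ := Nat.exists_eq_succ_of_ne_zero hm.ne'; simp; ring, pow_mul, h2, one_pow])
    obtain ⟨j', hj'⟩ := hcomm' (i * (n - 1)) (j * (m - 1))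
    exact ⟨i * (n - 1), j', by rw [mul_inv_rev, hx', hy', hj']⟩

/-- The presentation of a group with cyclic Sylow subgroups. -/
theorem zgroup_presentation {G : Type*} [Group G] [Finite G] [IsZGroup G] (hpq : PQ G) :
    ∃ n m r : ℕ, 0 < n ∧ 0 < m ∧ Nat.Coprime (r - 1) m ∧ Nat.Coprime n m ∧ 1 ≤ r ∧
      r ^ (n / ∏ p ∈ n.primeFactors, p) % m = 1 % m ∧ Nonempty (G ≃* PresentedGroup (metaRels n m r)) := by
  classical
  set N := commutator G with hN
  haveI hNc : IsCyclic N := IsZGroup.isCyclic_commutator G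
  have hcop : (Nat.card N).Coprime N.index := IsZGroup.coprime_commutator_index G
  obtain ⟨H, hH⟩ := Subgroup.exists_right_complement'_of_coprime hcop
  haveI : IsCyclic H := by
    have h1 : Abelianization G ≃* H := hH.symm.QuotientMulEquiv
    exact isCyclic_of_surjective _ h1.surjective
  obtain ⟨⟨y, hyN⟩, hy⟩ := IsCyclic.exists_generator (α := N)
  obtain ⟨⟨x, hxH⟩, hx⟩ := IsCyclic.exists_generator (α := H)
  have hNy : N = Subgroup.zpowers y := by
    refine le_antisymm (fun g hg => ?_) (Subgroup.zpowers_le.mpr hyN)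
    obtain ⟨k, hk⟩ := hy ⟨g, hg⟩
    exact ⟨k, congrArg Subtype.val hk⟩
  have hHx : H = Subgroup.zpowers x := by
    refine le_antisymm (fun g hg => ?_) (Subgroup.zpowers_le.mpr hxH)
    obtain ⟨k, hk⟩ := hx ⟨g, hg⟩
    exact ⟨k, congrArg Subtype.val hk⟩
  set n := orderOf x with hn
  set m := orderOf y with hm
  haveI : NeZero m := ⟨(orderOf_pos y).ne'⟩
  have hnm : Nat.card G = n * m := by
    rw [← hH.card_mul_card, hNy, hHx, Nat.card_zpowers, Nat.card_zpowers, mul_comm]
  have hcnm : n.Coprime m := by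
    have : N.index = n := by rw [hH.symm.index_eq_card, hHx, Nat.card_zpowers]
    rw [this, hNy, Nat.card_zpowers] at hcop
    exact hcop.symm
  obtain ⟨r₀, hr₀⟩ : ∃ r : ℕ, y ^ r = x⁻¹ * y * x := by
    have h1 : x⁻¹ * y * (x⁻¹)⁻¹ ∈ N := (inferInstance : N.Normal).conj_mem y hyN x⁻¹
    rw [inv_inv, hNy, ← mem_powers_iff_mem_zpowers] at h1
    exact h1
  set r := r₀ + m with hrdef
  have hr : y ^ r = x⁻¹ * y * x := by rw [hrdef, pow_add, hm, pow_orderOf_eq_one, mul_one, hr₀]
  have hr1 : 1 ≤ r := by have := NeZero.ne m; omega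
  have hconj : ∀ k : ℕ, (x ^ k)⁻¹ * y * x ^ k = y ^ r ^ k := by
    intro k
    induction k with
    | zero => simp
    | succ k ih =>
      rw [pow_succ x k, mul_inv_rev, show x⁻¹ * (x ^ k)⁻¹ * y * (x ^ k * x) = x⁻¹ * ((x ^ k)⁻¹ * y * x ^ k) * x by group,
        ih, pow_succ' r k, pow_mul, hr]
      have := conj_pow (a := x⁻¹) (b := y) (i := r ^ k)
      rw [inv_inv] at this
      exact this.symm
  have hgen : ∀ g : G, ∃ a b : ℤ, g = x ^ a * y ^ b := by
    intro g
    have hg : g ∈ (H : Set G) * (N : Set G) := by rw [hH.symm.mul_eq]; trivial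
    obtain ⟨u, hu, v, hv, rfl⟩ := hg
    rw [SetLike.mem_coe, hHx] at hu
    rw [SetLike.mem_coe, hNy] at hv
    obtain ⟨a, rfl⟩ := hu
    obtain ⟨b, rfl⟩ := hv
    exact ⟨a, b, rfl⟩
  -- the derived subgroup is generated by the conjugation commutator
  have hcop1 : Nat.Coprime (r - 1) m := by
    set D := Subgroup.zpowers (y ^ (r - 1)) with hD
    have hxy : (x : G)⁻¹ * y * x = y * y ^ (r - 1) := by rw [← pow_succ', Nat.sub_add_cancel hr1, hr]
    haveI hDn : D.Normal := by
      refine ⟨fun d hd g => ?_⟩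
      have hall : ∀ g ∈ ({x⁻¹, y} : Set G), g * y ^ (r - 1) * g⁻¹ ∈ D := by
        rintro g (rfl | rfl)
        · rw [inv_inv, show x⁻¹ * y ^ (r - 1) * x = (x⁻¹ * y * (x⁻¹)⁻¹) ^ (r - 1) by rw [conj_pow, inv_inv], inv_inv,
            ← hr, ← pow_mul, mul_comm r, pow_mul]
          exact Subgroup.pow_mem _ (Subgroup.mem_zpowers _) _
        · rw [((Commute.refl g).pow_right (r - 1)).eq, mul_inv_cancel_right]
          exact Subgroup.mem_zpowers _
      have hnorm : ∀ g ∈ ({x⁻¹, y} : Set G), g ∈ Subgroup.normalizer (D : Set G) := by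
        intro g hg
        refine CfsgLib.Coprime.mem_normalizer_of_conj_map_le ?_
        intro z hz
        obtain ⟨l, rfl⟩ := Subgroup.mem_zpowers_iff.mp hz
        rw [← conj_zpow]
        exact Subgroup.zpow_mem _ (hall g hg) l
      have htop : g ∈ Subgroup.normalizer (D : Set G) := by
        obtain ⟨a, b, rfl⟩ := hgen g
        refine Subgroup.mul_mem _ (Subgroup.zpow_mem _ ?_ a) (Subgroup.zpow_mem _ (hnorm y (Or.inr rfl)) b)
        rw [← inv_inv x]
        exact Subgroup.inv_mem _ (hnorm _ (Or.inl rfl))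
      exact (Subgroup.mem_normalizer_iff.mp htop d).mp hd
    have hle : N ≤ D := by
      rw [hN, commutator_def, Subgroup.commutator_le]
      have hc : Commute (QuotientGroup.mk' D x) (QuotientGroup.mk' D y) := by
        have h1 : QuotientGroup.mk' D (x⁻¹ * y * x) = QuotientGroup.mk' D y := by
          rw [hxy, map_mul, show QuotientGroup.mk' D (y ^ (r - 1)) = 1 from (QuotientGroup.eq_one_iff _).mpr (Subgroup.mem_zpowers _), mul_one]
        rw [map_mul, map_mul, map_inv, mul_assoc, inv_mul_eq_iff_eq_mul] at h1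
        exact h1.symm
      intro u _ v _
      rw [← QuotientGroup.ker_mk' D, MonoidHom.mem_ker, map_commutatorElement, commutatorElement_eq_one_iff_commute]
      obtain ⟨a, b, rfl⟩ := hgen u
      obtain ⟨c, d, rfl⟩ := hgen v
      simp only [map_mul, map_zpow]
      exact ((((Commute.refl _).zpow_zpow a c).mul_right (hc.zpow_zpow a d))).mul_left
        (((hc.symm.zpow_zpow b c)).mul_right ((Commute.refl _).zpow_zpow b d))
    have hyD : y ∈ D := hle hyN
    have hc : Nat.card (Subgroup.zpowers y) ≤ Nat.card D := Nat.le_of_dvd Nat.card_pos (Subgroup.card_dvd_of_le (Subgroup.zpowers_le.mpr hyD))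
    rw [hD, Nat.card_zpowers, Nat.card_zpowers, orderOf_pow, ← hm] at hc
    rcases Nat.eq_zero_or_pos (m.gcd (r - 1)) with h0 | h0
    · exact absurd (Nat.eq_zero_of_gcd_eq_zero_left h0) (NeZero.ne m)
    · have : m.gcd (r - 1) ≤ 1 := by
        by_contra hlt
        exact absurd hc (Nat.not_le.mpr (Nat.div_lt_self (Nat.pos_of_ne_zero (NeZero.ne m)) (by omega)))
      rw [Nat.coprime_comm]
      exact Nat.coprime_iff_gcd_eq_one.mpr (by omega)
  -- powers of `r`
  have hxn : (r : ZMod m) ^ n = 1 := by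
    have := hconj n
    rw [hn, pow_orderOf_eq_one, inv_one, one_mul, mul_one] at this
    have h1 : y ^ r ^ orderOf x = y ^ 1 := by rw [pow_one]; exact this.symm
    rw [pow_eq_pow_iff_modEq, ← hm] at h1
    have := (ZMod.natCast_eq_natCast_iff _ _ m).mpr h1
    simpa using this
  have hpcomm : ∀ p ∈ n.primeFactors, (r : ZMod m) ^ (n / p) = 1 := by
    intro p hp
    obtain ⟨hp, hpn, -⟩ := Nat.mem_primeFactors.mp hp
    refine eq_one_of_pow_eq_one hp (Nat.Coprime.coprime_dvd_left hpn hcnm) ?_ ?_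
    · rw [← pow_mul, Nat.div_mul_cancel hpn, hxn]
    · intro q hq hqm
      haveI := Fact.mk hq
      have hne : p ≠ q := fun e => hp.one_lt.ne' (Nat.eq_one_of_dvd_coprimes hcnm hpn (e ▸ hqm))
      have hu : orderOf ((x ^ (n / p))⁻¹) = p := by
        rw [orderOf_inv, hn, orderOf_pow, Nat.gcd_eq_right (Nat.div_dvd_of_dvd hpn), Nat.div_div_self hpn (orderOf_pos x).ne']
      have hw : orderOf (y ^ (m / q)) = q := by
        rw [orderOf_pow, ← hm, Nat.gcd_eq_right (Nat.div_dvd_of_dvd hqm), Nat.div_div_self hqm (NeZero.ne m)]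
      have hact : (x ^ (n / p))⁻¹ * y ^ (m / q) * ((x ^ (n / p))⁻¹)⁻¹ = (y ^ (m / q)) ^ (r ^ (n / p)) := by
        rw [← conj_pow, inv_inv, hconj, ← pow_mul, ← pow_mul, mul_comm]
      have hc := hpq p q _ _ hp hq hne hu hw ⟨(r ^ (n / p) : ℕ), by rw [zpow_natCast]; exact hact⟩
      have h1 : (y ^ (m / q)) ^ (r ^ (n / p)) = (y ^ (m / q)) ^ 1 := by
        rw [pow_one, ← hact, hc, mul_inv_cancel_right]
      rw [pow_eq_pow_iff_modEq, hw] at h1
      have := (ZMod.natCast_eq_natCast_iff _ _ q).mpr h1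
      rw [map_pow, map_natCast]
      simpa using this
  have hdiv : (r : ZMod m) ^ (n / ∏ p ∈ n.primeFactors, p) = 1 := by
    set d := orderOf (r : ZMod m) with hd
    obtain ⟨k, hk⟩ : d ∣ n := orderOf_dvd_of_pow_eq_one hxn
    have hn0 : 0 < n := orderOf_pos x
    have hd0 : 0 < d := Nat.pos_of_ne_zero fun h0 => by rw [h0, zero_mul] at hk; omega
    have hall : ∀ p ∈ n.primeFactors, p ∣ k := by
      intro p hp
      obtain ⟨hp', hpn, -⟩ := Nat.mem_primeFactors.mp hp
      have h1 : d ∣ n / p := orderOf_dvd_of_pow_eq_one (hpcomm p hp)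
      have h2 : d * p ∣ d * k := by rw [← hk, mul_comm]; exact Nat.mul_dvd_of_dvd_div hpn h1
      exact (Nat.mul_dvd_mul_iff_left hd0).mp h2
    obtain ⟨l, hl⟩ := Finset.prod_primes_dvd k (fun p hp => (Nat.prime_of_mem_primeFactors hp).prime) hall
    rw [← orderOf_dvd_iff_pow_eq_one]
    generalize hP : (∏ p ∈ n.primeFactors, p) = P at hl ⊢
    have hP0 : 0 < P := hP ▸ Finset.prod_pos (fun p hp => (Nat.prime_of_mem_primeFactors hp).pos)
    rw [← hd, hk, hl, show d * (P * l) = P * (d * l) by ring, Nat.mul_div_cancel_left _ hP0]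
    exact dvd_mul_right d l
  -- the isomorphism
  have hrel : ∀ w ∈ metaRels n m r, FreeGroup.lift ![x, y] w = 1 := by
    rintro w (rfl | rfl | rfl)
    · simp [hn, pow_orderOf_eq_one]
    · simp [hm, pow_orderOf_eq_one]
    · simp [hr]
  let F := PresentedGroup.toGroup hrel
  have hF0 : F (PresentedGroup.of 0) = x := by simp [F]
  have hF1 : F (PresentedGroup.of 1) = y := by simp [F]
  have hFs : Function.Surjective F := fun g => by
    obtain ⟨a, b, rfl⟩ := hgen g
    exact ⟨PresentedGroup.of 0 ^ a * PresentedGroup.of 1 ^ b, by rw [map_mul, map_zpow, map_zpow, hF0, hF1]⟩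
  have hn0 : 0 < n := orderOf_pos x
  have hm0 : 0 < m := orderOf_pos y
  have hforms := presented_forms n m r hn0 hm0
  haveI : Finite (PresentedGroup (metaRels n m r)) := Finite.of_surjective _ hforms
  have hle : Nat.card (PresentedGroup (metaRels n m r)) ≤ Nat.card G := by
    rw [hnm]
    exact (Nat.card_le_card_of_surjective _ hforms).trans (by rw [Nat.card_prod, Nat.card_fin, Nat.card_fin])
  refine ⟨n, m, r, hn0, hm0, hcop1, hcnm, hr1, ?_, ⟨(MulEquiv.ofBijective F ((Nat.bijective_iff_surjective_and_card F).mpr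
    ⟨hFs, le_antisymm hle (Nat.card_le_card_of_surjective F hFs)⟩)).symm⟩⟩
  have := (ZMod.natCast_eq_natCast_iff (r ^ (n / ∏ p ∈ n.primeFactors, p)) 1 m).mp (by push_cast; exact hdiv)
  exact this

end CfsgLib.Recognition.Zassenhaus
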