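import Mathlib
import Cfsg.Agent.Lib.Recognition.Zassenhaus.SL25

/-!
The icosahedral presentations, by a coset table of twelve cosets.
-/

set_option linter.style.haveILetI false
set_option linter.unusedSectionVars false
set_option linter.unusedVariables false

namespace CfsgLib.Recognition.Zassenhaus

/-- The twelve representatives. -/
def icosaRep {G : Type*} [Group G] (a b : G) : Fin 12 → G :=
  ![1,
    (a),
    (a * a),
    (b * a * a),
    (a * b * a * a),
    (b * b * a * a),
    (a * a * b * a * a),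
    (a * b * b * a * a),
    (b * a * a * b * a * a),
    (b * b * a * a * b * a * a),
    (a * b * b * a * a * b * a * a),
    (a * a * b * b * a * a * b * a * a)]

theorem icosaRep_map {G K : Type*} [Group G] [Group K] (φ : G →* K) (a b : G) (i : Fin 12) :
    φ (icosaRep a b i) = icosaRep (φ a) (φ b) i := by
  fin_cases i <;> simp [icosaRep]

/-- The orbit of a point fixed by the second generator. -/
theorem icosa_orbit {Q : Type*} (X Y : Equiv.Perm Q) (hX : ∀ q, X (X (X q)) = q) (hY : ∀ q, Y (Y (Y (Y (Y q)))) = q)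
    (hW : ∀ q, X (Y (X (Y q))) = q) (c0 : Q) (h0 : Y c0 = c0) :
    (∀ i, ∃ j, X (icosaRep X Y i c0) = icosaRep X Y j c0) ∧ (∀ i, ∃ j, Y (icosaRep X Y i c0) = icosaRep X Y j c0) := by
  have eY0 : Y c0 = c0 := h0
  let c1 := X c0
  have eX0 : X c0 = c1 := rfl
  let c2 := X c1
  have eX1 : X c1 = c2 := rfl
  have eX2 : X c2 = c0 := by
    have h := hX c0
    rw [eX0, eX1] at h
    exact h
  have eY1 : Y c1 = c2 := by
    have h := hW c0
    rw [eY0, eX0] at h
    have h' : X (c2) = c0 := by rw [eX2]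
    exact X.injective (h.trans h'.symm)
  let c3 := Y c2
  have eY2 : Y c2 = c3 := rfl
  let c4 := X c3
  have eX3 : X c3 = c4 := rfl
  have eY4 : Y c4 = c1 := by
    have h := hW c2
    rw [eY2, eX3] at h
    have h' : X (c1) = c2 := by rw [eX1]
    exact X.injective (h.trans h'.symm)
  let c5 := Y c3
  have eY3 : Y c3 = c5 := rfl
  have eY5 : Y c5 = c4 := by
    have h := hY c1
    rw [eY1, eY2, eY3] at h
    have h' : Y (c4) = c1 := by rw [eY4]
    exact Y.injective (h.trans h'.symm)
  let c6 := X c4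
  have eX4 : X c4 = c6 := rfl
  have eX6 : X c6 = c3 := by
    have h := hX c3
    rw [eX3, eX4] at h
    exact h
  let c7 := X c5
  have eX5 : X c5 = c7 := rfl
  have eY7 : Y c7 = c6 := by
    have h := hW c3
    rw [eY3, eX5] at h
    have h' : X (c6) = c3 := by rw [eX6]
    exact X.injective (h.trans h'.symm)
  let c8 := Y c6
  have eY6 : Y c6 = c8 := rfl
  have eX8 : X c8 = c5 := by
    have h := hW c5
    rw [eY5, eX4, eY6] at h
    exact h
  have eX7 : X c7 = c8 := by
    have h := hX c5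
    rw [eX5] at h
    have h' : X (c8) = c5 := by rw [eX8]
    exact X.injective (h.trans h'.symm)
  let c9 := Y c8
  have eY8 : Y c8 = c9 := rfl
  let c10 := X c9
  have eX9 : X c9 = c10 := rfl
  have eY10 : Y c10 = c7 := by
    have h := hW c8
    rw [eY8, eX9] at h
    have h' : X (c7) = c8 := by rw [eX7]
    exact X.injective (h.trans h'.symm)
  have eY9 : Y c9 = c10 := by
    have h := hY c6
    rw [eY6, eY8] at h
    have h' : Y (Y (c10)) = c6 := by rw [eY10, eY7]
    exact Y.injective (Y.injective (h.trans h'.symm))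
  let c11 := X c10
  have eX10 : X c10 = c11 := rfl
  have eX11 : X c11 = c9 := by
    have h := hX c9
    rw [eX9, eX10] at h
    exact h
  have eY11 : Y c11 = c11 := by
    have h := hW c9
    rw [eY9, eX10] at h
    have h' : X (c11) = c9 := by rw [eX11]
    exact X.injective (h.trans h'.symm)
  refine ⟨fun i => ?_, fun i => ?_⟩ <;> fin_cases i
  · exact ⟨1, eX0⟩
  · exact ⟨2, eX1⟩
  · exact ⟨0, eX2⟩
  · exact ⟨4, eX3⟩
  · exact ⟨6, eX4⟩
  · exact ⟨7, eX5⟩
  · exact ⟨3, eX6⟩
  · exact ⟨8, eX7⟩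
  · exact ⟨5, eX8⟩
  · exact ⟨10, eX9⟩
  · exact ⟨11, eX10⟩
  · exact ⟨9, eX11⟩
  · exact ⟨0, eY0⟩
  · exact ⟨2, eY1⟩
  · exact ⟨3, eY2⟩
  · exact ⟨5, eY3⟩
  · exact ⟨1, eY4⟩
  · exact ⟨4, eY5⟩
  · exact ⟨8, eY6⟩
  · exact ⟨6, eY7⟩
  · exact ⟨9, eY8⟩
  · exact ⟨10, eY9⟩
  · exact ⟨7, eY10⟩
  · exact ⟨11, eY11⟩

/-- A group with the icosahedral relations has at most sixty elements. -/
theorem icosa_forms {G : Type*} [Group G] (a b : G) (ha : a ^ 3 = 1) (hb : b ^ 5 = 1) (hab : (a * b) ^ 2 = 1)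
    (hgen : Subgroup.closure {a, b} = ⊤) :
    Function.Surjective (fun ik : Fin 12 × Fin 5 => icosaRep a b ik.1 * b ^ (ik.2 : ℕ)) := by
  set H := Subgroup.zpowers b with hH
  let X : Equiv.Perm (G ⧸ H) := MulAction.toPermHom G (G ⧸ H) a
  let Y : Equiv.Perm (G ⧸ H) := MulAction.toPermHom G (G ⧸ H) b
  let c0 : G ⧸ H := ((1 : G) : G ⧸ H)
  have hX : ∀ q, X (X (X q)) = q := fun q => by
    show a • a • a • q = q
    rw [smul_smul, smul_smul, ← pow_two, ← pow_succ, ha, one_smul]
  have hY : ∀ q, Y (Y (Y (Y (Y q)))) = q := fun q => by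
    show b • b • b • b • b • q = q
    simp only [smul_smul]
    rw [show b * (b * (b * (b * b))) = b ^ 5 by simp [pow_succ, mul_assoc], hb, one_smul]
  have hW : ∀ q, X (Y (X (Y q))) = q := fun q => by
    show a • b • a • b • q = q
    simp only [smul_smul]
    rw [show a * (b * (a * b)) = (a * b) ^ 2 by rw [pow_two, mul_assoc], hab, one_smul]
  have h0 : Y c0 = c0 := by
    show ((b * 1 : G) : G ⧸ H) = ((1 : G) : G ⧸ H)
    rw [mul_one]
    exact QuotientGroup.eq.mpr (by rw [mul_one]; exact H.inv_mem (Subgroup.mem_zpowers b))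
  obtain ⟨hcX, hcY⟩ := icosa_orbit X Y hX hY hW c0 h0
  have hrep : ∀ i, icosaRep X Y i c0 = ((icosaRep a b i : G) : G ⧸ H) := by
    intro i
    have h : icosaRep X Y i = MulAction.toPermHom G (G ⧸ H) (icosaRep a b i) := (icosaRep_map _ a b i).symm
    rw [h]
    show ((icosaRep a b i * 1 : G) : G ⧸ H) = _
    rw [mul_one]
  have hinv : ∀ g : G, ∀ i, ∃ j, g • (icosaRep X Y i c0) = icosaRep X Y j c0 := by
    have hfin : ∀ (s : G) (k : ℕ), 0 < k → s ^ k = 1 → (∀ i, ∃ j, s • (icosaRep X Y i c0) = icosaRep X Y j c0) →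
        ∀ i, ∃ j, s⁻¹ • (icosaRep X Y i c0) = icosaRep X Y j c0 := by
      intro s k hk hs hcl i
      have hp : ∀ m : ℕ, ∃ j, (s ^ m) • (icosaRep X Y i c0) = icosaRep X Y j c0 := by
        intro m
        induction m with
        | zero => exact ⟨i, by rw [pow_zero, one_smul]⟩
        | succ m ih =>
          obtain ⟨j, hj⟩ := ih
          obtain ⟨l, hl⟩ := hcl j
          exact ⟨l, by rw [pow_succ', mul_smul, hj, hl]⟩
      rw [inv_eq_of_mul_eq_one_right (show s * s ^ (k - 1) = 1 by rw [← pow_succ', Nat.sub_add_cancel hk, hs])]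
      exact hp (k - 1)
    intro g
    have hg : g ∈ Subgroup.closure {a, b} := hgen ▸ Subgroup.mem_top g
    induction hg using Subgroup.closure_induction'' with
    | mem x hx => rcases hx with rfl | rfl <;> assumption
    | inv_mem x hx =>
      rcases hx with rfl | rfl
      · exact hfin _ 3 (by norm_num) ha hcX
      · exact hfin _ 5 (by norm_num) hb hcY
    | one => exact fun i => ⟨i, one_smul _ _⟩
    | mul x y _ _ hx hy =>
      intro i
      obtain ⟨j, hj⟩ := hy i
      obtain ⟨l, hl⟩ := hx j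
      exact ⟨l, by rw [mul_smul, hj, hl]⟩
  intro g
  obtain ⟨j, hj⟩ := hinv g 0
  rw [hrep, hrep] at hj
  have hj' : ((g * icosaRep a b 0 : G) : G ⧸ H) = ((icosaRep a b j : G) : G ⧸ H) := hj
  rw [show icosaRep a b 0 = 1 from rfl, mul_one] at hj'
  obtain ⟨k, hk⟩ := Subgroup.mem_zpowers_iff.mp (QuotientGroup.eq.mp hj'.symm)
  refine ⟨(j, ⟨(k % 5).toNat, by omega⟩), ?_⟩
  show icosaRep a b j * b ^ (k % 5).toNat = g
  have hk' : b ^ ((k % 5).toNat : ℤ) = b ^ k := by
    rw [Int.toNat_of_nonneg (Int.emod_nonneg _ (by norm_num))]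
    conv_rhs => rw [← Int.emod_add_mul_ediv k 5, zpow_add, zpow_mul, show b ^ (5 : ℤ) = 1 by exact_mod_cast hb,
      one_zpow, mul_one]
  rw [← zpow_natCast, hk', hk, mul_inv_cancel_left]

end CfsgLib.Recognition.Zassenhaus

namespace CfsgLib.Recognition.Zassenhaus

abbrev icosaRels : Set (FreeGroup (Fin 2)) :=
  {FreeGroup.of (0 : Fin 2) ^ 3, FreeGroup.of (1 : Fin 2) ^ 5, (FreeGroup.of (0 : Fin 2) * FreeGroup.of 1) ^ 2}

abbrev binaryIcosaRels : Set (FreeGroup (Fin 3)) :=
  {FreeGroup.of (0 : Fin 3) ^ 3, FreeGroup.of (1 : Fin 3) ^ 5, FreeGroup.of (2 : Fin 3) ^ 2,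
    (FreeGroup.of (2 : Fin 3))⁻¹ * FreeGroup.of 0 * FreeGroup.of 2 * (FreeGroup.of (0 : Fin 3))⁻¹,
    (FreeGroup.of (2 : Fin 3))⁻¹ * FreeGroup.of 1 * FreeGroup.of 2 * (FreeGroup.of (1 : Fin 3))⁻¹,
    (FreeGroup.of (0 : Fin 3) * FreeGroup.of 1) ^ 2 * (FreeGroup.of (2 : Fin 3))⁻¹}

end CfsgLib.Recognition.Zassenhaus

namespace CfsgLib.Recognition.Zassenhaus

/-- The presentation of the alternating group of degree five. -/
theorem icosa_presented : Nonempty (PresentedGroup icosaRels ≃* alternatingGroup (Fin 5)) := by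
  let x : alternatingGroup (Fin 5) := ⟨Equiv.swap 0 3 * Equiv.swap 3 1, Equiv.Perm.mem_alternatingGroup.mpr (by decide +kernel)⟩
  let y : alternatingGroup (Fin 5) := ⟨finRotate 5, Equiv.Perm.mem_alternatingGroup.mpr (by decide +kernel)⟩
  have hxy : x ^ 3 = 1 ∧ y ^ 5 = 1 ∧ (x * y) ^ 2 = 1 := by decide +kernel
  have hrel : ∀ w ∈ icosaRels, FreeGroup.lift ![x, y] w = 1 := by
    rintro w (rfl | rfl | rfl)
    · simpa using hxy.1
    · simpa using hxy.2.1
    · simpa using hxy.2.2
  let F := PresentedGroup.toGroup hrel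
  set a := PresentedGroup.of (rels := icosaRels) 0 with haDef
  set b := PresentedGroup.of (rels := icosaRels) 1 with hbDef
  have hforms := icosa_forms a b
    (by simpa [haDef, PresentedGroup.of, map_pow] using
      PresentedGroup.one_of_mem (rels := icosaRels) (x := FreeGroup.of (0 : Fin 2) ^ 3) (Or.inl rfl))
    (by simpa [hbDef, PresentedGroup.of, map_pow] using
      PresentedGroup.one_of_mem (rels := icosaRels) (x := FreeGroup.of (1 : Fin 2) ^ 5) (Or.inr (Or.inl rfl)))
    (by simpa [haDef, hbDef, PresentedGroup.of, map_pow] using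
      PresentedGroup.one_of_mem (rels := icosaRels) (x := (FreeGroup.of (0 : Fin 2) * FreeGroup.of 1) ^ 2) (Or.inr (Or.inr rfl)))
    (by
      rw [eq_top_iff, ← PresentedGroup.closure_range_of, Subgroup.closure_le]
      rintro _ ⟨i, rfl⟩
      fin_cases i
      exacts [Subgroup.subset_closure (Or.inl rfl), Subgroup.subset_closure (Or.inr rfl)])
  haveI : Finite (PresentedGroup icosaRels) := Finite.of_surjective _ hforms
  have hdec : ∀ g : alternatingGroup (Fin 5), ∃ i : Fin 12, ∃ k : Fin 5, icosaRep x y i * y ^ (k : ℕ) = g := by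
    decide +kernel
  have hFa : F a = x := by simp [F, haDef]
  have hFb : F b = y := by simp [F, hbDef]
  have hFs : Function.Surjective F := fun g => by
    obtain ⟨i, k, rfl⟩ := hdec g
    exact ⟨icosaRep a b i * b ^ (k : ℕ), by rw [map_mul, map_pow, icosaRep_map, hFa, hFb]⟩
  have hle : Nat.card (PresentedGroup icosaRels) ≤ Nat.card (alternatingGroup (Fin 5)) := by
    refine (Nat.card_le_card_of_surjective _ hforms).trans ?_
    rw [Nat.card_prod, Nat.card_fin, Nat.card_fin, nat_card_alternatingGroup, Nat.card_fin]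
    decide
  exact ⟨MulEquiv.ofBijective F ((Nat.bijective_iff_surjective_and_card F).mpr
    ⟨hFs, le_antisymm hle (Nat.card_le_card_of_surjective F hFs)⟩)⟩

local notation "SL25" => Matrix.SpecialLinearGroup (Fin 2) (ZMod 5)

/-- An element of order three. -/
def binX : SL25 := ⟨!![0, -1; 1, -1], by decide +kernel⟩

/-- An element of order five. -/
def binY : SL25 := ⟨!![1, 1; 0, 1], by decide +kernel⟩

/-- The central involution. -/
def binZ : SL25 := ⟨!![-1, 0; 0, -1], by decide +kernel⟩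

theorem bin_rels : binX ^ 3 = 1 ∧ binY ^ 5 = 1 ∧ binZ ^ 2 = 1 ∧ binZ⁻¹ * binX * binZ * binX⁻¹ = 1 ∧
    binZ⁻¹ * binY * binZ * binY⁻¹ = 1 ∧ (binX * binY) ^ 2 * binZ⁻¹ = 1 :=
  ⟨Subtype.ext (by decide +kernel), Subtype.ext (by decide +kernel), Subtype.ext (by decide +kernel),
    Subtype.ext (by decide +kernel), Subtype.ext (by decide +kernel), Subtype.ext (by decide +kernel)⟩

/-- A matrix as a natural number. -/
def binCode (M : SL25) : ℕ :=
  (M.1 0 0).val * 125 + (M.1 0 1).val * 25 + (M.1 1 0).val * 5 + (M.1 1 1).val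

theorem bin_codes : ((Finset.univ : Finset (Fin 12 × Fin 5 × Fin 2)).image
    fun t => binCode (icosaRep binX binY t.1 * binY ^ (t.2.1 : ℕ) * binZ ^ (t.2.2 : ℕ))).card = 120 := by
  decide +kernel

theorem bin_injective :
    Function.Injective (fun t : Fin 12 × Fin 5 × Fin 2 => icosaRep binX binY t.1 * binY ^ (t.2.1 : ℕ) * binZ ^ (t.2.2 : ℕ)) := by
  intro t t' e
  have h := Finset.card_image_iff.mp (bin_codes.trans (by rw [Finset.card_univ]; rfl))
  exact h (Finset.mem_coe.mpr (Finset.mem_univ t)) (Finset.mem_coe.mpr (Finset.mem_univ t')) (congrArg binCode e)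

/-- The presentation of the binary icosahedral group. -/
theorem binary_icosa_presented :
    Nonempty (PresentedGroup binaryIcosaRels ≃* Matrix.SpecialLinearGroup (Fin 2) (ZMod 5)) := by
  haveI : Fact (Nat.Prime 5) := ⟨Nat.prime_five⟩
  haveI : Fact (Nat.Prime 2) := ⟨Nat.prime_two⟩
  let x := binX
  let y := binY
  let c := binZ
  have hxy := bin_rels
  have hrel : ∀ w ∈ binaryIcosaRels, FreeGroup.lift ![x, y, c] w = 1 := by
    rintro w (rfl | rfl | rfl | rfl | rfl | rfl)
    · simpa using hxy.1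
    · simpa using hxy.2.1
    · simpa using hxy.2.2.1
    · simpa using hxy.2.2.2.1
    · simpa using hxy.2.2.2.2.1
    · simpa using hxy.2.2.2.2.2
  let F := PresentedGroup.toGroup hrel
  set a := PresentedGroup.of (rels := binaryIcosaRels) 0 with haDef
  set b := PresentedGroup.of (rels := binaryIcosaRels) 1 with hbDef
  set z := PresentedGroup.of (rels := binaryIcosaRels) 2 with hzDef
  have ha : a ^ 3 = 1 := by
    simpa [haDef, PresentedGroup.of, map_pow] using
      PresentedGroup.one_of_mem (rels := binaryIcosaRels) (x := FreeGroup.of (0 : Fin 3) ^ 3) (Or.inl rfl)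
  have hb : b ^ 5 = 1 := by
    simpa [hbDef, PresentedGroup.of, map_pow] using
      PresentedGroup.one_of_mem (rels := binaryIcosaRels) (x := FreeGroup.of (1 : Fin 3) ^ 5) (Or.inr (Or.inl rfl))
  have hz : z ^ 2 = 1 := by
    simpa [hzDef, PresentedGroup.of, map_pow] using
      PresentedGroup.one_of_mem (rels := binaryIcosaRels) (x := FreeGroup.of (2 : Fin 3) ^ 2) (Or.inr (Or.inr (Or.inl rfl)))
  have hza : Commute z a := by
    have h : z⁻¹ * a * z * a⁻¹ = 1 := by
      simpa [haDef, hzDef, PresentedGroup.of] using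
        PresentedGroup.one_of_mem (rels := binaryIcosaRels)
          (x := (FreeGroup.of (2 : Fin 3))⁻¹ * FreeGroup.of 0 * FreeGroup.of 2 * (FreeGroup.of (0 : Fin 3))⁻¹)
          (Or.inr (Or.inr (Or.inr (Or.inl rfl))))
    rw [mul_inv_eq_one, mul_assoc, inv_mul_eq_iff_eq_mul] at h
    exact h.symm
  have hzb : Commute z b := by
    have h : z⁻¹ * b * z * b⁻¹ = 1 := by
      simpa [hbDef, hzDef, PresentedGroup.of] using
        PresentedGroup.one_of_mem (rels := binaryIcosaRels)
          (x := (FreeGroup.of (2 : Fin 3))⁻¹ * FreeGroup.of 1 * FreeGroup.of 2 * (FreeGroup.of (1 : Fin 3))⁻¹)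
          (Or.inr (Or.inr (Or.inr (Or.inr (Or.inl rfl)))))
    rw [mul_inv_eq_one, mul_assoc, inv_mul_eq_iff_eq_mul] at h
    exact h.symm
  have hab : (a * b) ^ 2 = z := by
    have h : (a * b) ^ 2 * z⁻¹ = 1 := by
      simpa [haDef, hbDef, hzDef, PresentedGroup.of, map_pow] using
        PresentedGroup.one_of_mem (rels := binaryIcosaRels)
          (x := (FreeGroup.of (0 : Fin 3) * FreeGroup.of 1) ^ 2 * (FreeGroup.of (2 : Fin 3))⁻¹)
          (Or.inr (Or.inr (Or.inr (Or.inr (Or.inr rfl)))))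
    exact mul_inv_eq_one.mp h
  have hgen : ∀ g, g ∈ Subgroup.closure {a, b, z} := by
    intro g
    have hg : g ∈ Subgroup.closure (Set.range (PresentedGroup.of : Fin 3 → PresentedGroup binaryIcosaRels)) := by
      rw [PresentedGroup.closure_range_of]; trivial
    refine (Subgroup.closure_le _).mpr ?_ hg
    rintro _ ⟨i, rfl⟩
    fin_cases i
    exacts [Subgroup.subset_closure (Or.inl rfl), Subgroup.subset_closure (Or.inr (Or.inl rfl)),
      Subgroup.subset_closure (Or.inr (Or.inr rfl))]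
  set Z := Subgroup.zpowers z with hZ
  have hcen : Z ≤ Subgroup.center _ := by
    rw [hZ, Subgroup.zpowers_le, Subgroup.mem_center_iff]
    intro g
    induction hgen g using Subgroup.closure_induction with
    | mem p hp =>
      rcases hp with rfl | rfl | rfl
      exacts [hza.eq.symm, hzb.eq.symm, rfl]
    | one => simp
    | mul p q _ _ hp hq => exact (((show Commute z p from hp.symm).mul_right (show Commute z q from hq.symm))).eq.symm
    | inv p _ hp => exact ((show Commute z p from hp.symm).inv_right).eq.symm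
  haveI : Z.Normal := normal_of_central hcen
  have hforms := icosa_forms (QuotientGroup.mk' Z a) (QuotientGroup.mk' Z b) (by rw [← map_pow, ha, map_one])
    (by rw [← map_pow, hb, map_one])
    (by rw [← map_mul, ← map_pow, hab]; exact (QuotientGroup.eq_one_iff z).mpr (Subgroup.mem_zpowers z))
    (by
      rw [eq_top_iff]
      intro q _
      obtain ⟨g, rfl⟩ := QuotientGroup.mk'_surjective Z q
      have hg : QuotientGroup.mk' Z g ∈ (Subgroup.closure {a, b, z}).map (QuotientGroup.mk' Z) :=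
        Subgroup.mem_map_of_mem _ (hgen g)
      rw [MonoidHom.map_closure] at hg
      refine (Subgroup.closure_le _).mpr ?_ hg
      rintro _ ⟨p, (rfl | rfl | rfl), rfl⟩
      · exact Subgroup.subset_closure (Or.inl rfl)
      · exact Subgroup.subset_closure (Or.inr rfl)
      · rw [SetLike.mem_coe, show QuotientGroup.mk' Z z = 1 from (QuotientGroup.eq_one_iff z).mpr (Subgroup.mem_zpowers z)]
        exact Subgroup.one_mem _)
  have hforms' : Function.Surjective (fun t : (Fin 12 × Fin 5) × Fin 2 =>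
      icosaRep a b t.1.1 * b ^ (t.1.2 : ℕ) * z ^ (t.2 : ℕ)) := by
    intro g
    obtain ⟨⟨i, k⟩, hik⟩ := hforms (QuotientGroup.mk' Z g)
    simp only at hik
    rw [← icosaRep_map, ← map_pow, ← map_mul] at hik
    obtain ⟨l, hl⟩ := Subgroup.mem_zpowers_iff.mp (QuotientGroup.eq.mp hik)
    refine ⟨((i, k), ⟨(l % 2).toNat, by omega⟩), ?_⟩
    show icosaRep a b i * b ^ (k : ℕ) * z ^ (l % 2).toNat = g
    have hl' : z ^ ((l % 2).toNat : ℤ) = z ^ l := by
      rw [Int.toNat_of_nonneg (Int.emod_nonneg _ (by norm_num))]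
      conv_rhs => rw [← Int.emod_add_mul_ediv l 2, zpow_add, zpow_mul, show z ^ (2 : ℤ) = 1 by exact_mod_cast hz,
        one_zpow, mul_one]
    rw [← zpow_natCast z, hl', hl, mul_inv_cancel_left]
  haveI : Finite (PresentedGroup binaryIcosaRels) := Finite.of_surjective _ hforms'
  have hdec : ∀ g : Matrix.SpecialLinearGroup (Fin 2) (ZMod 5), ∃ i : Fin 12, ∃ k : Fin 5, ∃ e : Fin 2,
      icosaRep x y i * y ^ (k : ℕ) * c ^ (e : ℕ) = g := by
    let M : Fin 12 × Fin 5 × Fin 2 → Matrix.SpecialLinearGroup (Fin 2) (ZMod 5) := fun t =>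
      icosaRep x y t.1 * y ^ (t.2.1 : ℕ) * c ^ (t.2.2 : ℕ)
    have hcard : Nat.card (Matrix.SpecialLinearGroup (Fin 2) (ZMod 5)) = 120 := by
      rw [CfsgLib.Classical.card_sl2', ZMod.card]
    have hinj : Function.Injective M := bin_injective
    have hbij := (Nat.bijective_iff_injective_and_card M).mpr ⟨hinj, by
      rw [hcard, Nat.card_prod, Nat.card_prod, Nat.card_fin, Nat.card_fin, Nat.card_fin]⟩
    intro g
    obtain ⟨⟨i, k, e⟩, he⟩ := hbij.2 g
    exact ⟨i, k, e, he⟩
  have hFa : F a = x := by simp [F, haDef]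
  have hFb : F b = y := by simp [F, hbDef]
  have hFz : F z = c := by simp [F, hzDef]
  have hFs : Function.Surjective F := fun g => by
    obtain ⟨i, k, e, rfl⟩ := hdec g
    exact ⟨icosaRep a b i * b ^ (k : ℕ) * z ^ (e : ℕ), by
      rw [map_mul, map_mul, map_pow, map_pow, icosaRep_map, hFa, hFb, hFz]⟩
  have hle : Nat.card (PresentedGroup binaryIcosaRels) ≤ Nat.card (Matrix.SpecialLinearGroup (Fin 2) (ZMod 5)) := by
    refine (Nat.card_le_card_of_surjective _ hforms').trans ?_
    rw [CfsgLib.Classical.card_sl2', ZMod.card, Nat.card_prod, Nat.card_prod, Nat.card_fin, Nat.card_fin, Nat.card_fin]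
  exact ⟨MulEquiv.ofBijective F ((Nat.bijective_iff_surjective_and_card F).mpr
    ⟨hFs, le_antisymm hle (Nat.card_le_card_of_surjective F hFs)⟩)⟩

end CfsgLib.Recognition.Zassenhaus
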